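import Cfsg.Agent.Fusion.Alperin
import Cfsg.Agent.FusionEssential.Chain

/-!
# Extending automorphisms that preserve a series

`exists_extension_of_series`: an automorphism in the system of a fully normalized `Q` preserving an
`Aut_S(Q)`-invariant series extends to every subgroup of `N_S(Q)` stabilising that series.
-/

set_option autoImplicit false

namespace CfsgLib.FusionPearl

open Cfsg Cfsg.FusionSystem CfsgLib.Fusion CfsgLib.FusionEssential

variable {Ω : Type*} [Group Ω] {S : Subgroup Ω} {F : FusionSystem S} {p : ℕ}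

theorem exists_extension_of_series [Finite S] [Fact p.Prime] (hS : IsPGroup p S)
    (hF : F.IsSaturated p) {Q : Subgroup Ω} (hQ : F.IsFullyNormalized Q) (D : ℕ → Subgroup Ω)
    (m : ℕ) (h0 : D 0 = Q) (hm : D m = ⊥) (hle : ∀ i, D i ≤ Q)
    (hN : ∀ i, normalizerIn S Q ≤ Subgroup.normalizer (D i : Set Ω)) {α : MulAut Q}
    (hα : α ∈ F.autGroup Q) (hαD : ∀ i, ∀ x : Q, (x : Ω) ∈ D i → (α x : Ω) ∈ D i)
    {T : Subgroup Ω} (hT : T ≤ normalizerIn S Q)
    (hstab : ∀ g ∈ T, ∀ i, i < m → ∀ x ∈ D i, x⁻¹ * (g * x * g⁻¹) ∈ D (i + 1)) :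
    ∃ ψ ∈ F.Hom T, ∀ (x : Q) (hx : (x : Ω) ∈ T), ψ ⟨x, hx⟩ = (α x : Ω) := by
  classical
  have := finite_of_le hQ.1
  have : Finite (MulAut Q) := Finite.of_injective (fun a => (a : Q → Q)) DFunLike.coe_injective
  obtain ⟨hQa, hQr⟩ := automized_receptive hS hF hQ
  let C : ℕ → Subgroup Q := fun i => (D i).subgroupOf Q
  let G : Subgroup (MulAut Q) :=
    { carrier := {β | β ∈ F.autGroup Q ∧ ∀ i, ∀ x : Q, (β x : Ω) ∈ D i ↔ (x : Ω) ∈ D i}
      one_mem' := ⟨one_mem _, fun i x => Iff.rfl⟩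
      mul_mem' := fun {a b} ha hb => ⟨mul_mem ha.1 hb.1, fun i x => (ha.2 i (b x)).trans (hb.2 i x)⟩
      inv_mem' := fun {a} ha => ⟨inv_mem ha.1, fun i x => by
        rw [← ha.2 i (a⁻¹ x), MulAut.apply_inv_self]⟩ }
  have hGmem : ∀ β ∈ F.autGroup Q, (∀ i, ∀ x : Q, (x : Ω) ∈ D i → (β x : Ω) ∈ D i) → β ∈ G := by
    intro β hβ hb
    refine ⟨hβ, fun i x => ⟨fun hx => ?_, hb i x⟩⟩
    have heq : (C i).map β.toMonoidHom = C i := by
      refine Subgroup.eq_of_le_of_card_ge ?_ ?_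
      · rintro _ ⟨v, hv, rfl⟩
        exact hb i v hv
      · rw [Subgroup.card_map_of_injective β.injective]
    obtain ⟨v, hv, hvx⟩ := heq.ge (show β x ∈ C i from hx)
    rw [← β.injective hvx]
    exact hv
  have hinv : ∀ β ∈ G, ∀ i, ∀ x ∈ C i, β x ∈ C i := fun β hβ i x hx => (hβ.2 i x).2 hx
  let K := stabChain G C m hinv
  have hK : IsPGroup p K := stabChain_isPGroup (hS.to_le hQ.1) (by
    show (D 0).subgroupOf Q = ⊤
    rw [h0, Subgroup.subgroupOf_self]) (by
    show (D m).subgroupOf Q = ⊥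
    rw [hm, Subgroup.bot_subgroupOf])
  set K' := K.map G.subtype with hK'
  have hAutG : autInducedBy S Q ≤ G := by
    intro β hβ
    obtain ⟨g, hgS, hgN, hg⟩ := mem_autInducedBy_iff.1 hβ
    refine hGmem β (autInducedBy_le_autGroup hQ.1 hβ) fun i x hx => ?_
    rw [hg]
    exact (Subgroup.mem_normalizer_iff.1 (hN i ⟨hgS, hgN⟩) _).1 hx
  have hnorm : G ≤ Subgroup.normalizer (K' : Set (MulAut Q)) := by
    have := Subgroup.le_normalizer_map (H := K) G.subtype
    rw [Subgroup.normalizer_eq_top_iff.2 stabChain_normal, ← MonoidHom.range_eq_map,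
      Subgroup.range_subtype] at this
    exact this
  have hX : autInducedBy S Q ⊔ K' = autInducedBy S Q := by
    refine eq_autInducedBy_of_le hQa (sup_le (autInducedBy_le_autGroup hQ.1)
      ((Subgroup.map_subtype_le _).trans fun β hβ => hβ.1)) ?_ fun β hβ => Subgroup.mem_sup_left hβ
    exact IsPGroup.to_sup_of_normal_right' (isPGroup_autInducedBy hS Q) (hK.map _)
      (hAutG.trans hnorm)
  have hI : IsIso F α := (mem_autGroup_iff hQ.1).1 hα
  have hle' : T ≤ extender S Q (Q.subtype.comp α.toMonoidHom) := by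
    intro g hg
    have hgN : g ∈ Subgroup.normalizer (Q : Set Ω) := (hT hg).2
    set β : MulAut Q := Q.normalizerMonoidHom ⟨g, hgN⟩
    refine mem_extender_of_congr (hT hg) (α := β) (fun _ => rfl) ?_
    rw [congr_self_eq]
    have hβA : β ∈ autInducedBy S Q := mem_autInducedBy_iff.2 ⟨g, (hT hg).1, hgN, fun _ => rfl⟩
    have hβK : (⟨β, hAutG hβA⟩ : G) ∈ K := fun i hi x hx => hstab g hg i hi _ hx
    have hαG := hGmem α hα hαD
    have h2 : (⟨α, hαG⟩ : G) * ⟨β, hAutG hβA⟩ * (⟨α, hαG⟩ : G)⁻¹ ∈ K :=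
      stabChain_normal.conj_mem _ hβK _
    exact hX.le (Subgroup.mem_sup_right ⟨_, h2, rfl⟩)
  obtain ⟨ψ, hψ, hψx⟩ := exists_extension hQr hI le_rfl
  exact ⟨_, restrict_mem hψ hle', fun x hx => hψx x (hle' hx)⟩

end CfsgLib.FusionPearl
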