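import Cfsg.Agent.FusionPearl.Alpha

/-!
# Minimality forces the torus element to preserve the upper series

`Data.Z_pred_inv` (`k ≥ 3`): the torus element preserves `Z (k - 1)`.
`Data.exists_central` (`k = 2`): otherwise some conjugate has its displacement in the centre.
-/

set_option autoImplicit false

namespace CfsgLib.FusionPearl

open Cfsg Cfsg.FusionSystem CfsgLib.Fusion CfsgLib.PMaxClass Subgroup
open scoped commutatorElement Pointwise

variable {Ω : Type*} [Group Ω] {S : Subgroup Ω} {p n : ℕ} {F : FusionSystem S}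

theorem fullyNormalized_of_normal [Finite S] {Q : Subgroup Ω} (hQ : Q ≤ S)
    (hN : S ≤ normalizer (Q : Set Ω)) : F.IsFullyNormalized Q :=
  ⟨hQ, fun Q' _ =>
    have := finite_of_le (normalizerIn_le S Q)
    Subgroup.card_le_of_le ((normalizerIn_le S Q').trans (le_inf le_rfl hN))⟩

/-- Restriction of an automorphism to an invariant subgroup. -/
theorem exists_restrict_aut [Finite S] {U Q : Subgroup Ω} (hU : U ≤ S) (hQ : Q ≤ U) {α : MulAut U}
    (hα : α ∈ F.autGroup U) (h : ∀ x : U, (x : Ω) ∈ Q → (α x : Ω) ∈ Q) :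
    ∃ α' : MulAut Q, α' ∈ F.autGroup Q ∧ ∀ (x : Q) (x' : U), (x : Ω) = x' → (α' x : Ω) = α x' := by
  have hI : IsIso F α := (mem_autGroup_iff hU).1 hα
  have := finite_of_le hU
  have := finite_of_le (hQ.trans hU)
  have hr : (restrictHom (U.subtype.comp α.toMonoidHom) hQ).range = Q := by
    rw [range_restrictHom]
    refine le_antisymm ?_ fun z hz => ?_
    · intro z hz
      obtain ⟨x, hx, rfl⟩ := mem_imgHom.1 hz
      exact h x hx
    · obtain ⟨x, hx, hxz⟩ := exists_preimage α hQ h hz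
      exact mem_imgHom.2 ⟨x, hx, hxz⟩
  obtain ⟨α', hα', hαx⟩ := exists_aut_of_range (restrict_mem hI hQ) hr
  refine ⟨α', hα', fun x x' hxx => ?_⟩
  rw [hαx, show x' = ⟨(x : Ω), hQ x.2⟩ from Subtype.ext hxx.symm]
  rfl

namespace Setting

variable [Fact p.Prime] [Finite S] (σ : Setting p n F)
include σ

/-- A conjugate of a layer generator with prescribed shift. -/
theorem exists_conj_mod {j : ℕ} (h2 : 2 ≤ j) (hj : j ≤ n - 2) {x : Ω} (hx : x ∈ zTerm S j)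
    (hx' : x ∉ zTerm S (j - 1)) {z : Ω} (hz : z ∈ zTerm S (j - 1)) :
    ∃ g ∈ S, ⁅g, x⁆ * z⁻¹ ∈ zTerm S (j - 2) := by
  have hn := σ.n5
  obtain ⟨s, hs, hy⟩ : ∃ s ∈ S, ⁅x, s⁆ ∉ zTerm S (j - 2) := by
    by_contra h
    push Not at h
    refine hx' ?_
    rw [show j - 1 = j - 2 + 1 by omega]
    exact mem_zTerm_succ (zTerm_le S _ hx) h
  have hyZ : ⁅s, x⁆ ∈ zTerm S (j - 1) := (commutator_pred hx hs).2
  have hy' : ⁅s, x⁆ ∉ zTerm S (j - 1 - 1) := fun h =>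
    hy (comm_symm (by rwa [show j - 1 - 1 = j - 2 by omega] at h))
  obtain ⟨m, v, hv, hzm⟩ := σ.mc.exists_eq_pow_mul (by omega) (by omega) hyZ hy' hz
  refine ⟨s ^ m, zpow_mem hs m, ?_⟩
  rw [show j - 1 - 1 = j - 2 by omega] at hv
  have h1 := comm_zpow_mem (j := j - 2) hs (zTerm_le S _ hx)
    (zTerm_mono (by omega) (commutator_pred hyZ hs).1)
    (zTerm_mono (by omega) (commutator_pred hyZ (zTerm_le S _ hx)).1) m
  rw [hzm, show ⁅s ^ m, x⁆ * (⁅s, x⁆ ^ m * v)⁻¹ = ⁅s ^ m, x⁆ * (⁅s, x⁆ ^ m)⁻¹ *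
    (⁅s, x⁆ ^ m * v⁻¹ * (⁅s, x⁆ ^ m)⁻¹) by group]
  exact mul_mem h1 (conj_mem_zTerm (inv_mem hv) (zTerm_le S _ (zpow_mem hyZ m)))

/-- Composing with a conjugation to move a generator one step down. -/
theorem exists_twist {j : ℕ} (h2 : 2 ≤ j) (hj : j ≤ n - 2) {α : MulAut (zTerm S j)}
    (hα : α ∈ F.autGroup (zTerm S j))
    (hlow : ∀ i ≤ j - 2, ∀ x : zTerm S j, (x : Ω) ∈ zTerm S i → (α x : Ω) ∈ zTerm S i)
    {x w : zTerm S j} (hx : (x : Ω) ∉ zTerm S (j - 1)) (hw : (w : Ω) ∈ zTerm S (j - 1))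
    (hαw : (α w : Ω) ∉ zTerm S (j - 1)) :
    ∃ ψ : MulAut (zTerm S j), ψ ∈ F.autGroup (zTerm S j) ∧ (ψ x : Ω) ∈ zTerm S (j - 1) ∧
      ∀ i ≤ j - 2, ∀ z : zTerm S j, (z : Ω) ∈ zTerm S i → (ψ z : Ω) ∈ zTerm S i := by
  have := finite_of_le (zTerm_le S j)
  obtain ⟨m, v, hv, hxm⟩ := σ.mc.exists_eq_pow_mul (by omega) hj (α w).2 hαw x.2
  obtain ⟨g, hg, hgr⟩ := σ.exists_conj_mod h2 hj x.2 hx
    (z := (x : Ω) * v⁻¹ * (x : Ω)⁻¹) (conj_mem_zTerm (inv_mem hv) (zTerm_le S _ x.2))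
  obtain ⟨γ, hγ, hγx⟩ : ∃ γ : MulAut (zTerm S j), γ ∈ autInducedBy S (zTerm S j) ∧
      ∀ z : zTerm S j, (γ z : Ω) = g * z * g⁻¹ :=
    ⟨(zTerm S j).normalizerMonoidHom ⟨g, le_normalizer_zTerm j hg⟩,
      mem_autInducedBy_iff.2 ⟨g, hg, le_normalizer_zTerm j hg, fun _ => rfl⟩, fun _ => rfl⟩
  have hinv : ∀ i ≤ j - 2, ∀ z : zTerm S j, (z : Ω) ∈ zTerm S i → (α⁻¹ z : Ω) ∈ zTerm S i := by
    intro i hi z hz
    refine mem_of_app_mem α (zTerm_mono (by omega)) (hlow i hi) ?_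
    rwa [MulAut.apply_inv_self]
  refine ⟨α⁻¹ * γ, mul_mem (Subgroup.inv_mem _ hα)
    (autInducedBy_le_autGroup (zTerm_le S j) hγ), ?_, fun i hi z hz => ?_⟩
  · set r := ⁅g, (x : Ω)⁆ * ((x : Ω) * v⁻¹ * (x : Ω)⁻¹)⁻¹ with hr
    have hrj : r ∈ zTerm S j := zTerm_mono (by omega) hgr
    have hgx : γ x = (⟨r, hrj⟩ : zTerm S j) * (α w) ^ m := by
      refine Subtype.ext ?_
      have key : ⁅g, (x : Ω)⁆ * x = r * (α w : Ω) ^ m := by
        rw [show (α w : Ω) ^ m = (x : Ω) * v⁻¹ by rw [hxm, mul_inv_cancel_right], hr]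
        group
      rw [hγx, conj_eq_commutator_mul, Subgroup.coe_mul, Subgroup.coe_zpow]
      exact key
    show (α⁻¹ (γ x) : Ω) ∈ _
    rw [hgx, map_mul, map_zpow, MulAut.inv_apply_self, Subgroup.coe_mul, Subgroup.coe_zpow]
    exact mul_mem (zTerm_mono (by omega) (hinv _ le_rfl _ hgr)) (zpow_mem hw m)
  · refine hinv i hi (γ z) ?_
    rw [hγx]
    exact conj_mem_zTerm hz hg

end Setting

namespace Data

variable [Fact p.Prime] [Finite S] {E : Subgroup Ω} {k : ℕ} {y u e c : Ω}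
  (T : Data p n F E k y u e c)
include T

theorem Z_k_le_U : zTerm S k ≤ Uof S E k k := by
  rw [← T.D_pred]
  exact (T.D_mono (Nat.sub_le k 1)).trans (T.D_le_U k)

/-- For `k ≥ 3` the torus element preserves `Z (k - 1)`. -/
theorem Z_pred_inv (hk : MinIdx p n F k) (hk3 : 3 ≤ k) {l l' : ℤ} {α : MulAut (Uof S E k k)}
    (hα : Tw p n F E k u e c l l' k α) (x : Uof S E k k) (hx : (x : Ω) ∈ zTerm S (k - 1)) :
    (α x : Ω) ∈ zTerm S (k - 1) := by
  have hn := T.n5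
  have hkn := T.kn3
  by_contra hαx
  have hαZ : ∀ z : Uof S E k k, (z : Ω) ∈ zTerm S k → (α z : Ω) ∈ zTerm S k := by
    rw [← T.D_pred]
    exact hα.hD (k - 1) (Nat.sub_le k 1)
  obtain ⟨α', hα', hagree⟩ := exists_restrict_aut (T.U_le_S k) T.Z_k_le_U hα.mem hαZ
  have hcZ : c ∈ zTerm S k := T.Yle T.fr.c_mem_Y
  have huZ : u ∈ zTerm S 1 := T.u_mem_one hk3
  have hαlow : ∀ i ≤ k - 2, ∀ z : zTerm S k, (z : Ω) ∈ zTerm S i → (α' z : Ω) ∈ zTerm S i := by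
    intro i hi z hz
    rw [hagree z ⟨z, T.Z_k_le_U z.2⟩ rfl]
    exact hα.hZ i (by omega) (by omega) _ hz
  obtain ⟨ψ, hψ, hψc, hψlow⟩ := T.st.exists_twist T.k2 (by omega) hα' hαlow
    (x := ⟨c, hcZ⟩) (w := ⟨x, zTerm_mono (Nat.sub_le k 1) hx⟩) (T.c_not_of_three hk3) hx
    (by rw [hagree _ x rfl]; exact hαx)
  let Dser : ℕ → Subgroup Ω := fun m => if m = 0 then zTerm S k else zTerm S (k - 1 - m)
  have hTN : zpowers e ⊔ zTerm S k ≤ normalizerIn S (zTerm S k) :=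
    sup_le (zpowers_le.2 ⟨T.eS, le_normalizer_zTerm k T.eS⟩)
      (le_normalizerIn (zTerm_le S k))
  have hstab : ∀ g ∈ zpowers e ⊔ zTerm S k, ∀ m, m < k - 1 → ∀ z ∈ Dser m,
      z⁻¹ * (g * z * g⁻¹) ∈ Dser (m + 1) := by
    intro g hg m hm z hz
    rw [show z⁻¹ * (g * z * g⁻¹) = ⁅z⁻¹, g⁆ by simp [commutatorElement_def, mul_assoc]]
    simp only [Dser] at hz ⊢
    rw [if_neg (by omega)]
    rcases Nat.eq_zero_or_pos m with rfl | hm0
    · rw [if_pos rfl] at hz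
      have hzD : z⁻¹ ∈ Dof S n E k (k - 1) := T.D_pred.symm ▸ inv_mem hz
      have hle : zpowers e ⊔ zTerm S k ≤ commSub S (k - 2) (inv_mem (zTerm_le S k hz)) := by
        refine sup_le (zpowers_le.2 ⟨T.eS, ?_⟩) fun w hw => ⟨zTerm_le S k hw, ?_⟩
        · exact zTerm_mono (by omega) (T.comm_De (by omega) hzD)
        · exact T.st.comm_Z (by omega) (by omega) (inv_mem hz) hw
      exact zTerm_mono (by omega) (hle hg).2
    · rw [if_neg (by omega)] at hz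
      exact zTerm_mono (by omega) (commutator_pred (inv_mem hz) (hTN hg).1).1
  obtain ⟨φ, hφ, hφz⟩ := exists_extension_of_series T.st.isP T.st.sat
    (fullyNormalized_of_normal (zTerm_le S k) (le_normalizer_zTerm k)) Dser (k - 1) rfl
    (by simp [Dser]; intro; omega)
    (fun i => by simp only [Dser]; split_ifs; exacts [le_rfl, zTerm_mono (by omega)])
    (fun i => by
      simp only [Dser]; split_ifs
      exacts [inf_le_right, (normalizerIn_le S _).trans (le_normalizer_zTerm _)])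
    hψ (fun i z hz => by
      simp only [Dser] at hz ⊢
      split_ifs at hz ⊢
      exacts [(ψ z).2, hψlow _ (by omega) z hz]) hTN hstab
  have hET : E ≤ zpowers e ⊔ zTerm S k := fun w hw => by
    obtain ⟨i, j, m, rfl⟩ := T.fr.span w hw
    exact mul_mem (mul_mem (mem_sup_right (T.Yle (zpow_mem T.fr.u_mem_Y i)))
      (mem_sup_left (zpow_mem (mem_zpowers e) j))) (mem_sup_right (T.Yle (zpow_mem T.fr.c_mem_Y m)))
  have hE' := T.st.isConj_target T.tgt (isConj_restrict hφ hET)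
  obtain ⟨y', u', e', c', fr'⟩ := T.st.exists_goodFrame hE'
  have hYT : Yof S n E ≤ zpowers e ⊔ zTerm S k := inf_le_left.trans hET
  have hYim : imgHom φ (Yof S n E) ≤ zTerm S (k - 1) := by
    intro w hw
    obtain ⟨z, hz, rfl⟩ := mem_imgHom.1 hw
    obtain ⟨i, m, him⟩ := T.fr.mem_Yof T.st T.tgt hz
    have huT : u ∈ zpowers e ⊔ zTerm S k := mem_sup_right (zTerm_mono (by omega) huZ)
    have hcT : c ∈ zpowers e ⊔ zTerm S k := mem_sup_right hcZ
    rw [show z = ⟨u, huT⟩ ^ i * ⟨c, hcT⟩ ^ m from Subtype.ext him, map_mul, map_zpow, map_zpow]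
    refine mul_mem (zpow_mem ?_ i) (zpow_mem ?_ m)
    · rw [hφz ⟨u, zTerm_mono (by omega) huZ⟩ huT]
      exact zTerm_mono (by omega) (hψlow 1 (by omega) _ huZ)
    · rw [hφz ⟨c, hcZ⟩ hcT]
      exact hψc
  refine hk _ hE' (k - 1) (by omega) ?_
  have hYle : imgHom φ (Yof S n E) ≤ Yof S n (imgHom φ E) :=
    le_inf (imgHom_mono φ inf_le_left) (hYim.trans (zTerm_mono (by omega)))
  have : Finite (Yof S n (imgHom φ E)) := finite_of_le
    ((inf_le_left : Yof S n (imgHom φ E) ≤ imgHom φ E).trans (imgHom_le hφ E))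
  have heq := Subgroup.eq_of_le_of_card_ge hYle (by
    rw [fr'.card_Yof T.st hE', card_imgHom (F.injective_of_mem hφ) hYT, T.fr.card_Yof T.st T.tgt])
  exact heq.ge.trans hYim

/-- For `k = 2`, if neither `u` nor `c` is central, some target has `u` central. -/
theorem exists_central (hk2 : k = 2) (hu : u ∉ zTerm S 1) (hc : c ∉ zTerm S 1) {l l' : ℤ}
    (hl : ¬ (p : ℤ) ∣ l - 1) {α : MulAut (Uof S E k k)} (hα : Tw p n F E k u e c l l' k α) :
    ∃ (E' : Subgroup Ω) (y' u' e' c' : Ω),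
      Data p n F E' k y' u' e' c' ∧ u' ∈ zTerm S 1 := by
  subst hk2
  have hn := T.n5
  have hp := T.st.mc.prime
  have hY : Yof S n E = zTerm S 2 := T.fr.dich.resolve_left hu
  have hαZ : ∀ z : Uof S E 2 2, (z : Ω) ∈ zTerm S 2 → (α z : Ω) ∈ zTerm S 2 := by
    rw [← hY, ← T.D_one]
    exact hα.hD 1 (by omega)
  obtain ⟨α', hα', hagree⟩ := exists_restrict_aut (T.U_le_S 2) T.Z_k_le_U hα.mem hαZ
  have huZ : u ∈ zTerm S 2 := hY ▸ T.fr.u_mem_Y
  have hcZ : c ∈ zTerm S 2 := hY ▸ T.fr.c_mem_Y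
  have huU : u ∈ Uof S E 2 2 := T.E_le_U 2 T.fr.hu
  have hcU : c ∈ Uof S E 2 2 := T.E_le_U 2 T.fr.hc
  obtain ⟨z₀, hz₀, hz₀'⟩ := T.st.mc.exists_layer (i := 1) le_rfl (by omega)
  rw [show 1 - 1 = 0 from rfl, zTerm_zero, Subgroup.mem_bot] at hz₀'
  obtain ⟨a, b, hab⟩ := T.fr.mem_Yof T.st T.tgt (hY.symm ▸ zTerm_mono (by omega) hz₀)
  have hz₀U : z₀ ∈ Uof S E 2 2 := hab ▸ mul_mem (zpow_mem huU a) (zpow_mem hcU b)
  have hαz : (α ⟨z₀, hz₀U⟩ : Ω) = u ^ (l * a) * c ^ b := by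
    rw [show (⟨z₀, hz₀U⟩ : Uof S E 2 2) = ⟨u, huU⟩ ^ a * ⟨c, hcU⟩ ^ b from Subtype.ext hab,
      map_mul, map_zpow, map_zpow, Subgroup.coe_mul, Subgroup.coe_zpow, Subgroup.coe_zpow,
      hα.hu _ rfl, hα.hc _ rfl, zpow_mul]
  have hne : (α ⟨z₀, hz₀U⟩ : Ω) ∉ zTerm S 1 := by
    intro h
    have h1 : u ^ ((l - 1) * a) ∈ zTerm S 1 := by
      have h2 := mul_mem h (inv_mem hz₀)
      rwa [hαz, hab, show u ^ (l * a) * c ^ b * (u ^ a * c ^ b)⁻¹ = u ^ ((l - 1) * a) by group] at h2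
    obtain hd | ⟨t, rfl⟩ := (Nat.prime_iff_prime_int.1 hp).dvd_or_dvd
      (dvd_of_zpow_mem T.st.isP (T.ES T.fr.hu) hu h1)
    · exact hl hd
    · have hcb : z₀ = c ^ b := by
        rw [hab, zpow_mul, zpow_natCast, T.tgt.soft.exp u T.fr.hu, one_zpow, one_mul]
      by_cases hb : (p : ℤ) ∣ b
      · obtain ⟨r, rfl⟩ := hb
        exact hz₀' (by rw [hcb, zpow_mul, zpow_natCast, T.tgt.soft.exp c T.fr.hc, one_zpow])
      · exact hc (mem_of_zpow_mem T.st.isP T.cS hb (hcb ▸ hz₀))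
  obtain ⟨ψ, hψ, hψu, -⟩ := T.st.exists_twist le_rfl (by omega) hα'
    (fun i hi z hz => by
      obtain rfl : i = 0 := by omega
      rw [zTerm_zero, Subgroup.mem_bot] at hz ⊢
      rw [show z = 1 from Subtype.ext hz, map_one]
      rfl)
    (x := ⟨u, huZ⟩) (w := ⟨z₀, zTerm_mono (by omega) hz₀⟩) hu hz₀
    (by rw [hagree _ ⟨z₀, hz₀U⟩ rfl]; exact hne)
  let Dser : ℕ → Subgroup Ω := fun m => if m = 0 then zTerm S 2 else ⊥
  have hTN : Uof S E 2 2 ≤ normalizerIn S (zTerm S 2) :=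
    le_inf (T.U_le_S 2) ((T.U_le_S 2).trans (le_normalizer_zTerm 2))
  have hstab : ∀ g ∈ Uof S E 2 2, ∀ m, m < 1 → ∀ z ∈ Dser m,
      z⁻¹ * (g * z * g⁻¹) ∈ Dser (m + 1) := by
    intro g hg m hm z hz
    obtain rfl : m = 0 := by omega
    change z ∈ zTerm S 2 at hz
    show z⁻¹ * (g * z * g⁻¹) ∈ (⊥ : Subgroup Ω)
    rw [Subgroup.mem_bot,
      show z⁻¹ * (g * z * g⁻¹) = ⁅z⁻¹, g⁆ by simp [commutatorElement_def, mul_assoc]]
    have hz' : z⁻¹ ∈ zTerm S 2 := inv_mem hz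
    have hle : Uof S E 2 2 ≤ commSub S 0 (zTerm_le S 2 hz') := by
      refine sup_le (fun w hw => ⟨T.ES hw, ?_⟩) fun w hw => ⟨zTerm_le S _ hw, ?_⟩
      · rw [zTerm_zero, Subgroup.mem_bot, commutatorElement_eq_one_iff_mul_comm]
        exact T.Y_comm (hY.symm ▸ hz') hw
      · rw [ix_of_ge le_rfl] at hw
        exact T.st.comm_Z (by omega) (by omega) hz' hw
    have := (hle hg).2
    rwa [zTerm_zero, Subgroup.mem_bot] at this
  obtain ⟨φ, hφ, hφz⟩ := exists_extension_of_series T.st.isP T.st.sat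
    (fullyNormalized_of_normal (zTerm_le S 2) (le_normalizer_zTerm 2)) Dser 1 rfl (by simp [Dser])
    (fun i => by simp only [Dser]; split_ifs; exacts [le_rfl, bot_le])
    (fun i => by
      simp only [Dser]; split_ifs
      · exact inf_le_right
      · exact (normalizerIn_le S _).trans (zTerm_zero (S := S) ▸ le_normalizer_zTerm 0))
    hψ (fun i z hz => by
      simp only [Dser] at hz ⊢
      split_ifs at hz ⊢
      · exact (ψ z).2
      · rw [Subgroup.mem_bot] at hz ⊢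
        rw [show z = 1 from Subtype.ext hz, map_one]
        rfl) hTN hstab
  have hET : E ≤ Uof S E 2 2 := T.E_le_U 2
  have hE' := T.st.isConj_target T.tgt (isConj_restrict hφ hET)
  obtain ⟨y', u', e', c', fr'⟩ := T.st.exists_goodFrame hE'
  have hN2 : normalizerIn S E = Uof S E 2 2 := by
    have := T.normalizer_U le_rfl (by omega : 1 < 2) (T.ok 1)
    rwa [T.U_one] at this
  have hyU : y ∈ Uof S E 2 2 := hN2.le T.fr.hy
  set Y : Uof S E 2 2 := ⟨y, hyU⟩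
  have hYN : φ Y ∈ normalizerIn S (imgHom φ E) := by
    refine ⟨apply_mem hφ Y, ?_⟩
    have := finite_of_le (imgHom_le hφ E)
    refine mem_normalizer_iff_map_conj_eq.2 (Subgroup.eq_of_le_of_card_ge ?_
      (by rw [Subgroup.card_map_of_injective (MulEquiv.injective _)]))
    rintro _ ⟨_, hz, rfl⟩
    obtain ⟨z, hzE, rfl⟩ := mem_imgHom.1 hz
    show φ Y * φ z * (φ Y)⁻¹ ∈ _
    rw [← map_inv, ← map_mul, ← map_mul]
    exact apply_mem_imgHom φ ((Subgroup.mem_normalizer_iff.1 T.fr.hy.2 _).1 hzE)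
  have heU : e ∈ Uof S E 2 2 := T.e_mem_U 2
  obtain ⟨m, hm⟩ := fr'.disp_mem T.st hE' hYN
    (apply_mem_imgHom φ (x := ⟨e, heU⟩) T.fr.he)
  have hm' : u' ^ m = φ ⟨u, huU⟩ := by
    rw [show u' ^ m = ⁅φ Y, φ ⟨e, heU⟩⁆ from hm, ← map_commutatorElement]
    exact congrArg φ (Subtype.ext T.fr.ye)
  have hu' : u' ∈ zTerm S 1 := by
    refine mem_of_zpow_mem T.st.isP (hE'.le fr'.hu) (m := m) ?_ ?_
    · rintro ⟨t, rfl⟩
      apply T.fr.u_ne
      rw [zpow_mul, zpow_natCast, hE'.soft.exp u' fr'.hu, one_zpow] at hm'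
      exact congrArg Subtype.val (F.injective_of_mem hφ (hm'.symm.trans (map_one φ).symm))
    · rw [hm', hφz ⟨u, huZ⟩ huU]
      exact hψu
  have hYim : imgHom φ (Yof S n E) ≤ zTerm S 2 := by
    intro w hw
    obtain ⟨z, hz, rfl⟩ := mem_imgHom.1 hw
    rw [hY] at hz
    rw [show z = ⟨((⟨(z : Ω), hz⟩ : zTerm S 2) : Ω), z.2⟩ from rfl, hφz ⟨(z : Ω), hz⟩ z.2]
    exact (ψ _).2
  have hYle : imgHom φ (Yof S n E) ≤ Yof S n (imgHom φ E) :=
    le_inf (imgHom_mono φ inf_le_left) (hYim.trans (zTerm_mono (by omega)))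
  have : Finite (Yof S n (imgHom φ E)) := finite_of_le
    ((inf_le_left : Yof S n (imgHom φ E) ≤ imgHom φ E).trans (imgHom_le hφ E))
  have hYT : Yof S n E ≤ Uof S E 2 2 := inf_le_left.trans hET
  have heq := Subgroup.eq_of_le_of_card_ge hYle (by
    rw [fr'.card_Yof T.st hE', card_imgHom (F.injective_of_mem hφ) hYT,
      T.fr.card_Yof T.st T.tgt])
  refine ⟨_, y', u', e', c', ⟨T.st, hE', fr', le_rfl, T.kn, heq.ge.trans hYim, fun h => ?_⟩, hu'⟩
  have := finite_of_le (zTerm_le S (2 - 1))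
  have h1 := Subgroup.card_le_of_le h
  rw [fr'.card_Yof T.st hE', T.st.mc.card_zTerm (by omega)] at h1
  have := (Nat.pow_le_pow_iff_right hp.one_lt).1 h1
  omega

end Data

end CfsgLib.FusionPearl
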