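import Cfsg.Agent.FusionPearl.Soft
import Cfsg.Agent.FusionPearl.Extend
import Cfsg.Agent.PMaxClass.Ambient

/-!
# The setting of a soft elementary abelian subgroup in a `p`-group of maximal class

`Setting p n F`; `Target p F E`; `exists_goodFrame`: for such `E` a basis `u, e, c` with
`u, c` in the term `n - 2` of the upper series and `e` outside it.
-/

set_option autoImplicit false

namespace CfsgLib.FusionPearl

open Cfsg Cfsg.FusionSystem CfsgLib.Fusion CfsgLib.PMaxClass Subgroup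
open scoped Pointwise
open scoped commutatorElement

section Calc

variable {T : Type*} [Group T]

theorem zpow_conj_of_central {x s : T} (hx : Commute ⁅x, s⁆ x) (a : ℤ) :
    x ^ a * s * (x ^ a)⁻¹ = ⁅x, s⁆ ^ a * s := by
  have h1 : x * s * x⁻¹ = ⁅x, s⁆ * s := by rw [commutatorElement_def]; group
  induction a with
  | zero => simp
  | succ i ih =>
    rw [zpow_add_one, zpow_add_one, mul_inv_rev,
      show x ^ (i : ℤ) * x * s * (x⁻¹ * (x ^ (i : ℤ))⁻¹) =
        x ^ (i : ℤ) * (x * s * x⁻¹) * (x ^ (i : ℤ))⁻¹ by group, h1]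
    calc x ^ (i : ℤ) * (⁅x, s⁆ * s) * (x ^ (i : ℤ))⁻¹
        = x ^ (i : ℤ) * ⁅x, s⁆ * (x ^ (i : ℤ))⁻¹ * (x ^ (i : ℤ) * s * (x ^ (i : ℤ))⁻¹) := by group
      _ = ⁅x, s⁆ * (⁅x, s⁆ ^ (i : ℤ) * s) := by
          rw [ih, (hx.zpow_right _).symm.eq, mul_inv_cancel_right]
      _ = ⁅x, s⁆ ^ (i : ℤ) * ⁅x, s⁆ * s := by
          rw [← mul_assoc, (Commute.self_zpow _ _).eq]
  | pred i ih =>
    have h2 : x⁻¹ * s * x = ⁅x, s⁆⁻¹ * s := by
      have h3 : x * (⁅x, s⁆⁻¹ * s) * x⁻¹ = s := by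
        rw [show x * (⁅x, s⁆⁻¹ * s) * x⁻¹ = (x * ⁅x, s⁆⁻¹ * x⁻¹) * (x * s * x⁻¹) by group, h1,
          hx.inv_left.symm.eq, mul_inv_cancel_right, ← mul_assoc, inv_mul_cancel, one_mul]
      calc x⁻¹ * s * x = x⁻¹ * (x * (⁅x, s⁆⁻¹ * s) * x⁻¹) * x := by rw [h3]
        _ = _ := by group
    rw [zpow_sub_one, zpow_sub_one, mul_inv_rev, inv_inv,
      show x ^ (-i : ℤ) * x⁻¹ * s * (x * (x ^ (-i : ℤ))⁻¹) =
        x ^ (-i : ℤ) * (x⁻¹ * s * x) * (x ^ (-i : ℤ))⁻¹ by group, h2]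
    calc x ^ (-i : ℤ) * (⁅x, s⁆⁻¹ * s) * (x ^ (-i : ℤ))⁻¹
        = x ^ (-i : ℤ) * ⁅x, s⁆⁻¹ * (x ^ (-i : ℤ))⁻¹ * (x ^ (-i : ℤ) * s * (x ^ (-i : ℤ))⁻¹) := by
          group
      _ = ⁅x, s⁆⁻¹ * (⁅x, s⁆ ^ (-i : ℤ) * s) := by
          rw [ih, (hx.inv_left.zpow_right _).symm.eq, mul_inv_cancel_right]
      _ = ⁅x, s⁆ ^ (-i : ℤ) * ⁅x, s⁆⁻¹ * s := by
          rw [← mul_assoc, ((Commute.refl ⁅x, s⁆).inv_left.zpow_right _).eq]

theorem commutator_zpow_zpow {x s : T} (hx : Commute ⁅x, s⁆ x) (hs : Commute ⁅x, s⁆ s) (a b : ℤ) :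
    ⁅x ^ a, s ^ b⁆ = ⁅x, s⁆ ^ (a * b) := by
  rw [commutatorElement_def, ← conj_zpow, zpow_conj_of_central hx, (hs.zpow_left a).mul_zpow,
    mul_inv_cancel_right, zpow_mul]

/-- Bilinearity of commutators with commuting perturbations. -/
theorem commutator_calc {x s d k : T} (hds : Commute d s) (hdk : Commute d k) (hkx : Commute k x)
    (hx : Commute ⁅x, s⁆ x) (hs : Commute ⁅x, s⁆ s) (a b : ℤ) :
    ⁅x ^ a * d, s ^ b * k⁆ = ⁅x, s⁆ ^ (a * b) := by
  rw [← commutator_zpow_zpow hx hs]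
  have h1 : d * (s ^ b * k) * d⁻¹ = s ^ b * k := by
    rw [((hds.zpow_right b).mul_right hdk).eq, mul_inv_cancel_right]
  have h2 : k * (x ^ a)⁻¹ * k⁻¹ = (x ^ a)⁻¹ := by
    rw [(hkx.zpow_right a).inv_right.eq, mul_inv_cancel_right]
  simp only [commutatorElement_def]
  calc x ^ a * d * (s ^ b * k) * (x ^ a * d)⁻¹ * (s ^ b * k)⁻¹
      = x ^ a * (d * (s ^ b * k) * d⁻¹) * (x ^ a)⁻¹ * k⁻¹ * (s ^ b)⁻¹ := by group
    _ = x ^ a * s ^ b * (k * (x ^ a)⁻¹ * k⁻¹) * (s ^ b)⁻¹ := by rw [h1]; group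
    _ = _ := by rw [h2]

theorem commutator_mul_right' (x a b : T) : ⁅x, a * b⁆ = ⁅x, a⁆ * (a * ⁅x, b⁆ * a⁻¹) := by
  simp only [commutatorElement_def]; group

theorem commutator_inv_right' (x a : T) : ⁅x, a⁻¹⁆ = a⁻¹ * ⁅x, a⁆⁻¹ * a := by
  simp only [commutatorElement_def]; group

theorem conj_eq_commutator_mul (g x : T) : g * x * g⁻¹ = ⁅g, x⁆ * x := by
  simp only [commutatorElement_def]; group

/-- In a finite `p`-group a subgroup of index `p` and an element outside generate. -/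
theorem exists_pow_mul_of_index [Finite T] {p : ℕ} [Fact p.Prime] (hT : IsPGroup p T)
    {A B : Subgroup T} (hAB : A ≤ B) (hcard : Nat.card B = Nat.card A * p) {x : T} (hx : x ∈ B)
    (hxA : x ∉ A) {w : T} (hw : w ∈ B) : ∃ (j : ℤ) (v : T), v ∈ A ∧ w = x ^ j * v := by
  have hp := (Fact.out : p.Prime)
  have hidx : (A.subgroupOf B).index = p := by
    have h1 := Subgroup.card_mul_index (A.subgroupOf B)
    rw [Nat.card_congr (Subgroup.subgroupOfEquivOfLe hAB).toEquiv, hcard] at h1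
    exact Nat.eq_of_mul_eq_mul_left Nat.card_pos h1
  have hB := hT.to_subgroup B
  have hnorm : (A.subgroupOf B).Normal := by
    rw [← normalizer_eq_top_iff]
    have := hB.isNilpotent
    have hlt : A.subgroupOf B < ⊤ := lt_top_iff_ne_top.2 fun h => by
      rw [h, index_top] at hidx; exact hp.one_lt.ne hidx
    have h2 := Group.normalizerCondition_of_isNilpotent _ hlt
    have h3 := card_mul_le_of_lt hB h2
    refine Subgroup.eq_top_of_le_card _ ?_
    calc Nat.card B = Nat.card (A.subgroupOf B) * p := by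
          rw [Nat.card_congr (Subgroup.subgroupOfEquivOfLe hAB).toEquiv, hcard]
      _ ≤ _ := h3
  have hne : ((⟨x, hx⟩ : B) : B ⧸ A.subgroupOf B) ≠ 1 := fun e =>
    hxA ((QuotientGroup.eq_one_iff (N := A.subgroupOf B) _).1 e)
  obtain ⟨j, hj⟩ := mem_zpowers_of_prime_card (p := p) (g := ((⟨x, hx⟩ : B) : B ⧸ A.subgroupOf B))
    (g' := ((⟨w, hw⟩ : B) : B ⧸ A.subgroupOf B))
    (by rw [← Subgroup.index_eq_card]; exact hidx) hne
  refine ⟨j, (x ^ j)⁻¹ * w, ?_, by group⟩
  simp only at hj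
  rw [← QuotientGroup.mk_zpow, QuotientGroup.eq] at hj
  simpa [Subgroup.mem_subgroupOf] using hj

end Calc

variable {Ω : Type*} [Group Ω] {S : Subgroup Ω} {p n : ℕ}

/-- The standing hypotheses. -/
structure Setting (p n : ℕ) (F : FusionSystem S) : Prop where
  mc : MaxClass S p n
  n5 : 5 ≤ n
  p5 : 5 ≤ p
  sat : F.IsSaturated p

/-- A soft centric subgroup. -/
structure Target (p : ℕ) (F : FusionSystem S) (E : Subgroup Ω) : Prop where
  soft : Soft p F E
  centric : F.IsCentric E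

variable {F : FusionSystem S}

namespace Setting

variable (σ : Setting p n F)
include σ

theorem isP : IsPGroup p S := σ.mc.isPGroup

theorem card_S : Nat.card S = p ^ n := σ.mc.card_eq

theorem pow5_le : p ^ 5 ≤ Nat.card S := by
  rw [σ.card_S]; exact Nat.pow_le_pow_right σ.mc.prime.pos σ.n5

theorem card_ne : Nat.card S ≠ p ^ 3 := fun h => by
  have h1 := Nat.pow_right_injective σ.mc.prime.two_le (σ.card_S.symm.trans h)
  have := σ.n5
  omega

theorem Z_top {i : ℕ} (hi : n - 1 ≤ i) : zTerm S i = S :=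
  σ.mc.zTerm_top (by have := σ.n5; omega) hi

theorem comm_Z {i j k : ℕ} (hi : i + 2 ≤ n) (hk : i + j ≤ n + k) {x y : Ω}
    (hx : x ∈ zTerm S i) (hy : y ∈ zTerm S j) : ⁅x, y⁆ ∈ zTerm S k :=
  σ.mc.commutator_zTerm (by have := σ.n5; omega) hi hk hx hy

theorem commute_Z {i j : ℕ} (hi : i + 2 ≤ n) (hk : i + j ≤ n) {x y : Ω}
    (hx : x ∈ zTerm S i) (hy : y ∈ zTerm S j) : x * y = y * x :=
  σ.mc.commute_zTerm (by have := σ.n5; omega) hi hk hx hy

theorem isConj_target [Finite S] {E E' : Subgroup Ω} (hE : Target p F E) (h : F.IsConj E E') :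
    Target p F E' :=
  ⟨hE.soft.isConj' hE.centric h, isCentric_of_isConj hE.centric h⟩

theorem card_N [Finite S] [Fact p.Prime] {E : Subgroup Ω} (hE : Target p F E) :
    Nat.card (normalizerIn S E) = p ^ 4 :=
  hE.soft.card_normalizer σ.isP σ.card_ne

theorem fullyNormalized [Finite S] [Fact p.Prime] {E : Subgroup Ω} (hE : Target p F E) :
    F.IsFullyNormalized E :=
  hE.soft.isFullyNormalized σ.isP σ.card_ne hE.centric

end Setting

/-- The elements `w` with `⁅x, w⁆ ∈ Z j`. -/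
def commSub (S : Subgroup Ω) (j : ℕ) {x : Ω} (_hx : x ∈ S) : Subgroup Ω where
  carrier := {w | w ∈ S ∧ ⁅x, w⁆ ∈ zTerm S j}
  one_mem' := ⟨one_mem _, by rw [commutatorElement_one_right]; exact one_mem _⟩
  mul_mem' := fun {a b} ha hb => ⟨mul_mem ha.1 hb.1, by
    rw [commutator_mul_right']
    exact mul_mem ha.2 (conj_mem_zTerm hb.2 ha.1)⟩
  inv_mem' := fun {a} ha => ⟨inv_mem ha.1, by
    rw [commutator_inv_right']
    simpa using conj_mem_zTerm (inv_mem ha.2) (inv_mem ha.1)⟩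

theorem mem_commSub {j : ℕ} {x w : Ω} {hx : x ∈ S} :
    w ∈ commSub S j hx ↔ w ∈ S ∧ ⁅x, w⁆ ∈ zTerm S j := Iff.rfl

theorem comm_symm {j : ℕ} {x w : Ω} (h : ⁅x, w⁆ ∈ zTerm S j) : ⁅w, x⁆ ∈ zTerm S j := by
  rw [← commutatorElement_inv]
  exact inv_mem h

/-- Bound on commutators of two subgroups given on generators. -/
theorem comm_mem_sup {j : ℕ} {A B C : Subgroup Ω} (hA : A ≤ S) (hB : B ≤ S) (hC : C ≤ S)
    (hAC : ∀ a ∈ A, ∀ c ∈ C, ⁅a, c⁆ ∈ zTerm S j) (hBC : ∀ b ∈ B, ∀ c ∈ C, ⁅b, c⁆ ∈ zTerm S j)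
    {x w : Ω} (hx : x ∈ A ⊔ B) (hw : w ∈ C) : ⁅x, w⁆ ∈ zTerm S j := by
  have h : A ⊔ B ≤ commSub S j (hC hw) := sup_le
    (fun a ha => ⟨hA ha, comm_symm (hAC a ha w hw)⟩) fun b hb => ⟨hB hb, comm_symm (hBC b hb w hw)⟩
  exact comm_symm (h hx).2

/-- The trace of `E` on the term `n - 2`. -/
def Yof (S : Subgroup Ω) (n : ℕ) (E : Subgroup Ω) : Subgroup Ω := E ⊓ zTerm S (n - 2)

/-- An adapted basis of `E`. -/
structure GoodFrame (p n : ℕ) (F : FusionSystem S) (E : Subgroup Ω) (y u e c : Ω) : Prop where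
  hy : y ∈ normalizerIn S E
  hyE : y ∉ E
  hu : u ∈ E
  he : e ∈ E
  hc : c ∈ E
  u_ne : u ≠ 1
  yu : y * u * y⁻¹ = u
  yc : y * c * y⁻¹ = c
  ye : ⁅y, e⁆ = u
  c_not : c ∉ Subgroup.zpowers u
  span : ∀ x ∈ E, ∃ i j l : ℤ, x = u ^ i * e ^ j * c ^ l
  uZ : u ∈ zTerm S (n - 2)
  cZ : c ∈ zTerm S (n - 2)
  eZ : e ∉ zTerm S (n - 2)
  dich : u ∈ zTerm S 1 ∨ Yof S n E = zTerm S 2
  torus : ∀ a b : ℤ, (p : ℤ) ∣ a * b - 1 → ∃ h ∈ F.autGroup E,
    ((h ⟨u, hu⟩ : E) : Ω) = u ^ a ∧ ((h ⟨e, he⟩ : E) : Ω) = e ^ b ∧ ((h ⟨c, hc⟩ : E) : Ω) = c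

theorem Target.comm' {E : Subgroup Ω} (hE : Target p F E) {a b : Ω} (ha : a ∈ E) (hb : b ∈ E) :
    a * b = b * a :=
  congrArg Subtype.val (hE.soft.comm.is_comm.comm (⟨a, ha⟩ : E) ⟨b, hb⟩)

theorem Target.le {E : Subgroup Ω} (hE : Target p F E) : E ≤ S := hE.soft.le

namespace Setting

variable (σ : Setting p n F) {E : Subgroup Ω}
include σ

theorem orderOf_E [Fact p.Prime] (hE : Target p F E) {x : Ω} (hx : x ∈ E) (h1 : x ≠ 1) :
    orderOf x = p :=
  orderOf_eq_prime (hE.soft.exp x hx) h1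

theorem N_eq_of_le [Finite S] [Fact p.Prime] (hE : Target p F E) {H : Subgroup Ω}
    (hH : H ≤ normalizerIn S E) (hEH : E < H) : H = normalizerIn S E := by
  have := finite_of_le (normalizerIn_le S E)
  have : Finite H := Finite.of_injective _ (Subgroup.inclusion_injective hH)
  refine Subgroup.eq_of_le_of_card_ge hH ?_
  rw [σ.card_N hE]
  have h1 : Nat.card E < Nat.card H := Set.Finite.card_lt_card (Set.toFinite (H : Set Ω)) hEH
  obtain ⟨k, hk⟩ := IsPGroup.iff_card.1 (σ.isP.to_le (hH.trans (normalizerIn_le S E)))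
  rw [hE.soft.card, hk] at h1
  rw [hk]
  exact Nat.pow_le_pow_right σ.mc.prime.pos
    ((Nat.pow_lt_pow_iff_right σ.mc.prime.one_lt).1 h1)

/-- `E` is not contained in the term `n - 2`. -/
theorem not_le_top [Finite S] [Fact p.Prime] (hE : Target p F E) : ¬ E ≤ zTerm S (n - 2) := by
  intro hle
  have hn := σ.n5
  have hp := σ.mc.prime
  have := finite_of_le (zTerm_le S (n - 2))
  have := finite_of_le hE.le
  have hZ2 : zTerm S 2 ≤ E := fun z hz => hE.soft.cent (mem_centralizerIn'.2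
    ⟨zTerm_le S 2 hz, fun x hx => by
      rw [σ.commute_Z (i := 2) (j := n - 2) (by omega) (by omega) hz (hle hx), mul_inv_cancel_right]⟩)
  rcases Nat.lt_or_ge n 6 with h6 | h6
  · have hn5 : n = 5 := by omega
    subst hn5
    have heq : E = zTerm S (5 - 2) := Subgroup.eq_of_le_of_card_ge hle
      (by rw [σ.mc.card_zTerm le_rfl, hE.soft.card])
    have h1 : S ≤ normalizerIn S E := le_inf le_rfl (heq ▸ le_normalizer_zTerm _)
    have := finite_of_le (normalizerIn_le S E)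
    have h2 := Subgroup.card_le_of_le h1
    rw [σ.card_N hE, σ.card_S] at h2
    have := (Nat.pow_le_pow_iff_right hp.one_lt).1 h2
    omega
  have hN4 : zTerm S 4 ≤ normalizerIn S E := fun g hg =>
    ⟨zTerm_le S 4 hg, mem_normalizer_iff_map_conj_eq.2 (Subgroup.eq_of_le_of_card_ge (by
      rintro _ ⟨x, hx, rfl⟩
      show g * x * g⁻¹ ∈ E
      rw [conj_eq_commutator_mul]
      exact mul_mem (hZ2 (σ.comm_Z (k := 2) (by omega) (by omega) hg (hle hx))) hx)
      (by rw [Subgroup.card_map_of_injective (MulEquiv.injective _)]))⟩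
  have hfinN := finite_of_le (normalizerIn_le S E)
  have h4N : zTerm S 4 = normalizerIn S E := Subgroup.eq_of_le_of_card_ge hN4
    (by rw [σ.card_N hE, σ.mc.card_zTerm (by omega)])
  have hE4 : E ≤ zTerm S 4 := h4N ▸ le_normalizerIn hE.le
  obtain ⟨x, hx, hx'⟩ := σ.mc.exists_layer (i := 4) (by omega) (by omega)
  -- the elements acting trivially on `x` modulo `Z 2`
  set K := commSub S 2 (zTerm_le S 4 hx) with hK
  have hKN : K ≤ normalizerIn S E := by
    intro g hg
    obtain ⟨hgS, hg⟩ := hg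
    refine ⟨hgS, mem_normalizer_iff_map_conj_eq.2 (Subgroup.eq_of_le_of_card_ge ?_
      (by rw [Subgroup.card_map_of_injective (MulEquiv.injective _)]))⟩
    rintro _ ⟨a, ha, rfl⟩
    show g * a * g⁻¹ ∈ E
    rw [conj_eq_commutator_mul]
    refine mul_mem (hZ2 ?_) ha
    have hle4 : zTerm S 4 ≤ commSub S 2 hgS := by
      refine σ.mc.le_of_mem_layer (by omega) (by omega) (fun w hw => ⟨zTerm_le S 3 hw, ?_⟩) hx hx'
        ⟨zTerm_le S 4 hx, comm_symm hg⟩
      exact (commutator_pred (i := 3) hw hgS).2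
    exact (hle4 (hE4 ha)).2
  -- `|S : K| ≤ p`
  let f : S → zTerm S 3 := fun g =>
    ⟨⁅x, (g : Ω)⁆, (commutator_pred (i := 4) hx g.2).1⟩
  have := finite_of_le (zTerm_le S 3)
  let φ : S ⧸ K.subgroupOf S → zTerm S 3 ⧸ (zTerm S 2).subgroupOf (zTerm S 3) :=
    fun q => QuotientGroup.mk (f q.out)
  have hinj : Function.Injective φ := by
    intro q q' h
    rw [← QuotientGroup.out_eq' q, ← QuotientGroup.out_eq' q', QuotientGroup.eq,
      Subgroup.mem_subgroupOf]
    set g : Ω := (q.out : Ω)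
    set g' : Ω := (q'.out : Ω)
    have h1 : (⁅x, g⁆)⁻¹ * ⁅x, g'⁆ ∈ zTerm S 2 :=
      Subgroup.mem_subgroupOf.1 (QuotientGroup.eq.1 h)
    refine ⟨mul_mem (inv_mem q.out.2) q'.out.2, ?_⟩
    show ⁅x, g⁻¹ * g'⁆ ∈ zTerm S 2
    rw [show ⁅x, g⁻¹ * g'⁆ = g⁻¹ * ((⁅x, g⁆)⁻¹ * ⁅x, g'⁆) * g by
      simp only [commutatorElement_def]; group]
    simpa [g] using conj_mem_zTerm h1 (inv_mem q.out.2)
  have hidx : (K.subgroupOf S).index ≤ p := by
    rw [Subgroup.index_eq_card]
    refine (Nat.card_le_card_of_injective φ hinj).trans ?_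
    rw [← Subgroup.index_eq_card]
    refine le_of_eq (Nat.eq_of_mul_eq_mul_left (pow_pos hp.pos 2) ?_)
    have h1 := Subgroup.card_mul_index ((zTerm S 2).subgroupOf (zTerm S 3))
    rw [Nat.card_congr (Subgroup.subgroupOfEquivOfLe (zTerm_mono (S := S) (by omega : 2 ≤ 3))).toEquiv,
      σ.mc.card_zTerm (by omega), σ.mc.card_zTerm (by omega)] at h1
    rw [h1]; ring
  have h2 := Subgroup.card_mul_index (K.subgroupOf S)
  have h3 : Nat.card (K.subgroupOf S) ≤ p ^ 4 := by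
    rw [← σ.card_N hE, Nat.card_congr (Subgroup.subgroupOfEquivOfLe (fun g hg => hg.1 : K ≤ S)).toEquiv]
    exact Subgroup.card_le_of_le hKN
  rw [σ.card_S] at h2
  have h4 : p ^ n ≤ p ^ 5 := by
    rw [← h2, pow_succ p 4]
    exact Nat.mul_le_mul h3 hidx
  have := (Nat.pow_le_pow_iff_right hp.one_lt).1 h4
  omega

/-- `S` is generated by two suitable elements and the term `n - 2`. -/
theorem le_sup_pair [Finite S] [Fact p.Prime] {a b : Ω} (ha : a ∈ S) (hb : b ∈ S)
    (haZ : a ∉ zTerm S (n - 2)) (hbZ : b ∉ Subgroup.zpowers a ⊔ zTerm S (n - 2)) :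
    S ≤ (Subgroup.zpowers a ⊔ Subgroup.zpowers b) ⊔ zTerm S (n - 2) := by
  have hn := σ.n5
  set A := zTerm S (n - 2)
  set B := Subgroup.zpowers a ⊔ A
  set C := (Subgroup.zpowers a ⊔ Subgroup.zpowers b) ⊔ A
  have hBS : B ≤ S := sup_le (zpowers_le.2 ha) (zTerm_le S _)
  have hCS : C ≤ S := sup_le (sup_le (zpowers_le.2 ha) (zpowers_le.2 hb)) (zTerm_le S _)
  have hAB : A.subgroupOf S < B.subgroupOf S := by
    refine lt_of_le_of_ne (fun x hx => (le_sup_right : A ≤ B) hx) fun e => haZ ?_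
    have h1 : (⟨a, ha⟩ : S) ∈ B.subgroupOf S :=
      (le_sup_left : _ ≤ B) (Subgroup.mem_zpowers a)
    rw [← e] at h1
    exact h1
  have hBC : B.subgroupOf S < C.subgroupOf S := by
    refine lt_of_le_of_ne (fun x hx => ?_) fun e => hbZ ?_
    · exact (sup_le_sup_right le_sup_left A : B ≤ C) hx
    · have h1 : (⟨b, hb⟩ : S) ∈ C.subgroupOf S :=
        (le_sup_left : _ ≤ C) (mem_sup_right (Subgroup.mem_zpowers b))
      rw [← e] at h1
      exact h1
  have h1 := card_mul_le_of_lt σ.isP hAB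
  have h2 := card_mul_le_of_lt σ.isP hBC
  rw [Nat.card_congr (Subgroup.subgroupOfEquivOfLe (zTerm_le S (n - 2))).toEquiv,
    σ.mc.card_zTerm le_rfl] at h1
  have h3 : p ^ n ≤ Nat.card (C.subgroupOf S) :=
    calc p ^ n = p ^ (n - 2) * p * p := by
          rw [mul_assoc, ← pow_two, ← pow_add]; congr 1; omega
      _ ≤ _ := (Nat.mul_le_mul_right p h1).trans h2
  have h4 := Subgroup.eq_top_of_le_card (C.subgroupOf S) (by rw [σ.card_S]; exact h3)
  exact Subgroup.subgroupOf_eq_top.1 h4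

/-- The adapted basis. -/
theorem exists_goodFrame [Finite S] [Fact p.Prime] (hE : Target p F E) :
    ∃ y u e c : Ω, GoodFrame p n F E y u e c := by
  have hn := σ.n5
  have hp := σ.mc.prime
  haveI := hE.soft.comm
  obtain ⟨y, u, e, c, hy, hyE, hu1, hyu, hyc, hye, hcn, hspan, htorus⟩ :=
    hE.soft.exists_frame σ.isP σ.sat σ.pow5_le hE.centric
  have hye' : ⁅y, (e : Ω)⁆ = (u : Ω) := by
    rw [commutatorElement_def, hye, mul_inv_cancel_right]
  have hspan' : ∀ x ∈ E, ∃ i j l : ℤ, x = (u : Ω) ^ i * (e : Ω) ^ j * (c : Ω) ^ l := by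
    intro x hx
    obtain ⟨i, j, l, h⟩ := hspan ⟨x, hx⟩
    exact ⟨i, j, l, by simpa using congrArg Subtype.val h⟩
  have hEN : E ≤ normalizerIn S E := le_normalizerIn hE.le
  -- the fixed points of `y`
  have hfix : ∀ x ∈ E, y * x = x * y → ∃ i l : ℤ, x = (u : Ω) ^ i * (c : Ω) ^ l := by
    intro x hx hyx
    obtain ⟨i, j, l, rfl⟩ := hspan' x hx
    refine ⟨i, l, ?_⟩
    have h1 : y * ((u : Ω) ^ i * (e : Ω) ^ j * (c : Ω) ^ l) * y⁻¹ =
        (u : Ω) ^ i * ((u : Ω) * e) ^ j * (c : Ω) ^ l := by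
      rw [← MulAut.conj_apply y, map_mul, map_mul, map_zpow, map_zpow, map_zpow]
      simp only [MulAut.conj_apply, hyu, hyc, hye]
    rw [hyx, mul_inv_cancel_right] at h1
    have h3 : ((u : Ω) * e) ^ j = (u : Ω) ^ j * (e : Ω) ^ j :=
      (show Commute (u : Ω) e from hE.comm' u.2 e.2).mul_zpow j
    rw [h3, mul_left_inj, mul_right_inj, eq_comm, mul_eq_right] at h1
    have h4 := orderOf_dvd_iff_zpow_eq_one.2 h1
    rw [σ.orderOf_E hE u.2 (fun h => hu1 (Subtype.ext h))] at h4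
    obtain ⟨m, rfl⟩ := h4
    rw [zpow_mul (e : Ω), zpow_natCast, hE.soft.exp e e.2, one_zpow, mul_one]
  have hcase : ((u : Ω) ∈ zTerm S (n - 2) ∧ (c : Ω) ∈ zTerm S (n - 2) ∧
      (e : Ω) ∉ zTerm S (n - 2)) ∧ ((u : Ω) ∈ zTerm S 1 ∨ Yof S n E = zTerm S 2) := by
    have hYsub : ∀ x ∈ Yof S n E, (e : Ω) ∉ zTerm S (n - 2) → (u : Ω) ∈ zTerm S (n - 2) →
        (c : Ω) ∈ zTerm S (n - 2) → ∃ i l : ℤ, x = (u : Ω) ^ i * (c : Ω) ^ l := by
      intro x hx he hu hc
      obtain ⟨hxE, hxZ⟩ := Subgroup.mem_inf.1 hx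
      obtain ⟨i, j, l, rfl⟩ := hspan' x hxE
      refine ⟨i, l, ?_⟩
      by_cases hj : (p : ℤ) ∣ j
      · obtain ⟨m, rfl⟩ := hj
        rw [zpow_mul (e : Ω), zpow_natCast, hE.soft.exp e e.2, one_zpow, mul_one]
      · exfalso
        have h1 : (e : Ω) ^ j ∈ zTerm S (n - 2) := by
          have := mul_mem (mul_mem (inv_mem (zpow_mem hu i)) hxZ) (inv_mem (zpow_mem hc l))
          simpa [mul_assoc] using this
        obtain ⟨a, b, hab⟩ : IsCoprime j (p : ℤ) :=
          ((Nat.prime_iff_prime_int.1 hp).coprime_iff_not_dvd.2 hj).symm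
        apply he
        have h2 : ((e : Ω) ^ j) ^ a = (e : Ω) := by
          calc ((e : Ω) ^ j) ^ a = (e : Ω) ^ (a * j + b * p) := by
                rw [zpow_add, zpow_mul _ b, zpow_natCast, mul_comm a j, zpow_mul]
                have : ((e : Ω) ^ b) ^ p = 1 := hE.soft.exp _ (zpow_mem e.2 b)
                rw [this, mul_one]
            _ = e := by rw [hab, zpow_one]
        rw [← h2]
        exact zpow_mem h1 a
    by_cases hZ2 : zTerm S 2 ≤ E
    · -- `Z 2 ≤ E`
      have hN3 : zTerm S 3 ≤ normalizerIn S E := fun g hg =>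
        ⟨zTerm_le S 3 hg, mem_normalizer_iff_map_conj_eq.2 (by
          have := finite_of_le hE.le
          refine Subgroup.eq_of_le_of_card_ge ?_
            (by rw [Subgroup.card_map_of_injective (MulEquiv.injective _)])
          rintro _ ⟨x, hx, rfl⟩
          show g * x * g⁻¹ ∈ E
          rw [conj_eq_commutator_mul]
          exact mul_mem (hZ2 (commutator_pred (i := 3) hg (hE.le hx)).1) hx)⟩
      have hne : ¬ zTerm S 3 ≤ E := by
        intro h
        have := finite_of_le hE.le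
        exact σ.not_le_top hE ((Subgroup.eq_of_le_of_card_ge h
          (by rw [σ.mc.card_zTerm (by omega), hE.soft.card])).ge.trans (zTerm_mono (by omega)))
      have hsupN := σ.N_eq_of_le hE (sup_le hEN hN3) (lt_of_le_of_ne le_sup_left fun h =>
        hne (le_sup_right.trans h.ge))
      have hyZ : ∀ z ∈ zTerm S 2, y * z = z * y := by
        intro z hz
        have hle : E ⊔ zTerm S 3 ≤ Subgroup.centralizer ({z} : Set Ω) := sup_le
          (fun a ha => Subgroup.mem_centralizer_singleton_iff.2 (hE.comm' ha (hZ2 hz)))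
          (fun a ha => Subgroup.mem_centralizer_singleton_iff.2
            (σ.commute_Z (i := 3) (j := 2) (by omega) (by omega) ha hz))
        rw [hsupN] at hle
        exact Subgroup.mem_centralizer_singleton_iff.1 (hle hy)
      have hfc : zTerm S 2 = Subgroup.zpowers (u : Ω) ⊔ Subgroup.zpowers (c : Ω) := by
        have := finite_of_le (sup_le ((zpowers_le.2 u.2).trans hE.le)
          ((zpowers_le.2 c.2).trans hE.le) : Subgroup.zpowers (u : Ω) ⊔ Subgroup.zpowers (c : Ω) ≤ S)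
        refine Subgroup.eq_of_le_of_card_ge (fun z hz => ?_) ?_
        · obtain ⟨i, l, rfl⟩ := hfix z (hZ2 hz) (hyZ z hz)
          exact mul_mem (mem_sup_left ⟨i, rfl⟩) (mem_sup_right ⟨l, rfl⟩)
        · rw [σ.mc.card_zTerm (by omega), pow_two]
          refine le_trans ?_ (Nat.mul_le_mul
            ((Nat.card_zpowers (u : Ω)).trans (σ.orderOf_E hE u.2 fun h => hu1 (Subtype.ext h))).le
            ((Nat.card_zpowers (c : Ω)).trans (σ.orderOf_E hE c.2
              fun h => hcn (h ▸ one_mem _))).le)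
          have hn' : Subgroup.zpowers (u : Ω) ≤
              Subgroup.normalizer (Subgroup.zpowers (c : Ω) : Set Ω) := by
            refine le_trans ?_ (Subgroup.centralizer_le_normalizer _)
            rw [zpowers_le, mem_centralizer_iff]
            rintro _ ⟨i, rfl⟩
            exact hE.comm' (zpow_mem c.2 i) u.2
          calc Nat.card (Subgroup.zpowers (u : Ω) ⊔ Subgroup.zpowers (c : Ω) : Subgroup Ω)
              = Nat.card ((Subgroup.zpowers (u : Ω) : Set Ω) * (Subgroup.zpowers (c : Ω) : Set Ω) :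
                Set Ω) := by
                rw [← Subgroup.coe_mul_of_left_le_normalizer_right _ _ hn']; rfl
            _ ≤ _ := Set.natCard_mul_le
      have huZ : (u : Ω) ∈ zTerm S (n - 2) :=
        zTerm_mono (by omega) (hfc.ge (mem_sup_left (Subgroup.mem_zpowers _)))
      have hcZ : (c : Ω) ∈ zTerm S (n - 2) :=
        zTerm_mono (by omega) (hfc.ge (mem_sup_right (Subgroup.mem_zpowers _)))
      have heZ : (e : Ω) ∉ zTerm S (n - 2) := fun h => σ.not_le_top hE fun x hx => by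
        obtain ⟨i, j, l, rfl⟩ := hspan' x hx
        exact mul_mem (mul_mem (zpow_mem huZ i) (zpow_mem h j)) (zpow_mem hcZ l)
      refine ⟨⟨huZ, hcZ, heZ⟩, Or.inr (le_antisymm (fun x hx => ?_)
        (le_inf hZ2 (zTerm_mono (by omega))))⟩
      obtain ⟨i, l, rfl⟩ := hYsub x hx heZ huZ hcZ
      rw [hfc]
      exact mul_mem (mem_sup_left ⟨i, rfl⟩) (mem_sup_right ⟨l, rfl⟩)
    · obtain ⟨z, hz, hzE⟩ := SetLike.not_le_iff_exists.1 hZ2
      have hEZ : ∀ x ∈ E, ⁅z, x⁆ ∈ E := fun x hx => by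
        refine hE.soft.cent (mem_centralizerIn'.2 ?_)
        have hm := (commutator_pred (i := 2) hz (hE.le hx)).1
        refine ⟨zTerm_le S _ hm, fun w hw => ?_⟩
        rw [← zTerm_one_comm (S := S) hm (hE.le hw), mul_inv_cancel_right]
      have hzN : z ∈ normalizerIn S E := by
        have := finite_of_le hE.le
        refine ⟨zTerm_le S 2 hz, mem_normalizer_iff_map_conj_eq.2 (Subgroup.eq_of_le_of_card_ge ?_
          (by rw [Subgroup.card_map_of_injective (MulEquiv.injective _)]))⟩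
        rintro _ ⟨x, hx, rfl⟩
        show z * x * z⁻¹ ∈ E
        rw [conj_eq_commutator_mul]
        exact mul_mem (hEZ x hx) hx
      have hsupN := σ.N_eq_of_le hE (sup_le (zpowers_le.2 hzN) hEN)
        (lt_of_le_of_ne le_sup_right fun h =>
          hzE (h ▸ mem_sup_left (Subgroup.mem_zpowers z)))
      -- `y` and `z` move `E` in the same way
      have hzfix : ∀ x ∈ E, z * x = x * z → y * x = x * y := by
        intro x hx hzx
        have hle : Subgroup.zpowers z ⊔ E ≤ Subgroup.centralizer ({x} : Set Ω) := sup_le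
          (zpowers_le.2 (Subgroup.mem_centralizer_singleton_iff.2 hzx))
          (fun a ha => Subgroup.mem_centralizer_singleton_iff.2 (hE.comm' ha hx))
        rw [hsupN] at hle
        exact Subgroup.mem_centralizer_singleton_iff.1 (hle hy)
      have hyfix : ∀ x ∈ E, y * x = x * y → z * x = x * z := by
        intro x hx hyx
        have hsupN' := σ.N_eq_of_le hE (sup_le (zpowers_le.2 hy) hEN)
          (lt_of_le_of_ne le_sup_right fun h => hyE (h ▸ mem_sup_left (Subgroup.mem_zpowers y)))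
        have hle : Subgroup.zpowers y ⊔ E ≤ Subgroup.centralizer ({x} : Set Ω) := sup_le
          (zpowers_le.2 (Subgroup.mem_centralizer_singleton_iff.2 hyx))
          (fun a ha => Subgroup.mem_centralizer_singleton_iff.2 (hE.comm' ha hx))
        rw [hsupN'] at hle
        exact Subgroup.mem_centralizer_singleton_iff.1 (hle hzN)
      have hzc : z * c = c * z := hyfix c c.2 (mul_inv_eq_iff_eq_mul.1 hyc)
      have hze : z * e ≠ e * z := fun h => by
        have h2 := hzfix e e.2 h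
        refine hu1 (Subtype.ext ?_)
        rw [h2, mul_inv_cancel_right] at hye
        simpa using hye.symm
      -- the displacement lies in the centre
      have hu1Z : (u : Ω) ∈ zTerm S 1 := by
        obtain ⟨a, ha, x, hxE, hyax⟩ : ∃ a ∈ zTerm S 2, ∃ x ∈ E, y = a * x := by
          have hn' : Subgroup.zpowers z ≤ Subgroup.normalizer (E : Set Ω) :=
            zpowers_le.2 hzN.2
          have hym : y ∈ ((Subgroup.zpowers z ⊔ E : Subgroup Ω) : Set Ω) := hsupN.ge hy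
          rw [Subgroup.coe_mul_of_left_le_normalizer_right _ _ hn'] at hym
          obtain ⟨a, ha, x, hx, hax⟩ := hym
          exact ⟨a, zpowers_le.2 hz ha, x, hx, hax.symm⟩
        rw [← hye', hyax, show ⁅a * x, (e : Ω)⁆ = a * ⁅x, (e : Ω)⁆ * a⁻¹ * ⁅a, (e : Ω)⁆ by
            simp only [commutatorElement_def]; group,
          commutatorElement_eq_one_iff_mul_comm.2 (hE.comm' hxE e.2), mul_one, mul_inv_cancel,
          one_mul]
        exact commutator_step ha (hE.le e.2)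
      have huZ := zTerm_mono (show 1 ≤ n - 2 by omega) hu1Z
      have heZ : (e : Ω) ∉ zTerm S (n - 2) := fun h =>
        hze (σ.commute_Z (i := 2) (j := n - 2) (by omega) (by omega) hz h)
      have hcZ : (c : Ω) ∈ zTerm S (n - 2) := by
        by_contra hcZ
        refine σ.mc.not_commutative_gen hn (hE.le c.2) (hE.le e.2) (hE.comm' c.2 e.2)
          (σ.le_sup_pair (hE.le c.2) (hE.le e.2) hcZ fun h => hze ?_)
        have hle : Subgroup.zpowers (c : Ω) ⊔ zTerm S (n - 2) ≤ Subgroup.centralizer ({z} : Set Ω) :=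
          sup_le (zpowers_le.2 (Subgroup.mem_centralizer_singleton_iff.2 hzc.symm))
            (fun a ha => Subgroup.mem_centralizer_singleton_iff.2
              (σ.commute_Z (i := 2) (j := n - 2) (by omega) (by omega) hz ha).symm)
        exact (Subgroup.mem_centralizer_singleton_iff.1 (hle h)).symm
      exact ⟨⟨huZ, hcZ, heZ⟩, Or.inl hu1Z⟩
  obtain ⟨⟨huZ, hcZ, heZ⟩, hdich⟩ := hcase
  refine ⟨y, u, e, c, hy, hyE, u.2, e.2, c.2, fun h => hu1 (Subtype.ext h), hyu, hyc, hye', hcn,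
    hspan', huZ, hcZ, heZ, hdich, fun a b hab => ?_⟩
  obtain ⟨h, hh, h1, h2, h3⟩ := htorus a b hab
  refine ⟨h, hh, ?_, ?_, ?_⟩
  · simpa using congrArg Subtype.val h1
  · simpa using congrArg Subtype.val h2
  · simpa using congrArg Subtype.val h3

end Setting

namespace GoodFrame

variable {E : Subgroup Ω} {y u e c : Ω} (fr : GoodFrame p n F E y u e c)
include fr

theorem mem_Yof {x : Ω} (σ : Setting p n F) [Fact p.Prime] (hE : Target p F E)
    (hx : x ∈ Yof S n E) : ∃ i l : ℤ, x = u ^ i * c ^ l := by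
  obtain ⟨hxE, hxZ⟩ := Subgroup.mem_inf.1 hx
  obtain ⟨i, j, l, rfl⟩ := fr.span x hxE
  refine ⟨i, l, ?_⟩
  by_cases hj : (p : ℤ) ∣ j
  · obtain ⟨m, rfl⟩ := hj
    rw [zpow_mul e, zpow_natCast, hE.soft.exp e fr.he, one_zpow, mul_one]
  · exfalso
    have h1 : e ^ j ∈ zTerm S (n - 2) := by
      have := mul_mem (mul_mem (inv_mem (zpow_mem fr.uZ i)) hxZ) (inv_mem (zpow_mem fr.cZ l))
      simpa [mul_assoc] using this
    obtain ⟨a, b, hab⟩ : IsCoprime j (p : ℤ) :=
      ((Nat.prime_iff_prime_int.1 σ.mc.prime).coprime_iff_not_dvd.2 hj).symm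
    apply fr.eZ
    have h2 : (e ^ j) ^ a = e := by
      calc (e ^ j) ^ a = e ^ (a * j + b * p) := by
            rw [zpow_add, zpow_mul _ b, zpow_natCast, mul_comm a j, zpow_mul]
            rw [show (e ^ b) ^ p = 1 from hE.soft.exp _ (zpow_mem fr.he b), mul_one]
        _ = e := by rw [hab, zpow_one]
    rw [← h2]
    exact zpow_mem h1 a

theorem u_mem_Y : u ∈ Yof S n E := Subgroup.mem_inf.2 ⟨fr.hu, fr.uZ⟩

theorem c_mem_Y : c ∈ Yof S n E := Subgroup.mem_inf.2 ⟨fr.hc, fr.cZ⟩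

/-- The commutators of `N_S(E)` with `E` lie in `⟨u⟩`. -/
theorem disp_mem [Finite S] [Fact p.Prime] (σ : Setting p n F) (hE : Target p F E) {g x : Ω}
    (hg : g ∈ normalizerIn S E) (hx : x ∈ E) : ⁅g, x⁆ ∈ Subgroup.zpowers u := by
  have hsup := σ.N_eq_of_le hE (sup_le (zpowers_le.2 fr.hy) (le_normalizerIn hE.le))
    (lt_of_le_of_ne le_sup_right fun h => fr.hyE (h ▸ mem_sup_left (Subgroup.mem_zpowers y)))
  -- the subgroup of elements moving `E` along `⟨u⟩` and fixing `u`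
  have key : ∀ g ∈ normalizerIn S E, g * u = u * g ∧ ∀ x ∈ E, ⁅g, x⁆ ∈ Subgroup.zpowers u := by
    let M : Subgroup Ω :=
      { carrier := {g | g * u = u * g ∧ ∀ x ∈ E, ⁅g, x⁆ ∈ Subgroup.zpowers u}
        one_mem' := ⟨by simp, fun x _ => by simp⟩
        mul_mem' := fun {a b} ha hb => ⟨by
            rw [mul_assoc, hb.1, ← mul_assoc, ha.1, mul_assoc], fun x hx => by
            obtain ⟨j, hj⟩ := hb.2 x hx
            have hau : Commute a (u ^ j) := (show Commute a u from ha.1).zpow_right j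
            rw [show ⁅a * b, x⁆ = a * ⁅b, x⁆ * a⁻¹ * ⁅a, x⁆ by
              simp only [commutatorElement_def]; group, ← hj, hau.eq, mul_inv_cancel_right]
            exact mul_mem ⟨j, rfl⟩ (ha.2 x hx)⟩
        inv_mem' := fun {a} ha => ⟨((show Commute a u from ha.1).inv_left).eq, fun x hx => by
            obtain ⟨j, hj⟩ := ha.2 x hx
            have hau : Commute a⁻¹ (u ^ j) := ((show Commute a u from ha.1).inv_left).zpow_right j
            rw [show ⁅a⁻¹, x⁆ = a⁻¹ * (⁅a, x⁆)⁻¹ * a by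
              simp only [commutatorElement_def]; group, ← hj, hau.inv_right.eq,
              inv_mul_cancel_right]
            exact inv_mem ⟨j, rfl⟩⟩ }
    suffices h : normalizerIn S E ≤ M from fun g hg => h hg
    rw [← hsup]
    refine sup_le (zpowers_le.2 ⟨mul_inv_eq_iff_eq_mul.1 fr.yu, fun x hx => ?_⟩)
      (fun a ha => ⟨hE.comm' ha fr.hu, fun x hx => by
        rw [commutatorElement_eq_one_iff_mul_comm.2 (hE.comm' ha hx)]; exact one_mem _⟩)
    obtain ⟨i, j, l, rfl⟩ := fr.span x hx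
    refine ⟨j, ?_⟩
    show u ^ j = y * (u ^ i * e ^ j * c ^ l) * y⁻¹ * (u ^ i * e ^ j * c ^ l)⁻¹
    have h1 : y * (u ^ i * e ^ j * c ^ l) * y⁻¹ = u ^ i * (y * e * y⁻¹) ^ j * c ^ l := by
      rw [← MulAut.conj_apply y, map_mul, map_mul, map_zpow, map_zpow, map_zpow]
      simp only [MulAut.conj_apply, fr.yu, fr.yc]
    rw [h1, conj_eq_commutator_mul y e, fr.ye,
      (show Commute u e from hE.comm' fr.hu fr.he).mul_zpow]
    have hc1 : Commute (u ^ i) (u ^ j) := (Commute.refl u).zpow_zpow i j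
    calc u ^ j = u ^ j * ((u ^ i * e ^ j * c ^ l) * (u ^ i * e ^ j * c ^ l)⁻¹) := by
          rw [mul_inv_cancel, mul_one]
      _ = u ^ i * (u ^ j * e ^ j) * c ^ l * (u ^ i * e ^ j * c ^ l)⁻¹ := by
          simp only [← mul_assoc, hc1.eq]
  exact (key g hg).2 x hx

theorem card_Yof [Finite S] [Fact p.Prime] (σ : Setting p n F) (hE : Target p F E) :
    Nat.card (Yof S n E) = p ^ 2 := by
  have hp := σ.mc.prime
  have hfin : Finite (Yof S n E) := finite_of_le ((inf_le_left : Yof S n E ≤ E).trans hE.le)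
  have := finite_of_le hE.le
  obtain ⟨k, hk⟩ : ∃ k, Nat.card (Yof S n E) = p ^ k :=
    IsPGroup.iff_card.1 (σ.isP.to_le ((inf_le_left : Yof S n E ≤ E).trans hE.le))
  rw [hk]
  congr 1
  have h3 : k < 3 := by
    refine (Nat.pow_lt_pow_iff_right hp.one_lt).1 ?_
    rw [← hk, ← hE.soft.card]
    exact Set.Finite.card_lt_card (Set.toFinite (E : Set Ω))
      (lt_of_le_of_ne inf_le_left fun h => σ.not_le_top hE (h.ge.trans inf_le_right))
  have h1 : 1 < k := by
    refine (Nat.pow_lt_pow_iff_right hp.one_lt).1 ?_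
    rw [pow_one, ← hk, ← σ.orderOf_E hE fr.hu fr.u_ne, ← Nat.card_zpowers]
    exact Set.Finite.card_lt_card (Set.toFinite (Yof S n E : Set Ω))
      (lt_of_le_of_ne (zpowers_le.2 fr.u_mem_Y) fun h => fr.c_not (SetLike.mem_coe.1 (h.ge fr.c_mem_Y)))
  omega

end GoodFrame

end CfsgLib.FusionPearl
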