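import Cfsg.Agent.FusionPearl.CardLe
import Cfsg.Agent.FusionEssential.OrderCube

/-!
# Elementary abelian subgroups of order `p ^ 3` of index `p` in their normalizer

`Soft p F E`: the data, invariant under conjugacy in the system; `soft_of_essential`;
`Soft.exists_frame`: a basis adapted to the automizer, with its diagonal automorphisms.
-/

set_option autoImplicit false

namespace CfsgLib.FusionPearl

open Cfsg Cfsg.FusionSystem CfsgLib.Fusion CfsgLib.FusionClosed

attribute [local instance] commGroupOf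

variable {Ω : Type*} [Group Ω] {S : Subgroup Ω} {p : ℕ}

/-- The data of an elementary abelian essential subgroup of order `p ^ 3`. -/
structure Soft (p : ℕ) (F : FusionSystem S) (E : Subgroup Ω) : Prop where
  le : E ≤ S
  comm : IsMulCommutative E
  exp : ∀ x ∈ E, x ^ p = 1
  card : Nat.card E = p ^ 3
  cent : centralizerIn S E ≤ E
  sylow : ∀ M : Subgroup (MulAut E), M ≤ F.autGroup E → IsPGroup p M → Nat.card M ≤ p
  two : ∃ a ∈ F.autGroup E, ∃ b ∈ F.autGroup E,
    a ^ p = 1 ∧ b ^ p = 1 ∧ a ≠ 1 ∧ b ∉ Subgroup.zpowers a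

variable {F : FusionSystem S} {E : Subgroup Ω}

theorem emb_of_essential [Finite S] [Fact p.Prime] [IsMulCommutative E]
    (hE : F.IsEssential p E) : ∃ Y : Subgroup (F.autGroup E), Emb p (F.autGroup E) Y := by
  have := finite_of_le hE.1.1
  have : Finite (MulAut E) := Finite.of_injective (fun α => (α : E → E)) DFunLike.coe_injective
  obtain ⟨hI, Z, hZ⟩ := hE.2.2
  set A := F.autGroup E
  set q := QuotientGroup.mk' ((Inn E).subgroupOf A)
  have hqinj : Function.Injective q := by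
    rw [injective_iff_map_eq_one]
    intro u hu
    obtain ⟨z, hz⟩ : (u : MulAut E) ∈ Inn E :=
      (QuotientGroup.eq_one_iff (N := (Inn E).subgroupOf A) u).1 hu
    refine Subtype.ext ?_
    rw [← hz]
    exact MulEquiv.ext fun w => by
      show z * w * z⁻¹ = w
      rw [mul_comm z w, mul_inv_cancel_right]
  refine ⟨Z.comap q, fun h => hZ.2.1 ?_, fun a ha ha1 hap g hg => ?_, fun U hU => ?_⟩
  · rw [← Subgroup.map_comap_eq_self_of_surjective (QuotientGroup.mk'_surjective _) Z]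
    show (Z.comap q).map q = ⊤
    rw [h, Subgroup.map_top_of_surjective q (QuotientGroup.mk'_surjective _)]
  · refine CfsgLib.FusionSub.mem_of_conj_le_stronglyPEmbedded hZ
      (X := (Subgroup.zpowers a).map q) ?_ (hap.map q) ?_ ?_
    · exact Subgroup.map_le_iff_le_comap.2 (Subgroup.zpowers_le.2 ha)
    · rw [ne_eq, Subgroup.map_eq_bot_iff_of_injective _ hqinj]
      exact fun e => ha1 (Subgroup.zpowers_eq_bot.1 e)
    · rintro _ ⟨x, hx, rfl⟩
      obtain ⟨j, rfl⟩ := hx
      show q g * q (a ^ j) * (q g)⁻¹ ∈ Z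
      rw [← map_inv, ← map_mul, ← map_mul, ← conj_zpow, map_zpow]
      exact zpow_mem hg j
  · obtain ⟨P₀, -, hP₀, -⟩ := CfsgLib.EvenType.exists_sylow_le_of_isStronglyPEmbedded hZ
    obtain ⟨a, ha⟩ := exists_conj_mem_sylow P₀ (hU.map q)
    obtain ⟨g, rfl⟩ := QuotientGroup.mk'_surjective _ a
    refine ⟨g, fun u hu => hP₀ ?_⟩
    show q (g * u * g⁻¹) ∈ P₀
    rw [map_mul, map_mul, map_inv]
    exact ha _ ⟨u, hu, rfl⟩

theorem soft_of_essential [Finite S] [Fact p.Prime] (hE : F.IsEssential p E)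
    (hel : IsElementaryAbelian p E) (hcard : Nat.card E = p ^ 3) : Soft p F E := by
  have := finite_of_le hE.1.1
  have : Finite (MulAut E) := Finite.of_injective (fun α => (α : E → E)) DFunLike.coe_injective
  haveI := hel.1
  obtain ⟨Y, hY⟩ := emb_of_essential hE
  have hexp : ∀ x : E, x ^ p = 1 := fun x => Subtype.ext (by simpa using hel.2 x x.2)
  have hsyl : ∀ M : Subgroup (MulAut E), M ≤ F.autGroup E → IsPGroup p M → Nat.card M ≤ p :=
    fun M hM hMp => card_le_of_emb hcard hexp hY hM hMp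
  refine ⟨hE.1.1, hel.1, hel.2, hcard, centralizerIn_le_of_centric hE.1, hsyl, ?_⟩
  obtain ⟨α, β, ⟨a, ha⟩, ⟨b, hb⟩, hne⟩ := FusionEssential.exists_noncommute_pElements hE
  have hord : ∀ γ : F.autGroup E, (∃ c : ℕ, γ ^ (p ^ c) = 1) → (γ : MulAut E) ^ p = 1 := by
    rintro γ ⟨c, hc⟩
    have hp' : IsPGroup p (Subgroup.zpowers (γ : MulAut E)) :=
      Fusion.isPGroup_zpowers_of_pow_eq_one (by simpa using congrArg Subtype.val hc)
    have h1 := hsyl _ (Subgroup.zpowers_le.2 γ.2) hp'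
    rw [Nat.card_zpowers] at h1
    obtain ⟨j, hj⟩ := IsPGroup.iff_card.1 hp'
    rw [Nat.card_zpowers] at hj
    refine orderOf_dvd_iff_pow_eq_one.1 ?_
    rw [hj] at h1 ⊢
    have := (Nat.pow_le_pow_iff_right (Fact.out : p.Prime).one_lt).1
      (h1.trans_eq (pow_one p).symm)
    exact (pow_dvd_pow p this).trans (by rw [pow_one])
  refine ⟨α, α.2, β, β.2, hord α ⟨a, ha⟩, hord β ⟨b, hb⟩,
    fun e => hne (by rw [show α = 1 from Subtype.ext e, one_mul, mul_one]), fun ⟨j, hj⟩ => hne ?_⟩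
  refine Subtype.ext ?_
  show (α : MulAut E) * (β : MulAut E) = (β : MulAut E) * (α : MulAut E)
  rw [← hj]
  exact Commute.self_zpow _ _

namespace Soft

variable (hs : Soft p F E)
include hs

theorem isConj [Finite S] {E' : Subgroup Ω} (h : F.IsConj E E') (hc : centralizerIn S E' ≤ E') :
    Soft p F E' := by
  obtain ⟨e, he⟩ := isConj_iff.1 h
  haveI := hs.comm
  refine ⟨he.le_right, ⟨⟨fun a b => ?_⟩⟩, fun x hx => ?_, ?_, hc, fun M hM hMp => ?_, ?_⟩
  · obtain ⟨a, rfl⟩ := e.surjective a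
    obtain ⟨b, rfl⟩ := e.surjective b
    rw [← map_mul, ← map_mul, mul_comm]
  · obtain ⟨y, hy⟩ := e.surjective ⟨x, hx⟩
    have h1 : y ^ p = 1 := Subtype.ext (by simpa using hs.exp y y.2)
    have h2 := congrArg e h1
    rw [map_pow, hy, map_one] at h2
    simpa using congrArg Subtype.val h2
  · rw [← he.card_eq, hs.card]
  · have hle : M.map (MulAut.congr e.symm).toMonoidHom ≤ F.autGroup E := by
      rintro _ ⟨α, hα, rfl⟩
      exact congr_mem_autGroup he.symm (hM hα)
    have := hs.sylow _ hle (hMp.map _)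
    rwa [Subgroup.card_map_of_injective (MulEquiv.injective _)] at this
  · obtain ⟨a, ha, b, hb, hap, hbp, ha1, hne⟩ := hs.two
    set f := MulAut.congr e
    refine ⟨f a, congr_mem_autGroup he ha, f b, congr_mem_autGroup he hb, ?_, ?_, ?_, ?_⟩
    · rw [← map_pow, hap, map_one]
    · rw [← map_pow, hbp, map_one]
    · exact fun h => ha1 (f.injective (h.trans (map_one f).symm))
    · rintro ⟨j, hj⟩
      exact hne ⟨j, f.injective ((map_zpow f a j).trans hj)⟩

theorem isConj' [Finite S] {E' : Subgroup Ω} (hc : F.IsCentric E) (h : F.IsConj E E') :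
    Soft p F E' :=
  hs.isConj h (hc.2 E' h)

theorem ne_S (hn : Nat.card S ≠ p ^ 3) : E ≠ S := fun h => hn (h ▸ hs.card)

theorem card_normalizer [Finite S] [Fact p.Prime] (hS : IsPGroup p S) (hn : Nat.card S ≠ p ^ 3) :
    Nat.card (normalizerIn S E) = p ^ 4 := by
  have hp := (Fact.out : p.Prime)
  have := finite_of_le (normalizerIn_le S E)
  have := finite_of_le hs.le
  have : Finite (MulAut E) := Finite.of_injective (fun α => (α : E → E)) DFunLike.coe_injective
  set N := normalizerIn S E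
  have hNn : N ≤ Subgroup.normalizer (E : Set Ω) := inf_le_right
  let f : N →* MulAut E := E.normalizerMonoidHom.comp (Subgroup.inclusion hNn)
  have hrange : f.range ≤ F.autGroup E := by
    rintro _ ⟨g, rfl⟩
    exact autInducedBy_le_autGroup hs.le (mem_autInducedBy_iff.2 ⟨g, g.2.1, hNn g.2, fun _ => rfl⟩)
  have hNp : IsPGroup p N := hS.to_le (normalizerIn_le S E)
  have h1 := hs.sylow _ hrange (IsPGroup.of_surjective hNp f.rangeRestrict f.rangeRestrict_surjective)
  have hker : Nat.card f.ker ≤ p ^ 3 := by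
    rw [← hs.card]
    refine Nat.card_le_card_of_injective (fun g : f.ker =>
      (⟨((g : N) : Ω), hs.cent (mem_centralizerIn'.2 ⟨g.1.2.1, fun x hx => ?_⟩)⟩ : E)) ?_
    · exact congrArg Subtype.val (DFunLike.congr_fun g.2 (⟨x, hx⟩ : E))
    · intro a b hab
      exact Subtype.ext (Subtype.ext (congrArg Subtype.val hab :))
  have hle : Nat.card N ≤ p ^ 4 := by
    rw [← Subgroup.card_mul_index f.ker, Subgroup.index_ker, pow_succ]
    exact Nat.mul_le_mul hker h1
  have hlt : E < N := lt_normalizerIn hS (lt_of_le_of_ne hs.le (hs.ne_S hn))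
  have h2 : Nat.card E < Nat.card N := Set.Finite.card_lt_card (Set.toFinite (N : Set Ω)) hlt
  obtain ⟨k, hk⟩ := IsPGroup.iff_card.1 hNp
  rw [hs.card, hk] at h2
  rw [hk] at hle ⊢
  have := (Nat.pow_lt_pow_iff_right hp.one_lt).1 h2
  have := (Nat.pow_le_pow_iff_right hp.one_lt).1 hle
  congr 1
  omega

theorem isFullyNormalized [Finite S] [Fact p.Prime] (hS : IsPGroup p S) (hn : Nat.card S ≠ p ^ 3)
    (hc : F.IsCentric E) : F.IsFullyNormalized E :=
  ⟨hs.le, fun Q hQ => ((hs.isConj' hc hQ).card_normalizer hS hn).trans_le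
    (hs.card_normalizer hS hn).ge⟩

/-- An element of the normalizer outside `E` centralising a maximal subgroup of `E`. -/
theorem exists_hyperplane_fix [Finite S] [Fact p.Prime] (hS : IsPGroup p S)
    (hn : p ^ 5 ≤ Nat.card S) : ∃ y ∈ normalizerIn S E, y ∉ E ∧
      (E ⊓ Subgroup.centralizer {y}).relIndex E = p := by
  have hp := (Fact.out : p.Prime)
  haveI := hs.comm
  have hn3 : Nat.card S ≠ p ^ 3 := fun h => by
    have := (Nat.pow_le_pow_iff_right hp.one_lt).1 (h ▸ hn)
    omega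
  set N := normalizerIn S E with hN
  have hNc := hs.card_normalizer hS hn3
  have hEN : E ≤ N := le_normalizerIn hs.le
  have := finite_of_le (normalizerIn_le S E)
  have := finite_of_le hs.le
  have hNS : N < S := lt_of_le_of_ne (normalizerIn_le S E) fun h => by
    rw [← h, hN, hNc] at hn
    have := (Nat.pow_le_pow_iff_right hp.one_lt).1 hn
    omega
  obtain ⟨g, hg, hgN⟩ := SetLike.exists_of_lt (lt_normalizerIn hS hNS)
  set E' := E.map (MulAut.conj g).toMonoidHom
  have hE'N : E' ≤ N := by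
    rintro _ ⟨x, hx, rfl⟩
    exact (Subgroup.mem_normalizer_iff.1 hg.2 x).1 (hEN hx)
  have hE'c : Nat.card E' = p ^ 3 := by
    rw [Subgroup.card_map_of_injective (MulEquiv.injective _), hs.card]
  obtain ⟨y, hy, hyE⟩ : ∃ y ∈ E', y ∉ E := by
    by_contra h
    push Not at h
    have heq : E' = E := Subgroup.eq_of_le_of_card_ge h (by rw [hs.card, hE'c])
    exact hgN ⟨hg.1, Subgroup.mem_normalizer_iff_map_conj_eq.2 heq⟩
  refine ⟨y, hE'N hy, hyE, ?_⟩
  have hle : E ⊓ E' ≤ E ⊓ Subgroup.centralizer {y} := by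
    refine le_inf inf_le_left fun x hx => Subgroup.mem_centralizer_singleton_iff.2 ?_
    obtain ⟨a, ha, hax⟩ := (Subgroup.mem_inf.1 hx).2
    obtain ⟨b, hb, hby⟩ := hy
    rw [← hax, ← hby, ← map_mul, ← map_mul]
    exact congrArg _ (congrArg Subtype.val (mul_comm' (⟨a, ha⟩ : E) ⟨b, hb⟩))
  have hmul : Nat.card (E ⊓ Subgroup.centralizer {y} : Subgroup Ω) *
      (E ⊓ Subgroup.centralizer {y}).relIndex E = p ^ 3 := by
    rw [← hs.card, Subgroup.relIndex,
      ← Nat.card_congr (Subgroup.subgroupOfEquivOfLe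
        (inf_le_left : E ⊓ Subgroup.centralizer {y} ≤ E)).toEquiv, Subgroup.card_mul_index]
  have hbig : p ^ 2 ≤ Nat.card (E ⊓ E' : Subgroup Ω) := by
    have h1 : E.relIndex E' ≤ p := by
      refine le_trans (Subgroup.relIndex_le_of_le_right (H := E) hE'N (fun h => ?_)) ?_
      · exact Subgroup.FiniteIndex.index_ne_zero h
      · have h2 := Subgroup.card_mul_index (E.subgroupOf N)
        rw [Nat.card_congr (Subgroup.subgroupOfEquivOfLe hEN).toEquiv, hs.card, hNc] at h2
        refine le_of_eq (Nat.eq_of_mul_eq_mul_left (pow_pos hp.pos 3) (h2.trans ?_))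
        ring
    have := finite_of_le (hE'N.trans (normalizerIn_le S _))
    have h2 := Subgroup.card_mul_index (E.subgroupOf E')
    rw [hE'c] at h2
    have h3 : Nat.card (E.subgroupOf E') = Nat.card (E ⊓ E' : Subgroup Ω) := by
      rw [← Subgroup.card_map_of_injective E'.subtype_injective, Subgroup.subgroupOf_map_subtype]
    rw [h3] at h2
    have h4 : p ^ 3 ≤ Nat.card (E ⊓ E' : Subgroup Ω) * p := h2 ▸ Nat.mul_le_mul_left _ h1
    exact Nat.le_of_mul_le_mul_right (by rwa [← pow_succ]) hp.pos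
  have hfin := finite_of_le ((inf_le_left : E ⊓ Subgroup.centralizer {y} ≤ E).trans hs.le)
  have hbig' := hbig.trans (Subgroup.card_le_of_le hle)
  obtain ⟨k, hk⟩ := IsPGroup.iff_card.1
    (hS.to_le ((inf_le_left : E ⊓ Subgroup.centralizer {y} ≤ E).trans hs.le))
  rw [hk] at hbig' hmul
  have hk2 := (Nat.pow_le_pow_iff_right hp.one_lt).1 hbig'
  have hk3 : k ≤ 3 := (Nat.pow_dvd_pow_iff_le_right hp.one_lt).1 (Dvd.intro _ hmul)
  rcases (show k = 2 ∨ k = 3 by omega) with rfl | rfl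
  · exact Nat.eq_of_mul_eq_mul_left (pow_pos hp.pos 2) (hmul.trans (by ring))
  · exfalso
    have h5 := Subgroup.eq_of_le_of_card_ge (inf_le_left : E ⊓ Subgroup.centralizer {y} ≤ E)
      (by rw [hk, hs.card])
    refine hyE (hs.cent (mem_centralizerIn'.2 ⟨(normalizerIn_le S E) (hE'N hy), fun x hx => ?_⟩))
    have := Subgroup.mem_centralizer_singleton_iff.1 (Subgroup.mem_inf.1 (h5.ge hx)).2
    rw [← this, mul_inv_cancel_right]

/-- A basis `u, e, c` of `E`: some `y` centralises `u, c` and maps `e` to `u * e`; the diagonal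
automorphisms `(a, b, 1)` with `a * b ≡ 1` belong to the system. -/
theorem exists_frame [Finite S] [Fact p.Prime] (hS : IsPGroup p S) (hF : F.IsSaturated p)
    (hn : p ^ 5 ≤ Nat.card S) (hc : F.IsCentric E) :
    ∃ (y : Ω) (u e c : E), y ∈ normalizerIn S E ∧ y ∉ E ∧ u ≠ 1 ∧
      y * u * y⁻¹ = (u : Ω) ∧ y * c * y⁻¹ = (c : Ω) ∧ y * e * y⁻¹ = (u : Ω) * e ∧
      (c : Ω) ∉ Subgroup.zpowers (u : Ω) ∧
      (∀ x : E, ∃ i j l : ℤ, x = u ^ i * e ^ j * c ^ l) ∧
      ∀ a b : ℤ, (p : ℤ) ∣ a * b - 1 →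
        ∃ h ∈ F.autGroup E, h u = u ^ a ∧ h e = e ^ b ∧ h c = c := by
  have hp := (Fact.out : p.Prime)
  haveI := hs.comm
  have := finite_of_le hs.le
  have : Finite (MulAut E) := Finite.of_injective (fun α => (α : E → E)) DFunLike.coe_injective
  have hn3 : Nat.card S ≠ p ^ 3 := fun h => by
    have := (Nat.pow_le_pow_iff_right hp.one_lt).1 (h ▸ hn)
    omega
  obtain ⟨y, hy, hyE, hfix⟩ := hs.exists_hyperplane_fix hS hn
  have hidx : E.relIndex (normalizerIn S E) = p := by
    have h2 := Subgroup.card_mul_index (E.subgroupOf (normalizerIn S E))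
    rw [Nat.card_congr (Subgroup.subgroupOfEquivOfLe (le_normalizerIn hs.le)).toEquiv, hs.card,
      hs.card_normalizer hS hn3] at h2
    exact Nat.eq_of_mul_eq_mul_left (pow_pos hp.pos 3) (h2.trans (by ring))
  obtain ⟨σ, hσA, hσy, hσt, hσgen, hA⟩ := exists_transvection hS hF
    (hs.isFullyNormalized hS hn3 hc) hs.cent hidx hy hyE hfix
  have hσF := autInducedBy_le_autGroup (F := F) hs.le hσA
  -- a second transvection
  obtain ⟨τ, hτF, hτt, hτne⟩ : ∃ τ ∈ F.autGroup E, IsTransvection p τ ∧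
      τ ∉ Subgroup.zpowers σ := by
    obtain ⟨a, ha, b, hb, hap, hbp, ha1, hne⟩ := hs.two
    obtain ⟨d, hd, hdp, hdne⟩ : ∃ d ∈ F.autGroup E, d ^ p = 1 ∧ d ∉ Subgroup.zpowers σ := by
      by_contra h
      push Not at h
      have ha' := h a ha hap
      have heq : Subgroup.zpowers a = Subgroup.zpowers σ := Subgroup.eq_of_le_of_card_ge
        (Subgroup.zpowers_le.2 ha') (by
          rw [Nat.card_zpowers, Nat.card_zpowers, orderOf_eq_prime hap ha1, hσt.order])
      exact hne (heq ▸ h b hb hbp)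
    obtain ⟨T, hT⟩ := (automized_receptive hS hF (hs.isFullyNormalized hS hn3 hc)).1.2
    obtain ⟨g, hg⟩ := exists_conj_mem_sylow T (X := Subgroup.zpowers (⟨d, hd⟩ : F.autGroup E))
      (FusionPearl.isPGroup_zpowers_of_pow (Subtype.ext (by simpa using hdp)))
    have h1 := hg _ (Subgroup.mem_zpowers _)
    rw [hT, Subgroup.mem_subgroupOf, hσgen] at h1
    obtain ⟨j, hj⟩ := h1
    simp only [Subgroup.coe_mul, Subgroup.coe_inv] at hj
    set gg : MulAut E := (g : MulAut E)
    refine ⟨gg⁻¹ * σ * gg, mul_mem (mul_mem (inv_mem g.2) hσF) g.2,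
      by simpa using hσt.conj gg⁻¹, fun hmem => hdne ?_⟩
    have hd' : d = (gg⁻¹ * σ * gg) ^ j := by
      have h3 := conj_zpow (i := j) (a := gg⁻¹) (b := σ)
      rw [inv_inv] at h3
      rw [h3, hj]
      group
    rw [hd']
    exact zpow_mem hmem j
  obtain ⟨τ', z, z', hτ'A, P, hτ'z, -⟩ :=
    exists_pair (hS.to_le hs.le) hA hσF hτF hσt hτt hτne
  -- the common fixed line
  set C := fixSub σ ⊓ fixSub τ' with hC
  have hexp : ∀ x : E, x ^ p = 1 := fun x => Subtype.ext (by simpa using hs.exp x x.2)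
  obtain ⟨c, hcC, hc1, hCc⟩ : ∃ c ∈ C, c ≠ 1 ∧ C ≤ Subgroup.zpowers c := by
    have hlt : Nat.card (fixSub σ) = p ^ 2 := by
      have h2 := Subgroup.card_mul_index (fixSub σ)
      rw [hσt.index, hs.card] at h2
      exact Nat.eq_of_mul_eq_mul_right hp.pos (h2.trans (by ring))
    have hzc : Nat.card (Subgroup.zpowers z) = p := by
      rw [Nat.card_zpowers, orderOf_eq_prime (hexp z) P.z_ne]
    obtain ⟨x, hx, hxz⟩ : ∃ x ∈ fixSub σ, x ∉ Subgroup.zpowers z := by
      by_contra h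
      push Not at h
      have := Subgroup.card_le_of_le (show fixSub σ ≤ Subgroup.zpowers z from h)
      rw [hlt, hzc] at this
      have := (Nat.pow_le_pow_iff_right hp.one_lt).1 (this.trans_eq (pow_one p).symm)
      omega
    obtain ⟨i, c, hc', rfl⟩ := P.fix_left (mem_fixSub.1 hx)
    have hc1 : c ≠ 1 := fun h => hxz (by rw [h, mul_one]; exact ⟨i, rfl⟩)
    refine ⟨c, hc', hc1, fun d hd => ?_⟩
    have hsup : Subgroup.zpowers z ⊔ Subgroup.zpowers c = fixSub σ := by
      refine Subgroup.eq_of_le_of_card_ge (sup_le (Subgroup.zpowers_le.2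
        (mem_fixSub.2 (mem_fixSub.1 P.disp_left_z))) (Subgroup.zpowers_le.2 (Subgroup.mem_inf.1 hc').1)) ?_
      have hlt' : Subgroup.zpowers z < Subgroup.zpowers z ⊔ Subgroup.zpowers c :=
        lt_of_le_of_ne le_sup_left fun e => hxz (mul_mem ⟨i, rfl⟩
          (e.symm ▸ Subgroup.mem_sup_right (Subgroup.mem_zpowers c) : c ∈ Subgroup.zpowers z))
      obtain ⟨m, hm⟩ := IsPGroup.iff_card.1
        ((hS.to_le hs.le).to_subgroup (Subgroup.zpowers z ⊔ Subgroup.zpowers c))
      have h2 := Set.Finite.card_lt_card (Set.toFinite _) hlt'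
      rw [show Nat.card ((Subgroup.zpowers z : Subgroup E) : Set E) = p ^ 1 by
          rw [pow_one]; exact hzc,
        show Nat.card ((Subgroup.zpowers z ⊔ Subgroup.zpowers c : Subgroup E) : Set E) = p ^ m from hm]
        at h2
      rw [hlt, hm]
      exact Nat.pow_le_pow_right hp.pos ((Nat.pow_lt_pow_iff_right hp.one_lt).1 h2)
    obtain ⟨_, ⟨a, rfl⟩, _, ⟨b, rfl⟩, hab⟩ :=
      Subgroup.mem_sup.1 (hsup.ge (Subgroup.mem_inf.1 hd).1)
    simp only at hab
    have h3 : z ^ a * z' ^ (0 : ℤ) ∈ C := by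
      rw [zpow_zero, mul_one, show z ^ a = d * (c ^ b)⁻¹ by rw [← hab, mul_inv_cancel_right]]
      exact mul_mem hd (inv_mem (zpow_mem hc' b))
    have h4 := P.zpow_mul_mem_fix h3
    rw [zpow_zero, mul_one] at h4
    exact ⟨b, by rw [← hab, h4, one_mul]⟩
  have hfixy : ∀ x : E, σ x = x → y * x * y⁻¹ = (x : Ω) := fun x hx => by rw [← hσy x, hx]
  refine ⟨y, z, z', c, hy, hyE, P.z_ne, hfixy z (mem_fixSub.1 P.disp_left_z),
    hfixy c (mem_fixSub.1 (Subgroup.mem_inf.1 hcC).1), ?_, ?_, ?_, ?_⟩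
  · rw [← hσy z', apply_eq_disp σ z', P.left_apply]
    rfl
  · rintro ⟨i, hi⟩
    have hci : c = z ^ i * z' ^ (0 : ℤ) := by
      rw [zpow_zero, mul_one]
      exact Subtype.ext (by simpa using hi.symm)
    exact hc1 (hci.trans (P.zpow_mul_mem_fix (hci ▸ hcC)))
  · intro x
    obtain ⟨a, b, d, hd, hx, -, -⟩ := P.decomp x
    obtain ⟨l, rfl⟩ := hCc hd
    exact ⟨a, b, l, hx⟩
  · intro a b hab
    obtain ⟨h, hh, h1, h2, h3⟩ := Pair.torus P hab
    exact ⟨h, (Subgroup.closure_le _).2 (by rintro x (rfl | rfl) <;> assumption) hh, h1, h2,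
      h3 c hcC⟩

end Soft

end CfsgLib.FusionPearl
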