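import Cfsg.Agent.FusionClosed.Hyperplane
import Cfsg.Agent.FusionSub.Essential

/-!
# Automorphism groups of elementary abelian groups of order `p ^ 3` with strong embedding

`card_le_of_emb`: a `p`-subgroup has order at most `p`.
`exists_pair_of_emb`: two transvections generating different subgroups in general position.
`Pair.torus`: the diagonal elements of the `SL₂` generated by a pair.
-/

set_option autoImplicit false

namespace CfsgLib.FusionPearl

open Cfsg CfsgLib.FusionClosed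

variable {X : Type*} [CommGroup X] {p : ℕ}

/-- The properties used of a strongly `p`-embedded subgroup `Y` of `A`. -/
structure Emb (p : ℕ) (A : Subgroup (MulAut X)) (Y : Subgroup A) : Prop where
  ne_top : Y ≠ ⊤
  conj_mem : ∀ a ∈ Y, a ≠ 1 → IsPGroup p (Subgroup.zpowers a) → ∀ g : A, g * a * g⁻¹ ∈ Y → g ∈ Y
  exists_conj : ∀ U : Subgroup A, IsPGroup p U → ∃ g : A, ∀ u ∈ U, g * u * g⁻¹ ∈ Y

variable {A : Subgroup (MulAut X)} {Y : Subgroup A}

theorem isPGroup_zpowers_of_pow {G : Type*} [Group G] {a : G} (h : a ^ p = 1) :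
    IsPGroup p (Subgroup.zpowers a) := by
  rintro ⟨_, j, rfl⟩
  refine ⟨1, Subtype.ext ?_⟩
  show (a ^ j) ^ p ^ 1 = 1
  rw [pow_one, ← zpow_natCast, ← zpow_mul, mul_comm, zpow_mul, zpow_natCast, h, one_zpow]

theorem Emb.mem_of_commute (hY : Emb p A Y) {a b : A} (ha : a ∈ Y) (ha1 : a ≠ 1)
    (hp : IsPGroup p (Subgroup.zpowers a)) (hab : b * a = a * b) : b ∈ Y :=
  hY.conj_mem a ha ha1 hp b (by rwa [hab, mul_inv_cancel_right])

/-- No non-trivial `p`-subgroup commutes non-trivially with all its conjugates. -/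
theorem Emb.false_of_commuting (hY : Emb p A Y) {U : Subgroup A} (hU : IsPGroup p U)
    (h : ∀ g : A, ∃ σ ∈ U, ∃ τ ∈ U, σ ≠ 1 ∧ τ ≠ 1 ∧ σ * (g * τ * g⁻¹) = g * τ * g⁻¹ * σ) :
    False := by
  obtain ⟨g₀, hg₀⟩ := hY.exists_conj U hU
  have hinj := (MulAut.conj g₀).injective
  have hsub : ∀ u ∈ U, IsPGroup p (Subgroup.zpowers (g₀ * u * g₀⁻¹)) := fun u hu => by
    have := (hU.to_le (Subgroup.zpowers_le.2 hu)).map (MulAut.conj g₀).toMonoidHom
    rwa [MonoidHom.map_zpowers] at this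
  refine hY.ne_top (eq_top_iff.2 fun g _ => ?_)
  obtain ⟨σ, hσ, τ, hτ, hσ1, hτ1, hc⟩ := h (g₀⁻¹ * g * g₀)
  have hne : ∀ u : A, u ≠ 1 → g₀ * u * g₀⁻¹ ≠ 1 := fun u hu e => hu (hinj (by simpa using e))
  have h1 : g * (g₀ * τ * g₀⁻¹) * g⁻¹ ∈ Y := by
    refine hY.mem_of_commute (hg₀ σ hσ) (hne σ hσ1) (hsub σ hσ) ?_
    have := congrArg (fun u => g₀ * u * g₀⁻¹) hc
    simp only [mul_inv_rev, inv_inv, mul_assoc, mul_inv_cancel_left, inv_mul_cancel_left, mul_inv_cancel, mul_one] at this ⊢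
    exact this.symm
  exact hY.conj_mem _ (hg₀ τ hτ) (hne τ hτ1) (hsub τ hτ) g h1

section Finite

variable [Finite X] [Fact p.Prime]

omit [Finite X] [Fact p.Prime] in
theorem disp_eq_one {α : MulAut X} {y : X} (h : α y = y) : disp α y = 1 :=
  mul_inv_eq_one.2 h

omit [Finite X] [Fact p.Prime] in
theorem disp_conj' (g u : MulAut X) (y : X) :
    disp (g * u * g⁻¹) y = g (disp u (g⁻¹ y)) := by
  rw [← disp_conj g u (g⁻¹ y), MulAut.apply_inv_self]

omit [Finite X] [Fact p.Prime] in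
theorem mul_apply_disp (a b : MulAut X) (y : X) (h : a (disp b y) = disp b y) :
    disp (a * b) y = disp b y * disp a y := by
  show a (b y) * y⁻¹ = disp b y * (a y * y⁻¹)
  rw [apply_eq_disp b y, map_mul, h, mul_assoc]

/-- A large `p`-subgroup with a common axis. -/
theorem Emb.false_of_axis (hY : Emb p A Y) {U : Subgroup (MulAut X)} (hUA : U ≤ A)
    (hU : IsPGroup p U) (hcard : p < Nat.card U) {H : Subgroup X} (hH : H.index = p)
    (hfix : ∀ u ∈ U, ∀ y ∈ H, u y = y) (hd : ∀ u ∈ U, ∀ y, disp u y ∈ H) : False := by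
  refine hY.false_of_commuting (hU.comap_of_injective _ A.subtype_injective) fun g => ?_
  set gg : MulAut X := (g : MulAut X)
  have hidx : ∀ a : MulAut X, (H.map a.toMonoidHom).index = p := fun a => by
    rw [Subgroup.index_map_of_bijective a.bijective, hH]
  obtain ⟨σ, hσ, hσ1, hσd⟩ :=
    (card_le_or_exists hH hfix hd (hidx gg).le).resolve_left (by omega)
  obtain ⟨τ, hτ, hτ1, hτd⟩ :=
    (card_le_or_exists hH hfix hd (hidx gg⁻¹).le).resolve_left (by omega)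
  refine ⟨⟨σ, hUA hσ⟩, hσ, ⟨τ, hUA hτ⟩, hτ, fun e => hσ1 (congrArg Subtype.val e),
    fun e => hτ1 (congrArg Subtype.val e), Subtype.ext ?_⟩
  show σ * (gg * τ * gg⁻¹) = gg * τ * gg⁻¹ * σ
  refine commute_of_disp (hfix σ hσ) hσd ?_ fun y => ?_
  · rintro _ ⟨w, hw, rfl⟩
    show gg (τ (gg⁻¹ (gg w))) = gg w
    rw [MulAut.inv_apply_self, hfix τ hτ w hw]
  · rw [disp_conj']
    obtain ⟨w, hw, hwe⟩ := hτd (gg⁻¹ y)
    rw [← hwe]
    show gg (gg⁻¹ w) ∈ H
    rwa [MulAut.apply_inv_self]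

omit [Finite X] in
theorem exists_fix_in_centre_type {U : Subgroup (MulAut X)} (hcard : p < Nat.card U)
    {c : Subgroup X} (hc : Nat.card c = p) (hfix : ∀ u ∈ U, ∀ y ∈ c, u y = y)
    (hd : ∀ u ∈ U, ∀ y, disp u y ∈ c) {w : X} :
    ∃ u ∈ U, u ≠ 1 ∧ ∀ y ∈ Subgroup.zpowers w, u y = y := by
  let f : U →* c :=
    { toFun := fun u => ⟨disp (u : MulAut X) w, hd u u.2 w⟩
      map_one' := Subtype.ext (by simp [disp])
      map_mul' := fun a b => Subtype.ext (by
        show disp ((a : MulAut X) * (b : MulAut X)) w = disp (a : MulAut X) w * disp (b : MulAut X) w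
        rw [mul_apply_disp _ _ _ (hfix (a : MulAut X) a.2 _ (hd (b : MulAut X) b.2 w)), mul_comm]) }
  have hni : ¬ Function.Injective f := fun h => by
    have : Finite c := Nat.finite_of_card_ne_zero (hc.symm ▸ (Fact.out : p.Prime).ne_zero)
    have := Nat.card_le_card_of_injective f h
    omega
  rw [injective_iff_map_eq_one] at hni
  push Not at hni
  obtain ⟨u, hu, hu1⟩ := hni
  refine ⟨u, u.2, fun e => hu1 (Subtype.ext e), ?_⟩
  rintro _ ⟨j, rfl⟩
  show (u : MulAut X) (w ^ j) = w ^ j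
  rw [map_zpow, mul_inv_eq_one.1 (congrArg Subtype.val hu : disp (u : MulAut X) w = 1)]

/-- A large `p`-subgroup with a common centre. -/
theorem Emb.false_of_centre (hY : Emb p A Y) {U : Subgroup (MulAut X)} (hUA : U ≤ A)
    (hU : IsPGroup p U) (hcard : p < Nat.card U) {w : X} (hc : Nat.card (Subgroup.zpowers w) = p)
    (hfix : ∀ u ∈ U, ∀ y ∈ Subgroup.zpowers w, u y = y)
    (hd : ∀ u ∈ U, ∀ y, disp u y ∈ Subgroup.zpowers w) : False := by
  refine hY.false_of_commuting (hU.comap_of_injective _ A.subtype_injective) fun g => ?_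
  set gg : MulAut X := (g : MulAut X)
  obtain ⟨σ, hσ, hσ1, hσf⟩ := exists_fix_in_centre_type hcard hc hfix hd (w := gg w)
  obtain ⟨τ, hτ, hτ1, hτf⟩ := exists_fix_in_centre_type hcard hc hfix hd (w := gg⁻¹ w)
  refine ⟨⟨σ, hUA hσ⟩, hσ, ⟨τ, hUA hτ⟩, hτ, fun e => hσ1 (congrArg Subtype.val e),
    fun e => hτ1 (congrArg Subtype.val e), Subtype.ext ?_⟩
  show σ * (gg * τ * gg⁻¹) = gg * τ * gg⁻¹ * σ
  refine commute_of_disp hσf (hd σ hσ) ?_ fun y => ?_
  · intro y hy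
    have h1 : gg⁻¹ y ∈ Subgroup.zpowers (gg⁻¹ w) := by
      obtain ⟨j, rfl⟩ := hy
      exact ⟨j, (map_zpow gg⁻¹ w j).symm⟩
    show gg (τ (gg⁻¹ y)) = y
    rw [hτf _ h1, MulAut.apply_inv_self]
  · rw [disp_conj']
    obtain ⟨j, hj⟩ := hd τ hτ (gg⁻¹ y)
    exact ⟨j, (map_zpow gg w j).symm.trans (congrArg gg hj)⟩

omit [Finite X] in
theorem IsTransvection.pow_p {σ : MulAut X} (h : IsTransvection p σ) : σ ^ p = 1 := by
  rw [← h.order]
  exact pow_orderOf_eq_one σ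

omit [Finite X] in
/-- A transvection commuting with the centre of another one gives a commuting element. -/
theorem exists_commuting {σ τ : MulAut X} (hσ : IsTransvection p σ) (hτ : IsTransvection p τ)
    (hle : (disp σ).range ≤ fixSub τ) :
    ∃ ε ∈ Subgroup.closure ({σ, τ} : Set (MulAut X)),
      ε ^ p = 1 ∧ ε * σ = σ * ε ∧ ε * τ = τ * ε ∧ (ε = 1 → σ * τ = τ * σ) := by
  have hτσ : ∀ y, τ (disp σ y) = disp σ y := fun y => mem_fixSub.1 (hle ⟨y, rfl⟩)
  set ρ := τ * σ⁻¹ * τ⁻¹ with hρ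
  have hσi : ∀ y, disp σ⁻¹ y = (disp σ y)⁻¹ := fun y => by
    have h1 : σ⁻¹ (disp σ y) = disp σ y :=
      (MulEquiv.symm_apply_eq σ).2 (hσ.sq y).symm
    have h2 : σ⁻¹ y = (disp σ y)⁻¹ * y := by
      apply σ.injective
      rw [MulAut.apply_inv_self, map_mul, map_inv, hσ.sq, apply_eq_disp σ y, inv_mul_cancel_left]
    show σ⁻¹ y * y⁻¹ = _
    rw [h2, mul_inv_cancel_right]
  have hρd : ∀ y, disp ρ y = (disp σ (τ⁻¹ y))⁻¹ := fun y => by
    rw [hρ, disp_conj', hσi, map_inv, hτσ]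
  have hρs : σ * ρ = ρ * σ := by
    refine commute_of_disp (H := fixSub σ) (H' := (fixSub σ).map τ.toMonoidHom)
      (fun y hy => mem_fixSub.1 hy) (fun y => ⟨disp σ y, mem_fixSub.2 (hσ.sq y), hτσ y⟩) ?_ fun y => ?_
    · rintro _ ⟨w, hw, rfl⟩
      show τ (σ⁻¹ (τ⁻¹ (τ w))) = τ w
      rw [MulAut.inv_apply_self, show σ⁻¹ w = w from
        (MulEquiv.symm_apply_eq σ).2 (mem_fixSub.1 hw).symm]
    · rw [hρd]
      exact inv_mem (mem_fixSub.2 (hσ.sq _))
  have hs : σ ∈ Subgroup.closure ({σ, τ} : Set (MulAut X)) := Subgroup.subset_closure (Or.inl rfl)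
  have ht : τ ∈ Subgroup.closure ({σ, τ} : Set (MulAut X)) := Subgroup.subset_closure (Or.inr rfl)
  refine ⟨σ * ρ, mul_mem hs (mul_mem (mul_mem ht (inv_mem hs)) (inv_mem ht)), ?_, ?_, ?_, fun h => ?_⟩
  · rw [Commute.mul_pow hρs, IsTransvection.pow_p hσ, one_mul, hρ, conj_pow, inv_pow,
      IsTransvection.pow_p hσ, inv_one, mul_one, mul_inv_cancel]
  · rw [mul_assoc, ← hρs]
  · refine commute_of_disp (H := fixSub τ) (H' := fixSub τ) (fun y hy => ?_) (fun y => ?_)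
      (fun y hy => mem_fixSub.1 hy) fun y => mem_fixSub.2 (hτ.sq y)
    · have hy' : τ y = y := mem_fixSub.1 hy
      have h1 : τ⁻¹ y = y := (MulEquiv.symm_apply_eq τ).2 hy'.symm
      have h2 : ρ y = σ⁻¹ y := by
        rw [apply_eq_disp ρ y, hρd, h1, apply_eq_disp σ⁻¹ y, hσi]
      show σ (ρ y) = y
      rw [h2, MulAut.apply_inv_self]
    · rw [mul_apply_disp]
      · rw [hρd]
        exact mul_mem (inv_mem (hle ⟨_, rfl⟩)) (hle ⟨_, rfl⟩)
      · rw [hρd, map_inv, hσ.sq]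
  · rw [hρ] at h
    calc σ * τ = σ * (τ * σ⁻¹ * τ⁻¹) * (τ * σ) := by group
      _ = τ * σ := by rw [h, one_mul]

/-- General position of transvections inside and outside `Y`. -/
theorem Emb.not_range_le (hY : Emb p A Y) {σ τ : MulAut X} (hσA : σ ∈ A) (hτA : τ ∈ A)
    (hσY : (⟨σ, hσA⟩ : A) ∈ Y) (hτY : (⟨τ, hτA⟩ : A) ∉ Y) (hσ : IsTransvection p σ)
    (hτ : IsTransvection p τ) :
    ¬ (disp σ).range ≤ fixSub τ ∧ ¬ (disp τ).range ≤ fixSub σ := by
  have h1 : ∀ {α : MulAut X}, IsTransvection p α → α ≠ 1 := fun hα e => by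
    have := hα.order
    rw [e, orderOf_one] at this
    exact (Fact.out : p.Prime).one_lt.ne this
  have hpe : ∀ a : A, (a : MulAut X) ^ p = 1 → IsPGroup p (Subgroup.zpowers a) := fun a ha =>
    isPGroup_zpowers_of_pow (Subtype.ext (by simpa using ha))
  have hnc : σ * τ ≠ τ * σ := fun h => hτY (hY.mem_of_commute hσY
    (fun e => h1 hσ (congrArg Subtype.val e)) (hpe _ (IsTransvection.pow_p hσ)) (Subtype.ext h.symm))
  have key : ∀ {a b : MulAut X}, IsTransvection p a → IsTransvection p b →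
      Subgroup.closure ({a, b} : Set (MulAut X)) ≤ A → (disp a).range ≤ fixSub b →
      a * b ≠ b * a → ∃ e : A, e ≠ 1 ∧ IsPGroup p (Subgroup.zpowers e) ∧
        (e : MulAut X) * a = a * e ∧ (e : MulAut X) * b = b * e := by
    intro a b ha hb hle hab hne
    obtain ⟨ε, hε, hεp, hεa, hεb, hε1⟩ := exists_commuting ha hb hab
    exact ⟨⟨ε, hle hε⟩, fun e => hne (hε1 (congrArg Subtype.val e)), hpe _ hεp, hεa, hεb⟩
  have hfin : ∀ e : A, e ≠ 1 → IsPGroup p (Subgroup.zpowers e) →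
      (e : MulAut X) * σ = σ * e → (e : MulAut X) * τ = τ * e → False := fun e he1 hep hes het =>
    hτY (hY.mem_of_commute (hY.mem_of_commute hσY (fun h => h1 hσ (congrArg Subtype.val h))
      (hpe _ (IsTransvection.pow_p hσ)) (Subtype.ext hes)) he1 hep (Subtype.ext het.symm))
  refine ⟨fun hle => ?_, fun hle => ?_⟩
  · obtain ⟨e, h2, h3, h4, h5⟩ := key hσ hτ ((Subgroup.closure_le _).2
      (by rintro x (rfl | rfl) <;> assumption)) hle hnc
    exact hfin e h2 h3 h4 h5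
  · obtain ⟨e, h2, h3, h4, h5⟩ := key hτ hσ ((Subgroup.closure_le _).2
      (by rintro x (rfl | rfl) <;> assumption)) hle (Ne.symm hnc)
    exact hfin e h2 h3 h5 h4

/-- Normalisation of two transvections in general position. -/
theorem exists_pair_of_not_le {σ τ : MulAut X} (hσ : IsTransvection p σ) (hτ : IsTransvection p τ)
    (h₁ : ¬ (disp σ).range ≤ fixSub τ) (h₂ : ¬ (disp τ).range ≤ fixSub σ) :
    ∃ (j : ℕ) (z z' : X), Pair p σ (τ ^ j) z z' := by
  obtain ⟨z', hz', hz'σ⟩ := SetLike.not_le_iff_exists.1 h₂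
  have hz'1 : z' ≠ 1 := fun h => hz'σ (h ▸ one_mem _)
  set z := disp σ z' with hz
  have hz1 : z ≠ 1 := hz'σ
  have hzr := hσ.range_eq (z := z) ⟨z', rfl⟩ hz1
  have hzτ : disp τ z ≠ 1 := fun h => h₁ (hzr ▸ Subgroup.zpowers_le.2 h)
  obtain ⟨j, hj⟩ : z' ∈ Submonoid.powers (disp τ z) :=
    mem_powers_iff_mem_zpowers.2 (hτ.range_eq ⟨z, rfl⟩ hzτ ▸ hz')
  simp only at hj
  have hj' : j.Coprime p := by
    refine ((Fact.out : p.Prime).coprime_iff_not_dvd.2 fun hd => hz'1 ?_).symm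
    obtain ⟨m, rfl⟩ := hd
    rw [← hj, pow_mul, hτ.range_pow ⟨z, rfl⟩, one_pow]
  have hfix : fixSub (τ ^ j) = fixSub τ := by
    ext y
    rw [fixSub, fixSub, MonoidHom.mem_ker, MonoidHom.mem_ker, hτ.disp_pow]
    refine ⟨fun h => ?_, fun h => by rw [h, one_pow]⟩
    have h2 : orderOf (disp τ y) ∣ Nat.gcd j p :=
      Nat.dvd_gcd (orderOf_dvd_of_pow_eq_one h) (orderOf_dvd_of_pow_eq_one (hτ.range_pow ⟨y, rfl⟩))
    rw [hj'.gcd_eq_one] at h2
    exact orderOf_eq_one_iff.1 (Nat.eq_one_of_dvd_one h2)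
  have hτj : IsTransvection p (τ ^ j) := by
    refine ⟨?_, hfix ▸ hτ.index, fun y => ?_⟩
    · rw [Nat.Coprime.orderOf_pow (by rw [hτ.order]; exact hj'.symm), hτ.order]
    · rw [hτ.disp_pow, map_pow, hτ.pow_apply,
        show disp τ (disp τ y) = 1 from disp_eq_one (hτ.sq y), one_pow, one_mul]
  exact ⟨j, z, z', hσ, hτj, hzr, hτj.range_eq ⟨z, by rw [hτ.disp_pow]; exact hj⟩ hz'1, hz1, hz'1,
    hz.symm, by rw [hτ.disp_pow]; exact hj⟩

omit [Finite X] [Fact p.Prime] in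
/-- The diagonal elements. -/
theorem Pair.torus {σ τ : MulAut X} {z z' : X} (P : Pair p σ τ z z') [Fact p.Prime] {a b : ℤ}
    (hab : ((p : ℤ)) ∣ a * b - 1) :
    ∃ h ∈ Subgroup.closure ({σ, τ} : Set (MulAut X)),
      h z = z ^ a ∧ h z' = z' ^ b ∧ ∀ c ∈ fixSub σ ⊓ fixSub τ, h c = c := by
  have hσz : σ z = z := mem_fixSub.1 P.disp_left_z
  have hσz' : σ z' = z * z' := by rw [apply_eq_disp σ z', P.left_apply]
  have hτz : τ z = z' * z := by rw [apply_eq_disp τ z, P.right_apply]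
  have hτz' : τ z' = z' := mem_fixSub.1 P.disp_right_z'
  have hs : ∀ i : ℤ, (σ ^ i) z' = z ^ i * z' ∧ (σ ^ i) z = z := by
    intro i
    induction i with
    | zero => simp
    | succ i ih =>
      rw [zpow_add, zpow_one, MulAut.mul_apply, MulAut.mul_apply, hσz', hσz, map_mul, ih.1, ih.2,
        zpow_add, zpow_one, ← mul_assoc, mul_comm z]
      exact ⟨rfl, rfl⟩
    | pred i ih =>
      have h1 : σ⁻¹ z' = z⁻¹ * z' := by
        apply σ.injective
        rw [MulAut.apply_inv_self, map_mul, map_inv, hσz, hσz', inv_mul_cancel_left]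
      have h2 : σ⁻¹ z = z := (MulEquiv.symm_apply_eq σ).2 hσz.symm
      rw [zpow_sub, zpow_one, MulAut.mul_apply, MulAut.mul_apply, h1, h2, map_mul, map_inv, ih.1,
        ih.2, zpow_sub, zpow_one, ← mul_assoc, mul_comm z⁻¹]
      exact ⟨rfl, rfl⟩
  have ht : ∀ i : ℤ, (τ ^ i) z = z' ^ i * z ∧ (τ ^ i) z' = z' := by
    intro i
    induction i with
    | zero => simp
    | succ i ih =>
      rw [zpow_add, zpow_one, MulAut.mul_apply, MulAut.mul_apply, hτz, hτz', map_mul, ih.1, ih.2,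
        zpow_add, zpow_one, ← mul_assoc, mul_comm z']
      exact ⟨rfl, rfl⟩
    | pred i ih =>
      have h1 : τ⁻¹ z = z'⁻¹ * z := by
        apply τ.injective
        rw [MulAut.apply_inv_self, map_mul, map_inv, hτz', hτz, inv_mul_cancel_left]
      have h2 : τ⁻¹ z' = z' := (MulEquiv.symm_apply_eq τ).2 hτz'.symm
      rw [zpow_sub, zpow_one, MulAut.mul_apply, MulAut.mul_apply, h1, h2, map_mul, map_inv, ih.1,
        ih.2, zpow_sub, zpow_one, ← mul_assoc, mul_comm z'⁻¹]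
      exact ⟨rfl, rfl⟩
  have hzp : ∀ {u v : ℤ}, ((p : ℤ)) ∣ u - v → z ^ u = z ^ v ∧ z' ^ u = z' ^ v := by
    rintro u v ⟨w, hw⟩
    rw [sub_eq_iff_eq_add.1 hw, zpow_add, zpow_add, zpow_mul, zpow_mul, zpow_natCast, zpow_natCast,
      P.z_pow, P.z'_pow, one_zpow, one_mul, one_mul]
    exact ⟨rfl, rfl⟩
  -- the Weyl element
  have hw : ∀ {u v : ℤ}, ((p : ℤ)) ∣ u * v - 1 →
      (σ ^ u * τ ^ (-v) * σ ^ u) z = z' ^ (-v) ∧ (σ ^ u * τ ^ (-v) * σ ^ u) z' = z ^ u := by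
    intro u v huv
    constructor
    · rw [MulAut.mul_apply, MulAut.mul_apply, (hs u).2, (ht (-v)).1, map_mul, map_zpow,
        (hs u).1, (hs u).2, mul_zpow, ← zpow_mul, mul_comm (z ^ (u * -v)), mul_assoc]
      have h3 : z ^ (u * -v) * z = 1 := by
        rw [← zpow_add_one, (hzp (u := u * -v + 1) (v := 0) ?_).1, zpow_zero]
        have h4 : u * -v + 1 - 0 = -(u * v - 1) := by ring
        exact h4 ▸ huv.neg_right
      rw [h3, mul_one]
    · rw [MulAut.mul_apply, MulAut.mul_apply, (hs u).1, map_mul, map_zpow,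
        (ht (-v)).1, (ht (-v)).2, mul_zpow, ← zpow_mul, map_mul, map_mul, map_zpow, map_zpow,
        (hs u).1, (hs u).2, mul_zpow, ← zpow_mul]
      have h3 : z' ^ (-v * u) = z'⁻¹ := by
        rw [(hzp (u := -v * u) (v := -1) ?_).2, zpow_neg_one]
        have h4 : -v * u - -1 = -(u * v - 1) := by ring
        exact h4 ▸ huv.neg_right
      have h5 : z ^ (u * (-v * u)) = z ^ (-u) := by
        refine (hzp ?_).1
        have h4 : u * (-v * u) - -u = -((u * v - 1) * u) := by ring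
        exact h4 ▸ (huv.mul_right u).neg_right
      rw [h3, h5, zpow_neg]
      calc (z ^ u)⁻¹ * z'⁻¹ * z ^ u * (z ^ u * z')
          = ((z ^ u)⁻¹ * z ^ u) * (z'⁻¹ * z') * z ^ u := by ac_rfl
        _ = z ^ u := by rw [inv_mul_cancel, inv_mul_cancel, one_mul, one_mul]
  have hw1 := hw (u := 1) (v := 1) (by simp)
  have hwa := hw (u := -a) (v := -b) (by rwa [neg_mul_neg])
  have hmemσ : σ ∈ Subgroup.closure ({σ, τ} : Set (MulAut X)) := Subgroup.subset_closure (Or.inl rfl)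
  have hmemτ : τ ∈ Subgroup.closure ({σ, τ} : Set (MulAut X)) := Subgroup.subset_closure (Or.inr rfl)
  refine ⟨(σ ^ (-a) * τ ^ (-(-b)) * σ ^ (-a)) * (σ ^ (1 : ℤ) * τ ^ (-1 : ℤ) * σ ^ (1 : ℤ)),
    ?_, ?_, ?_, fun c hc => ?_⟩
  · have h := fun (u v : ℤ) => mul_mem (mul_mem (zpow_mem hmemσ u) (zpow_mem hmemτ v)) (zpow_mem hmemσ u)
    exact mul_mem (h _ _) (h _ _)
  · rw [MulAut.mul_apply, hw1.1, map_zpow, hwa.2, ← zpow_mul]
    norm_num
  · rw [MulAut.mul_apply, hw1.2, map_zpow, hwa.1, ← zpow_mul]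
    norm_num
  · have hsc : ∀ i : ℤ, (σ ^ i) c = c := fun i => by
      have h2 : Subgroup.zpowers σ ≤ MulAction.stabilizer (MulAut X) c :=
        Subgroup.zpowers_le.2 (mem_fixSub.1 (Subgroup.mem_inf.1 hc).1)
      exact h2 ⟨i, rfl⟩
    have htc : ∀ i : ℤ, (τ ^ i) c = c := fun i => by
      have h2 : Subgroup.zpowers τ ≤ MulAction.stabilizer (MulAut X) c :=
        Subgroup.zpowers_le.2 (mem_fixSub.1 (Subgroup.mem_inf.1 hc).2)
      exact h2 ⟨i, rfl⟩
    simp only [MulAut.mul_apply, hsc, htc]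

end Finite

end CfsgLib.FusionPearl
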