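import Cfsg.Agent.FusionPearl.Image

/-!
# The torus element along the tower

`Tw`: an automorphism of `Uof i` with prescribed action on the adapted basis, preserving the layers;
`Data.exists_tw`: for minimal `k` it exists for every `i ≤ k`.
-/

set_option autoImplicit false

namespace CfsgLib.FusionPearl

open Cfsg Cfsg.FusionSystem CfsgLib.Fusion CfsgLib.PMaxClass Subgroup
open scoped commutatorElement Pointwise

variable {Ω : Type*} [Group Ω] {S : Subgroup Ω} {p n : ℕ} {F : FusionSystem S}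

section App

variable {Q : Subgroup Ω} (α : MulAut Q)

theorem app_comm {x y : Ω} (hx : x ∈ Q) (hy : y ∈ Q) (hxy : ⁅x, y⁆ ∈ Q) :
    (α ⟨⁅x, y⁆, hxy⟩ : Ω) = ⁅(α ⟨x, hx⟩ : Ω), (α ⟨y, hy⟩ : Ω)⁆ := by
  rw [show (⟨⁅x, y⁆, hxy⟩ : Q) = ⁅(⟨x, hx⟩ : Q), (⟨y, hy⟩ : Q)⁆ from rfl, map_commutatorElement]
  rfl

theorem app_mul {x y : Ω} (hx : x ∈ Q) (hy : y ∈ Q) :
    (α ⟨x * y, mul_mem hx hy⟩ : Ω) = (α ⟨x, hx⟩ : Ω) * (α ⟨y, hy⟩ : Ω) := by
  rw [show (⟨x * y, mul_mem hx hy⟩ : Q) = ⟨x, hx⟩ * ⟨y, hy⟩ from rfl, map_mul]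
  rfl

theorem app_zpow {x : Ω} (hx : x ∈ Q) (a : ℤ) :
    (α ⟨x ^ a, zpow_mem hx a⟩ : Ω) = (α ⟨x, hx⟩ : Ω) ^ a := by
  rw [show (⟨x ^ a, zpow_mem hx a⟩ : Q) = ⟨x, hx⟩ ^ a from rfl, map_zpow]
  rfl

theorem app_congr {x : Ω} (hx : x ∈ Q) {y : Q} (h : (y : Ω) = x) :
    (α y : Ω) = (α ⟨x, hx⟩ : Ω) := by
  rw [show y = ⟨x, hx⟩ from Subtype.ext h]

/-- An invariant finite subgroup is the image of itself. -/
theorem exists_preimage {H : Subgroup Ω} [Finite Q] (hH : H ≤ Q)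
    (h : ∀ x : Q, (x : Ω) ∈ H → (α x : Ω) ∈ H) {z : Ω} (hz : z ∈ H) :
    ∃ x : Q, (x : Ω) ∈ H ∧ (α x : Ω) = z := by
  have heq : (H.subgroupOf Q).map α.toMonoidHom = H.subgroupOf Q := by
    refine Subgroup.eq_of_le_of_card_ge ?_ ?_
    · rintro _ ⟨v, hv, rfl⟩
      exact h v hv
    · rw [Subgroup.card_map_of_injective α.injective]
  obtain ⟨v, hv, hvz⟩ := heq.ge (show (⟨z, hH hz⟩ : Q) ∈ H.subgroupOf Q from hz)
  exact ⟨v, hv, congrArg Subtype.val hvz⟩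

theorem mem_of_app_mem {H : Subgroup Ω} [Finite Q] (hH : H ≤ Q)
    (h : ∀ x : Q, (x : Ω) ∈ H → (α x : Ω) ∈ H) {x : Q} (hx : (α x : Ω) ∈ H) : (x : Ω) ∈ H := by
  obtain ⟨y, hy, hyx⟩ := exists_preimage α hH h hx
  rwa [← α.injective (Subtype.ext hyx)]

/-- Preservation of a layer from one element. -/
theorem layer_inv (hmc : MaxClass S p n) {j : ℕ} (h1 : 1 ≤ j) (hj : j ≤ n - 2)
    (hQ : zTerm S j ≤ Q) (hlow : ∀ x : Q, (x : Ω) ∈ zTerm S (j - 1) → (α x : Ω) ∈ zTerm S j)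
    {w : Ω} (hw : w ∈ zTerm S j) (hw' : w ∉ zTerm S (j - 1))
    (hαw : (α ⟨w, hQ hw⟩ : Ω) ∈ zTerm S j) :
    ∀ x : Q, (x : Ω) ∈ zTerm S j → (α x : Ω) ∈ zTerm S j := by
  intro x hx
  have hle : zTerm S j ≤ (((zTerm S j).subgroupOf Q).comap α.toMonoidHom).map Q.subtype :=
    hmc.le_of_mem_layer h1 hj (fun z hz => ⟨⟨z, hQ (zTerm_mono (by omega) hz)⟩, hlow _ hz, rfl⟩)
      hw hw' ⟨⟨w, hQ hw⟩, hαw, rfl⟩
  obtain ⟨x', hx', hxx⟩ := hle hx
  rw [← show x' = x from Subtype.ext hxx]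
  exact hx'

end App

/-- A map of the system on `T` with image `T`, as an automorphism. -/
theorem exists_aut_of_range {T : Subgroup Ω} {ψ : T →* Ω} (hψ : ψ ∈ F.Hom T) (hr : ψ.range = T) :
    ∃ β : MulAut T, β ∈ F.autGroup T ∧ ∀ x : T, (β x : Ω) = ψ x := by
  obtain ⟨f, hf, hfx⟩ := exists_iso hψ hr
  exact ⟨f, IsIso.mem_autGroup hf, hfx⟩

/-- The torus element on `Uof i`. -/
structure Tw (p n : ℕ) (F : FusionSystem S) (E : Subgroup Ω) (k : ℕ) (u e c : Ω) (l l' : ℤ)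
    (i : ℕ) (α : MulAut (Uof S E k i)) : Prop where
  mem : α ∈ F.autGroup (Uof S E k i)
  hc : ∀ x : Uof S E k i, (x : Ω) = c → (α x : Ω) = c
  hu : ∀ x : Uof S E k i, (x : Ω) = u → (α x : Ω) = u ^ l
  he : ∀ x : Uof S E k i, (x : Ω) = e → ∃ d ∈ Dof S n E k i, (α x : Ω) = e ^ l' * d
  hD : ∀ j ≤ i, ∀ x : Uof S E k i, (x : Ω) ∈ Dof S n E k j → (α x : Ω) ∈ Dof S n E k j
  hZ : ∀ j, j + 1 ≤ i → j + 2 ≤ k →
    ∀ x : Uof S E k i, (x : Ω) ∈ zTerm S j → (α x : Ω) ∈ zTerm S j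
  hs : ∀ j, 2 ≤ j → j ≤ i → ∀ x : Uof S E k i, (x : Ω) ∈ Dof S n E k j →
    (α x : Ω) * ((x : Ω) ^ (l ^ j))⁻¹ ∈ Dof S n E k (j - 1)

namespace Data

variable [Fact p.Prime] [Finite S] {E : Subgroup Ω} {k : ℕ} {y u e c : Ω}
  (T : Data p n F E k y u e c)
include T

theorem exists_tw_one {l l' : ℤ} (hll : (p : ℤ) ∣ l * l' - 1) :
    ∃ α, Tw p n F E k u e c l l' 1 α := by
  obtain ⟨h, hh, hu, he, hc⟩ := T.fr.torus l l' hll
  have hI : IsIso F h := (mem_autGroup_iff T.ES).1 hh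
  have hUE : Uof S E k 1 ≤ E := T.U_one.le
  have hr : (restrictHom (E.subtype.comp h.toMonoidHom) hUE).range = Uof S E k 1 := by
    rw [range_restrictHom, T.U_one, imgHom_self, range_subtype_comp]
  obtain ⟨α, hα, hαx⟩ := exists_aut_of_range (restrict_mem hI hUE) hr
  have hval : ∀ (x : Uof S E k 1) (z : Ω) (hz : z ∈ E), (x : Ω) = z →
      (α x : Ω) = (h ⟨z, hz⟩ : Ω) := by
    intro x z hz hxz
    rw [hαx]
    exact app_congr h hz (y := ⟨x, hUE x.2⟩) hxz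
  refine ⟨α, hα, fun x hx => (hval x c T.fr.hc hx).trans hc,
    fun x hx => (hval x u T.fr.hu hx).trans hu,
    fun x hx => ⟨1, one_mem _, by rw [mul_one]; exact (hval x e T.fr.he hx).trans he⟩,
    fun j hj x hx => ?_, fun j hj _ x hx => ?_, fun j hj hj' => absurd hj' (by omega)⟩
  · have hjY : Dof S n E k j = Yof S n E := by
      rcases Nat.eq_zero_or_pos j with rfl | hj0
      · exact T.D_zero
      · rw [show j = 1 by omega, T.D_one]
    rw [hjY] at hx ⊢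
    obtain ⟨i, m, hxim⟩ := T.fr.mem_Yof T.st T.tgt hx
    rw [hval x (u ^ i * c ^ m) (mul_mem (zpow_mem T.fr.hu i) (zpow_mem T.fr.hc m)) hxim,
      app_mul h (zpow_mem T.fr.hu i) (zpow_mem T.fr.hc m), app_zpow h T.fr.hu,
      app_zpow h T.fr.hc, hu, hc]
    exact mul_mem (zpow_mem (zpow_mem T.fr.u_mem_Y l) i) (zpow_mem T.fr.c_mem_Y m)
  · obtain rfl : j = 0 := by omega
    rw [zTerm_zero, Subgroup.mem_bot] at hx ⊢
    rw [show x = 1 from Subtype.ext hx, map_one]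
    rfl

/-- The series used for the extensions. -/
theorem exists_next (hk : MinIdx p n F k) {l l' : ℤ} {i : ℕ} (h1 : 1 ≤ i) (hi : i < k)
    {α : MulAut (Uof S E k i)} (hα : Tw p n F E k u e c l l' i α) :
    ∃ β : MulAut (Uof S E k (i + 1)), β ∈ F.autGroup (Uof S E k (i + 1)) ∧
      ∀ (x : Uof S E k (i + 1)) (x' : Uof S E k i), (x : Ω) = x' → (β x : Ω) = α x' := by
  have hn := T.n5
  have hN := T.normalizer_U h1 hi (T.ok i)
  have hix : ix k i = i := ix_of_lt hi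
  let Dser : ℕ → Subgroup Ω := fun m =>
    if m = 0 then Uof S E k i else if m = 1 then Dof S n E k i else zTerm S (i + 1 - m)
  have hZle : ∀ j, j ≤ i → zTerm S j ≤ Uof S E k i := fun j hj =>
    (T.Z_le_D (hj.trans hix.ge)).trans (T.D_le_U i)
  have hle : ∀ m, Dser m ≤ Uof S E k i := by
    intro m
    simp only [Dser]
    split_ifs with h0 h1'
    · exact le_rfl
    · exact T.D_le_U i
    · exact hZle _ (by omega)
  have hnorm : ∀ m, normalizerIn S (Uof S E k i) ≤ normalizer (Dser m : Set Ω) := by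
    intro m
    simp only [Dser]
    split_ifs with h0 h1'
    · exact inf_le_right
    · intro g hg
      rw [Subgroup.mem_normalizer_iff]
      refine fun x => ⟨T.conj_D_mem hi.le (T.ok' i) hg, fun hx => ?_⟩
      have := T.conj_D_mem hi.le (T.ok' i) (inv_mem hg) hx
      simpa [mul_assoc] using this
    · exact (normalizerIn_le S _).trans (le_normalizer_zTerm _)
  have hpres : ∀ m, ∀ x : Uof S E k i, (x : Ω) ∈ Dser m → (α x : Ω) ∈ Dser m := by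
    intro m x hx
    simp only [Dser] at hx ⊢
    split_ifs at hx ⊢ with h0 h1'
    · exact (α x).2
    · exact hα.hD i le_rfl x hx
    · exact hα.hZ _ (by omega) (by omega) x hx
  have hTle : Uof S E k (i + 1) ≤ normalizerIn S (Uof S E k i) := T.U_step_le h1 hi (T.ok i)
  have hstab : ∀ g ∈ Uof S E k (i + 1), ∀ m, m < i + 1 → ∀ x ∈ Dser m,
      x⁻¹ * (g * x * g⁻¹) ∈ Dser (m + 1) := by
    intro g hg m hm x hx
    have hgN := hTle hg
    have hcomm : x⁻¹ * (g * x * g⁻¹) = ⁅x⁻¹, g⁆ := by simp [commutatorElement_def, mul_assoc]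
    rw [hcomm]
    simp only [Dser] at hx ⊢
    rcases Nat.eq_zero_or_pos m with rfl | hm0
    · rw [if_pos rfl] at hx
      rw [if_neg (by omega), if_pos rfl]
      refine T.U_inf hi.le (T.ok' i) ?_ ?_
      · rw [← hcomm]
        exact mul_mem (inv_mem hx) ((Subgroup.mem_normalizer_iff.1 hgN.2 _).1 hx)
      · have hxS := inv_mem (T.U_le_S i hx)
        have := (commutator_pred (i := n - 1) ((T.st.Z_top le_rfl).symm ▸ hxS) hgN.1).1
        rwa [show n - 1 - 1 = n - 2 by omega] at this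
    · rw [if_neg (by omega), if_neg (by omega)]
      rcases Nat.lt_or_ge m 2 with h2 | h2
      · obtain rfl : m = 1 := by omega
        rw [if_neg (by omega), if_pos rfl] at hx
        obtain ⟨j, d, hd, rfl⟩ := T.mem_U hg
        rw [show i + 1 - (1 + 1) = i - 1 by omega]
        refine (show e ^ j * d ∈ commSub S (i - 1) (inv_mem (T.D_le_S i hx)) from
          mul_mem (zpow_mem (show e ∈ commSub S (i - 1) (inv_mem (T.D_le_S i hx)) from ⟨T.eS, ?_⟩) j)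
            (show d ∈ commSub S (i - 1) (inv_mem (T.D_le_S i hx)) from ⟨T.D_le_S _ hd, ?_⟩)).2
        · exact T.comm_De hi (inv_mem hx)
        · exact comm_symm (T.comm_DD h1 hi (T.ok i) hd (inv_mem hx))
      · rw [if_neg (by omega), if_neg (by omega)] at hx
        rw [show i + 1 - (m + 1) = i + 1 - m - 1 by omega]
        exact (commutator_pred (inv_mem hx) hgN.1).1
  obtain ⟨ψ, hψ, hψx⟩ := exists_extension_of_series T.st.isP T.st.sat (T.fullyNormalized_U hk h1 hi)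
    Dser (i + 1) rfl (by simp [Dser]; intro; omega) hle hnorm hα.mem hpres hTle hstab
  have hr : ψ.range = Uof S E k (i + 1) := by
    have := finite_of_le (T.U_le_S (i + 1))
    refine Subgroup.eq_of_le_of_card_ge ?_ ?_
    · rintro _ ⟨g, rfl⟩
      refine hN.le ⟨apply_mem hψ g, ?_⟩
      have := finite_of_le (T.U_le_S i)
      refine mem_normalizer_iff_map_conj_eq.2 (Subgroup.eq_of_le_of_card_ge ?_
        (by rw [Subgroup.card_map_of_injective (MulEquiv.injective _)]))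
      rintro _ ⟨z, hz, rfl⟩
      obtain ⟨x, -, rfl⟩ := exists_preimage α le_rfl (fun x _ => (α x).2) hz
      show ψ g * (α x : Ω) * (ψ g)⁻¹ ∈ Uof S E k i
      have hxT := T.U_mono (Nat.le_succ i) x.2
      have hgx := (Subgroup.mem_normalizer_iff.1 (hTle g.2).2 _).1 x.2
      rw [← hψx x hxT, ← map_inv, ← map_mul, ← map_mul,
        show g * ⟨(x : Ω), hxT⟩ * g⁻¹ = (⟨(g : Ω) * x * (g : Ω)⁻¹,
          T.U_mono (Nat.le_succ i) hgx⟩ : Uof S E k (i + 1)) from rfl,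
        hψx ⟨_, hgx⟩]
      exact (α _).2
    · rw [← Nat.card_congr (MonoidHom.ofInjective (F.injective_of_mem hψ)).toEquiv]
  obtain ⟨β, hβ, hβx⟩ := exists_aut_of_range hψ hr
  refine ⟨β, hβ, fun x x' hxx => ?_⟩
  rw [hβx, show x = ⟨(x' : Ω), T.U_mono (Nat.le_succ i) x'.2⟩ from Subtype.ext hxx]
  exact hψx x' _

/-- The next layer is invariant. -/
theorem next_D_inv {i : ℕ} (h1 : 1 ≤ i) (hi : i < k) {β : MulAut (Uof S E k (i + 1))}
    (hβ : β ∈ F.autGroup (Uof S E k (i + 1)))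
    (hD : ∀ x : Uof S E k (i + 1), (x : Ω) ∈ Dof S n E k i → (β x : Ω) ∈ Dof S n E k i)
    {x : Uof S E k (i + 1)} (hx : (x : Ω) ∈ Dof S n E k (i + 1)) :
    (β x : Ω) ∈ Dof S n E k (i + 1) := by
  by_contra hno
  have := finite_of_le (T.U_le_S (i + 1))
  set H : Subgroup Ω := (((Dof S n E k (i + 1)).subgroupOf (Uof S E k (i + 1))).map β.toMonoidHom).map (Uof S E k (i + 1)).subtype with hH
  have hHmem : ∀ z : (Uof S E k (i + 1)), (z : Ω) ∈ (Dof S n E k (i + 1)) → (β z : Ω) ∈ H := fun z hz => ⟨β z, ⟨z, hz, rfl⟩, rfl⟩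
  have hHinv : ∀ z ∈ H, ∃ d : (Uof S E k (i + 1)), (d : Ω) ∈ (Dof S n E k (i + 1)) ∧ (β d : Ω) = z := by
    rintro _ ⟨_, ⟨d, hd, rfl⟩, rfl⟩
    exact ⟨d, hd, rfl⟩
  -- some `d * e` lies in the image
  obtain ⟨x₁, hx₁, hx₁e⟩ : ∃ x₁ ∈ (Dof S n E k (i + 1)), x₁ * e ∈ H := by
    obtain ⟨j, d, hd, hjd⟩ := T.mem_U (β x).2
    have hj : ¬ (p : ℤ) ∣ j := by
      rintro ⟨t, rfl⟩
      apply hno
      rw [hjd, zpow_mul, zpow_natCast, T.tgt.soft.exp e T.fr.he, one_zpow, one_mul]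
      exact hd
    have hUN : (Dof S n E k (i + 1)) ⊔ H ≤ S := sup_le (T.D_le_S _) fun z hz => by
      obtain ⟨d, -, rfl⟩ := hHinv z hz
      exact T.U_le_S _ (β d).2
    have heH : e ∈ (Dof S n E k (i + 1)) ⊔ H := by
      refine mem_of_zpow_mem T.st.isP T.eS hj ?_
      have h2 := mul_mem (mem_sup_right (hHmem x hx) : (β x : Ω) ∈ (Dof S n E k (i + 1)) ⊔ H)
        (inv_mem (mem_sup_left hd : d ∈ (Dof S n E k (i + 1)) ⊔ H))
      rwa [hjd, mul_inv_cancel_right] at h2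
    have hHD : H ≤ normalizer ((Dof S n E k (i + 1)) : Set Ω) := by
      intro z hz
      obtain ⟨d, -, rfl⟩ := hHinv z hz
      have hzN : (β d : Ω) ∈ normalizerIn S (Uof S E k (i + 1)) := le_normalizerIn (T.U_le_S _) (β d).2
      rw [Subgroup.mem_normalizer_iff]
      refine fun w => ⟨T.conj_D_mem hi (T.ok' _) hzN, fun hw => ?_⟩
      have := T.conj_D_mem hi (T.ok' _) (inv_mem hzN) hw
      simpa [mul_assoc] using this
    rw [← SetLike.mem_coe, Subgroup.coe_mul_of_right_le_normalizer_left _ _ hHD] at heH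
    obtain ⟨d₀, hd₀, z, hz, hdz⟩ := heH
    refine ⟨d₀⁻¹, inv_mem hd₀, ?_⟩
    rw [show d₀⁻¹ * e = z by rw [← hdz]; exact inv_mul_cancel_left d₀ z]
    exact hz
  obtain ⟨g, hg, hgx⟩ := T.orbit (i := i + 1) (by omega) hi (T.ok' _) hx₁
  rw [Nat.add_sub_cancel] at hgx
  have hDi : ∀ w ∈ Dof S n E k i, w ∈ H := by
    intro w hw
    obtain ⟨w', hw', rfl⟩ := exists_preimage β ((T.D_le_U i).trans (T.U_mono (Nat.le_succ i))) hD hw
    exact hHmem w' (T.D_mono (Nat.le_succ i) hw')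
  have hge : g * e * g⁻¹ ∈ H := by
    rw [conj_eq_commutator_mul, show ⁅g, e⁆ * e = ⁅g, e⁆ * x₁⁻¹ * (x₁ * e) by group]
    exact mul_mem (hDi _ hgx) hx₁e
  have hsh := (T.shift_normalizer h1 hi (T.ok i)).1
  have hgY : ∀ w ∈ Yof S n E, g * w * g⁻¹ ∈ H := fun w hw => hDi _
    (T.W_inv (i := i + 1) (by omega) hi (T.ok' _) hsh hg (T.Y_le_D i hw))
  have hgE : ∀ w ∈ E, g * w * g⁻¹ ∈ H := by
    intro w hw
    obtain ⟨a, b, m, rfl⟩ := T.fr.span w hw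
    rw [show g * (u ^ a * e ^ b * c ^ m) * g⁻¹ =
        g * u ^ a * g⁻¹ * (g * e ^ b * g⁻¹) * (g * c ^ m * g⁻¹) by group, ← conj_zpow (a := g) (b := e)]
    exact mul_mem (mul_mem (hgY _ (zpow_mem T.fr.u_mem_Y a)) (zpow_mem hge b))
      (hgY _ (zpow_mem T.fr.c_mem_Y m))
  have hEU : ∀ w : E, conjHom E g w ∈ (Uof S E k (i + 1)) := fun w =>
    (Subgroup.mem_normalizer_iff.1 hg.2 _).1 (T.E_le_U _ w.2)
  have hI : IsIso F β⁻¹ := (mem_autGroup_iff (T.U_le_S _)).1 (Subgroup.inv_mem _ hβ)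
  have hφ := F.comp_mem (F.conj_mem T.ES hg.1) hI hEU
  refine T.st.not_le_top (T.st.isConj_target T.tgt ⟨_, hφ, rfl⟩) ?_
  rintro _ ⟨w, rfl⟩
  obtain ⟨d, hd, hdw⟩ := hHinv _ (hgE w w.2)
  show ((β⁻¹ ⟨g * (w : Ω) * g⁻¹, hEU w⟩ : (Uof S E k (i + 1))) : Ω) ∈ zTerm S (n - 2)
  rw [show (⟨g * (w : Ω) * g⁻¹, hEU w⟩ : (Uof S E k (i + 1))) = β d from Subtype.ext hdw.symm, MulAut.inv_apply_self]
  exact T.D_le_top hi (T.ok' _) hd

/-- The scalar on the next layer. -/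
theorem next_scalar {l l' : ℤ} (hll : (p : ℤ) ∣ l * l' - 1) {i : ℕ} (h1 : 1 ≤ i) (hi : i < k)
    {α : MulAut (Uof S E k i)} (hα : Tw p n F E k u e c l l' i α)
    {β : MulAut (Uof S E k (i + 1))}
    (hagree : ∀ (x : Uof S E k (i + 1)) (x' : Uof S E k i), (x : Ω) = x' → (β x : Ω) = α x')
    (hDn : ∀ x : Uof S E k (i + 1), (x : Ω) ∈ Dof S n E k (i + 1) → (β x : Ω) ∈ Dof S n E k (i + 1))
    (x : Uof S E k (i + 1)) (hx : (x : Ω) ∈ Dof S n E k (i + 1)) :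
    (β x : Ω) * ((x : Ω) ^ (l ^ (i + 1)))⁻¹ ∈ Dof S n E k i := by
  by_cases hxi : (x : Ω) ∈ Dof S n E k i
  · refine mul_mem ?_ (inv_mem (zpow_mem hxi _))
    rw [hagree x ⟨x, T.D_le_U i hxi⟩ rfl]
    exact hα.hD i le_rfl _ hxi
  obtain ⟨x, hxU⟩ := x
  simp only at hx hxi
  show (β ⟨x, hxU⟩ : Ω) * (x ^ (l ^ (i + 1)))⁻¹ ∈ Dof S n E k i
  obtain ⟨a, v, hv, hav⟩ := T.D_rep h1 hi (T.ok i) hx hxi (hDn ⟨x, hxU⟩ hx)
  rw [hav]
  -- the commutator with `e`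
  set w := ⁅x, e⁆ with hwdef
  have hwD : w ∈ Dof S n E k i := T.comm_De' hi hx
  have hwU : w ∈ Uof S E k i := T.D_le_U i hwD
  obtain ⟨d, hd, hde⟩ := hα.he ⟨e, T.e_mem_U i⟩ rfl
  have hβw : (α ⟨w, hwU⟩ : Ω) = ⁅x ^ a * v, e ^ l' * d⁆ := by
    rw [← hagree ⟨w, T.U_mono (Nat.le_succ i) hwU⟩ ⟨w, hwU⟩ rfl,
      app_comm β hxU (T.e_mem_U _) _, hav, hagree ⟨e, T.e_mem_U _⟩ ⟨e, T.e_mem_U i⟩ rfl, hde]
  have hxS := T.D_le_S _ hx
  have hcalc : (α ⟨w, hwU⟩ : Ω) * (w ^ (a * l'))⁻¹ ∈ zTerm S (i - 1) := by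
    rw [hβw]
    exact comm_calc_mem hxS T.eS (T.D_le_S _ hv) (T.D_le_S _ hd) (T.comm_De hi hv)
      (T.comm_DD h1 hi (T.ok i) (T.D_mono (Nat.le_succ i) hv) hd)
      (comm_symm (T.comm_DD h1 hi (T.ok i) hx hd))
      (comm_symm (T.comm_DD h1 hi (T.ok i) hx hwD)) (T.comm_De hi hwD) a l'
  have hdvd : (p : ℤ) ∣ a * l' - l ^ i := by
    rcases Nat.lt_or_ge i 2 with h | h
    · obtain rfl : i = 1 := by omega
      rw [show 1 - 1 = 0 from rfl, zTerm_zero, Subgroup.mem_bot, mul_inv_eq_one] at hcalc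
      have hw1 : w ≠ 1 := T.not_comm_one (T.ok 1) hx hxi
      have hxN : x ∈ normalizerIn S E := by
        have hN1 := T.normalizer_U le_rfl hi (T.ok 1)
        rw [T.U_one] at hN1
        rw [hN1]
        exact T.D_le_U 2 hx
      obtain ⟨m, hm⟩ := T.fr.disp_mem T.st T.tgt hxN T.fr.he
      have hm' : u ^ m = w := hm
      have hαw : (α ⟨w, hwU⟩ : Ω) = w ^ l := by
        have huU : u ∈ Uof S E k 1 := T.E_le_U 1 T.fr.hu
        rw [app_congr α (zpow_mem huU m) (y := ⟨w, hwU⟩) hm'.symm, app_zpow α huU,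
          hα.hu ⟨u, huU⟩ rfl, ← zpow_mul, mul_comm l m, zpow_mul, hm']
      refine dvd_sub_of_mem T.st.isP (z := w ^ l) (zTerm_le S _ (T.comm_top hxS)) (H := ⊥)
        (w := w) (fun h => hw1 (Subgroup.mem_bot.1 h)) ?_ ?_
      · rw [Subgroup.mem_bot, mul_inv_eq_one, ← hαw, hcalc]
      · rw [Subgroup.mem_bot, mul_inv_eq_one, pow_one]
    · refine dvd_sub_of_mem T.st.isP (T.D_le_S _ hwD) (T.not_comm_mem h hi (T.ok i) hx hxi)
        (T.Z_le_D (le_ix k _) hcalc) (hα.hs i h le_rfl ⟨w, hwU⟩ hwD)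
  have ha : (p : ℤ) ∣ a - l ^ (i + 1) := by
    have : a - l ^ (i + 1) = (a * l' - l ^ i) * l - a * (l * l' - 1) := by ring
    rw [this]
    exact dvd_sub (dvd_mul_of_dvd_left hdvd l) (dvd_mul_of_dvd_right hll a)
  have hxp : x ^ p ∈ Dof S n E k i := by
    by_contra hxp
    obtain ⟨j, z, hz, hjz⟩ := T.D_rep h1 hi (T.ok i) (pow_mem hx p) hxp hx
    refine hxi (mem_of_zpow_mem T.st.isP hxS (m := 1 - p * j) ?_ ?_)
    · intro hd
      have h1' : (p : ℤ) ∣ 1 := by simpa using dvd_add hd (dvd_mul_right (p : ℤ) j)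
      exact T.st.mc.prime.one_lt.ne' (Nat.dvd_one.1 (Int.natCast_dvd_natCast.1 h1'))
    · have h2 : x ^ (1 - (p : ℤ) * j) = z := by
        rw [sub_eq_neg_add, zpow_add, zpow_neg, zpow_mul, zpow_natCast, zpow_one]
        conv_lhs => arg 2; rw [hjz]
        rw [inv_mul_cancel_left]
      rw [h2]
      exact hz
  have hvn : ∀ z ∈ Dof S n E k i, ∀ b : ℤ, x ^ b * z * (x ^ b)⁻¹ ∈ Dof S n E k i := by
    intro z hz b
    rw [conj_eq_commutator_mul]
    exact mul_mem (T.Z_le_D ((Nat.sub_le i 1).trans (le_ix k i))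
      (T.comm_DD h1 hi (T.ok i) (zpow_mem hx b) hz)) hz
  rw [show x ^ a * v * (x ^ (l ^ (i + 1)))⁻¹ =
    x ^ a * (x ^ (l ^ (i + 1)))⁻¹ * (x ^ (l ^ (i + 1)) * v * (x ^ (l ^ (i + 1)))⁻¹) by group]
  exact mul_mem (zpow_mul_inv_mem hxp ha) (hvn v hv _)

/-- The term `i` of the upper series is invariant one step up. -/
theorem next_Z {l l' : ℤ} {i : ℕ} (h1 : 1 ≤ i) (hik : i + 2 ≤ k)
    {α : MulAut (Uof S E k i)} (hα : Tw p n F E k u e c l l' i α)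
    {β : MulAut (Uof S E k (i + 1))}
    (hagree : ∀ (x : Uof S E k (i + 1)) (x' : Uof S E k i), (x : Ω) = x' → (β x : Ω) = α x')
    (hDn : ∀ x : Uof S E k (i + 1), (x : Ω) ∈ Dof S n E k (i + 1) → (β x : Ω) ∈ Dof S n E k (i + 1))
    (x : Uof S E k (i + 1)) (hx : (x : Ω) ∈ zTerm S i) : (β x : Ω) ∈ zTerm S i := by
  have hi : i < k := by omega
  have := T.kn3
  obtain ⟨x₀, hx₀, hx₀D, hx₀'⟩ := T.exists_new h1 hi (T.ok i)
  rw [ix_of_lt (show i + 1 < k by omega)] at hx₀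
  set w := ⁅x₀, e⁆ with hwdef
  have hwZ : w ∈ zTerm S i := commutator_step hx₀ T.eS
  have hw' : w ∉ zTerm S (i - 1) := by
    intro h
    rcases Nat.lt_or_ge i 2 with h2 | h2
    · obtain rfl : i = 1 := by omega
      rw [show 1 - 1 = 0 from rfl, zTerm_zero, Subgroup.mem_bot] at h
      exact T.not_comm_one (T.ok 1) hx₀D hx₀' h
    · exact T.not_comm_mem h2 hi (T.ok i) hx₀D hx₀' (T.Z_le_D (le_ix k _) h)
  have hZU : zTerm S i ≤ Uof S E k (i + 1) :=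
    ((T.Z_le_D (le_ix k i)).trans (T.D_le_U i)).trans (T.U_mono (Nat.le_succ i))
  have hx₀U : x₀ ∈ Uof S E k (i + 1) := T.D_le_U _ hx₀D
  refine layer_inv β T.st.mc h1 (by omega) hZU (fun z hz => ?_) hwZ hw' ?_ x hx
  · rw [hagree z ⟨z, T.D_le_U i (T.Z_le_D ((Nat.sub_le i 1).trans (le_ix k i)) hz)⟩ rfl]
    exact zTerm_mono (by omega) (hα.hZ (i - 1) (by omega) (by omega) _ hz)
  · obtain ⟨d, hd, hde⟩ := hα.he ⟨e, T.e_mem_U i⟩ rfl
    rw [app_comm β hx₀U (T.e_mem_U _) _, hagree ⟨e, T.e_mem_U _⟩ ⟨e, T.e_mem_U i⟩ rfl, hde]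
    have hb := hDn ⟨x₀, hx₀U⟩ hx₀D
    refine (show e ^ l' * d ∈ commSub S i (T.D_le_S _ hb) from
      mul_mem (zpow_mem (show e ∈ commSub S i (T.D_le_S _ hb) from ⟨T.eS, ?_⟩) l')
        (show d ∈ commSub S i (T.D_le_S _ hb) from ⟨T.D_le_S _ hd, ?_⟩)).2
    · exact T.comm_De (i := i + 1) (by omega) hb
    · exact zTerm_mono (Nat.sub_le i 1) (T.comm_DD h1 hi (T.ok i) hb hd)

/-- The torus element exists along the whole tower. -/
theorem exists_tw (hk : MinIdx p n F k) {l l' : ℤ} (hll : (p : ℤ) ∣ l * l' - 1) {i : ℕ}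
    (h1 : 1 ≤ i) (hik : i ≤ k) : ∃ α, Tw p n F E k u e c l l' i α := by
  induction i with
  | zero => omega
  | succ i ih =>
    rcases Nat.eq_zero_or_pos i with rfl | hi0
    · exact T.exists_tw_one hll
    obtain ⟨α, hα⟩ := ih hi0 (by omega)
    have hi : i < k := by omega
    obtain ⟨β, hβ, hagree⟩ := T.exists_next hk hi0 hi hα
    have hUm := T.U_mono (show i ≤ i + 1 by omega)
    have hold : ∀ j ≤ i, ∀ x : Uof S E k (i + 1), (x : Ω) ∈ Dof S n E k j →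
        (β x : Ω) ∈ Dof S n E k j := by
      intro j hj x hx
      rw [hagree x ⟨x, T.D_le_U i (T.D_mono hj hx)⟩ rfl]
      exact hα.hD j hj _ hx
    have hDn : ∀ x : Uof S E k (i + 1), (x : Ω) ∈ Dof S n E k (i + 1) →
        (β x : Ω) ∈ Dof S n E k (i + 1) := fun x => T.next_D_inv hi0 hi hβ (hold i le_rfl)
    refine ⟨β, hβ, fun x hx => ?_, fun x hx => ?_, fun x hx => ?_, fun j hj x hxj => ?_,
      fun j hj hjk x hxj => ?_, fun j hj hj' x hxj => ?_⟩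
    · rw [hagree x ⟨c, T.E_le_U i T.fr.hc⟩ hx]
      exact hα.hc _ rfl
    · rw [hagree x ⟨u, T.E_le_U i T.fr.hu⟩ hx]
      exact hα.hu _ rfl
    · obtain ⟨d, hd, hde⟩ := hα.he ⟨e, T.e_mem_U i⟩ rfl
      exact ⟨d, T.D_mono (Nat.le_succ i) hd, (hagree x ⟨e, T.e_mem_U i⟩ hx).trans hde⟩
    · rcases hj.eq_or_lt with rfl | hlt
      · exact hDn x hxj
      · exact hold j (by omega) x hxj
    · rcases Nat.lt_or_ge j i with hlt | hge
      · rw [hagree x ⟨x, T.D_le_U i (T.Z_le_D (hlt.le.trans (le_ix k i)) hxj)⟩ rfl]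
        exact hα.hZ j hlt hjk _ hxj
      · obtain rfl : j = i := by omega
        exact T.next_Z hi0 hjk hα hagree hDn x hxj
    · rcases hj'.eq_or_lt with rfl | hlt
      · rw [Nat.add_sub_cancel]
        exact T.next_scalar hll hi0 hi hα hagree hDn x hxj
      · rw [hagree x ⟨x, T.D_le_U i (T.D_mono (by omega) hxj)⟩ rfl]
        exact hα.hs j hj (by omega) _ hxj

end Data

end CfsgLib.FusionPearl
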