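import Cfsg.Agent.FusionPearl.Linear
import Mathlib.GroupTheory.QuotientGroup.Basic
import Mathlib.GroupTheory.PGroup

/-!
# `p`-subgroups of automorphisms of an elementary abelian group of order `p ^ 3`

`card_le_of_emb`: with a strongly `p`-embedded subgroup, their order is at most `p`.
-/

set_option autoImplicit false

namespace CfsgLib.FusionPearl

open Cfsg CfsgLib.FusionClosed
open scoped Pointwise

variable {X : Type*} [CommGroup X] {p : ℕ} [Finite X] [Fact p.Prime]

/-- A `p`-group of automorphisms fixes a non-trivial element modulo an invariant subgroup. -/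
theorem exists_fixed_mod (hX : IsPGroup p X) {R : Subgroup (MulAut X)} (hR : IsPGroup p R)
    {D : Subgroup X} (hD : ∀ r ∈ R, ∀ y ∈ D, r y ∈ D) (hne : D ≠ ⊤) :
    ∃ y, y ∉ D ∧ ∀ r ∈ R, disp r y ∈ D := by
  classical
  let f : R → (X ⧸ D) → (X ⧸ D) := fun r =>
    QuotientGroup.map D D (r : MulAut X).toMonoidHom (fun y hy => hD r r.2 y hy)
  letI act : MulAction R (X ⧸ D) :=
    { smul := f
      one_smul := fun q => by
        induction q using QuotientGroup.induction_on
        rfl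
      mul_smul := fun a b q => by
        induction q using QuotientGroup.induction_on
        rfl }
  have hsmul : ∀ (r : R) (y : X), r • (y : X ⧸ D) = (((r : MulAut X) y : X) : X ⧸ D) :=
    fun r y => rfl
  have hdvd : p ∣ Nat.card (X ⧸ D) := by
    rcases (hX.to_quotient D).card_eq_or_dvd with h | h
    · exact absurd (Subgroup.index_eq_one.1 (by rw [Subgroup.index_eq_card]; exact h)) hne
    · exact h
  obtain ⟨q, hq, hq1⟩ := hR.exists_fixed_point_of_prime_dvd_card_of_fixed_point (X ⧸ D) hdvd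
    (a := ((1 : X) : X ⧸ D)) (fun r => by rw [hsmul, map_one])
  obtain ⟨y, rfl⟩ := QuotientGroup.mk_surjective q
  refine ⟨y, fun hy => hq1 ((QuotientGroup.eq.2 (by simpa using hy))), fun r hr => ?_⟩
  have h1 : (((r y : X)) : X ⧸ D) = (y : X ⧸ D) := hq ⟨r, hr⟩
  rw [QuotientGroup.eq] at h1
  have h2 := D.inv_mem h1
  rwa [mul_inv_rev, inv_inv, mul_comm] at h2

theorem sup_zpowers_eq_top {D : Subgroup X} (hD : D.index = p) {y : X} (hy : y ∉ D) :
    D ⊔ Subgroup.zpowers y = ⊤ := by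
  have h1 := Subgroup.index_dvd_of_le (le_sup_left : D ≤ D ⊔ Subgroup.zpowers y)
  rw [hD] at h1
  rcases (Nat.dvd_prime (Fact.out : p.Prime)).1 h1 with h2 | h2
  · exact Subgroup.index_eq_one.1 h2
  · have h4 := Subgroup.relIndex_mul_index (le_sup_left : D ≤ D ⊔ Subgroup.zpowers y)
    rw [h2, hD] at h4
    have h3 : D.relIndex (D ⊔ Subgroup.zpowers y) = 1 :=
      Nat.eq_of_mul_eq_mul_right (Fact.out : p.Prime).pos (h4.trans (one_mul p).symm)
    exact absurd (Subgroup.relIndex_eq_one.1 h3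
      (Subgroup.mem_sup_right (Subgroup.mem_zpowers y))) hy

variable {A : Subgroup (MulAut X)} {Y : Subgroup A}

/-- The third case: a transvection and a regular unipotent element. -/
theorem Emb.false_of_regular (hY : Emb p A Y) (hexp : ∀ x : X, x ^ p = 1) {σ τ r : MulAut X}
    {z z' e : X} (P : Pair p σ τ z z') (hτA : τ ∈ A) (hrA : r ∈ A)
    (hfe : e ∈ fixSub σ ⊓ fixSub τ) (he1 : e ≠ 1) (hC : fixSub σ ⊓ fixSub τ ≤ Subgroup.zpowers e)
    (hr1 : ∃ b : ℤ, disp r z' = e ^ b ∧ e ^ b ≠ 1)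
    (hr2 : ∃ q : ℤ, disp r e = z ^ q ∧ z ^ q ≠ 1) (hrz : r z = z) : False := by
  have hp := (Fact.out : p.Prime)
  obtain ⟨b, hb, hb1⟩ := hr1
  obtain ⟨q, hq, hq1⟩ := hr2
  have hre : r e = z ^ q * e := by rw [apply_eq_disp r e, hq]
  have hτe : τ e = e := mem_fixSub.1 (Subgroup.mem_inf.1 hfe).2
  set c := r z' with hc
  have hc' : c = e ^ b * z' := by rw [hc, apply_eq_disp r z', hb]
  have hτc : τ c = c := by
    rw [hc', map_mul, map_zpow, hτe, mem_fixSub.1 P.disp_right_z']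
  set x := r * τ * r⁻¹ with hx
  have hxt : IsTransvection p x := P.right.conj r
  set x' := τ * x * τ⁻¹ with hx'
  have hrange : ∀ y, disp x y ∈ Subgroup.zpowers c := fun y => by
    rw [hx, disp_conj']
    obtain ⟨j, hj⟩ : disp τ (r⁻¹ y) ∈ Subgroup.zpowers z' := P.z'_range ▸ ⟨_, rfl⟩
    rw [← hj]
    exact ⟨j, by simp [hc]⟩
  have hxc : ∀ y ∈ Subgroup.zpowers c, x y = y := by
    rintro _ ⟨j, rfl⟩
    show r (τ (r⁻¹ (c ^ j))) = c ^ j
    rw [show c ^ j = r (z' ^ j) by rw [map_zpow], MulAut.inv_apply_self, map_zpow,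
      mem_fixSub.1 P.disp_right_z']
  have hτcz : ∀ y ∈ Subgroup.zpowers c, τ y = y := by
    rintro _ ⟨j, rfl⟩
    rw [map_zpow, hτc]
  have hτcz' : ∀ y ∈ Subgroup.zpowers c, τ⁻¹ y = y := fun y hy =>
    (MulEquiv.symm_apply_eq τ).2 (hτcz y hy).symm
  have hrange' : ∀ y, disp x' y ∈ Subgroup.zpowers c := fun y => by
    rw [hx', disp_conj', hτcz _ (hrange _)]
    exact hrange _
  have hxc' : ∀ y ∈ Subgroup.zpowers c, x' y = y := fun y hy => by
    show τ (x (τ⁻¹ y)) = y
    rw [hτcz' y hy, hxc y hy, hτcz y hy]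
  set U := Subgroup.closure ({x, x'} : Set (MulAut X)) with hU
  have hcomm : x * x' = x' * x := commute_of_disp hxc hrange hxc' hrange'
  have hUA : U ≤ A := (Subgroup.closure_le _).2 (by
    rintro y (rfl | rfl)
    · exact mul_mem (mul_mem hrA hτA) (inv_mem hrA)
    · exact mul_mem (mul_mem hτA (mul_mem (mul_mem hrA hτA) (inv_mem hrA))) (inv_mem hτA))
  have hmem : ∀ u ∈ U, (∀ y ∈ Subgroup.zpowers c, u y = y) ∧
      ∀ y, disp u y ∈ Subgroup.zpowers c := by
    intro u hu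
    induction hu using Subgroup.closure_induction with
    | mem u hu =>
      rcases hu with rfl | rfl
      · exact ⟨hxc, hrange⟩
      · exact ⟨hxc', hrange'⟩
    | one => exact ⟨fun y _ => rfl, fun y => by simp [disp]⟩
    | mul a b _ _ ha hb =>
      refine ⟨fun y hy => by rw [MulAut.mul_apply, hb.1 y hy, ha.1 y hy], fun y => ?_⟩
      rw [mul_apply_disp _ _ _ (ha.1 _ (hb.2 y))]
      exact mul_mem (hb.2 y) (ha.2 y)
    | inv a _ ha =>
      have hfix : ∀ y ∈ Subgroup.zpowers c, a⁻¹ y = y := fun y hy =>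
        (MulEquiv.symm_apply_eq a).2 (ha.1 y hy).symm
      refine ⟨hfix, fun y => ?_⟩
      have h1 := mul_apply_disp a⁻¹ a (a⁻¹ y) (hfix _ (ha.2 _))
      rw [inv_mul_cancel, show disp (1 : MulAut X) (a⁻¹ y) = 1 by simp [disp]] at h1
      have h2 : disp a⁻¹ (a⁻¹ y) = (disp a (a⁻¹ y))⁻¹ :=
        eq_inv_of_mul_eq_one_right h1.symm
      have h3 : disp a⁻¹ y = disp a⁻¹ (disp a (a⁻¹ y)) * disp a⁻¹ (a⁻¹ y) := by
        rw [← map_mul, ← apply_eq_disp, MulAut.apply_inv_self]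
      rw [h3, disp_eq_one (hfix _ (ha.2 _)), one_mul, h2]
      exact inv_mem (ha.2 _)
  have hUp : IsPGroup p U := by
    have hle : ∀ u ∈ U, u ^ p = 1 := by
      intro u hu
      have hcen : ∀ v ∈ U, ∀ w ∈ U, v * w = w * v := fun v hv w hw =>
        commute_of_disp (hmem v hv).1 (hmem v hv).2 (hmem w hw).1 (hmem w hw).2
      induction hu using Subgroup.closure_induction with
      | mem u hu =>
        rcases hu with rfl | rfl
        · exact IsTransvection.pow_p hxt
        · exact IsTransvection.pow_p (hxt.conj τ)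
      | one => exact one_pow p
      | mul a b ha hb ha' hb' => rw [Commute.mul_pow (hcen a ha b hb), ha', hb', one_mul]
      | inv a _ ha => rw [inv_pow, ha, inv_one]
    exact fun u => ⟨1, Subtype.ext (by simpa using hle u u.2)⟩
  have hx'not : x' ∉ Subgroup.zpowers x := by
    intro h
    obtain ⟨j, hj⟩ := h
    set y := z ^ q * e with hy
    have hry : r e = y := hre
    have hxy : x y = y := by
      show r (τ (r⁻¹ y)) = y
      rw [show r⁻¹ y = e from (MulEquiv.symm_apply_eq r).2 hry.symm, hτe, hry]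
    have hx'y : x' y = y := by
      rw [← hj]
      have h2 : Subgroup.zpowers x ≤ MulAction.stabilizer (MulAut X) y := Subgroup.zpowers_le.2 hxy
      exact h2 ⟨j, rfl⟩
    have h3 : x (τ⁻¹ y) = τ⁻¹ y := by
      apply τ.injective
      rw [MulAut.apply_inv_self]
      exact hx'y
    have hτy : τ⁻¹ y = (z' ^ q)⁻¹ * y := by
      apply τ.injective
      rw [MulAut.apply_inv_self, map_mul, map_inv, map_zpow, mem_fixSub.1 P.disp_right_z', hy,
        map_mul, map_zpow, hτe, apply_eq_disp τ z, P.right_apply, mul_zpow]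
      simp [mul_assoc]
    rw [hτy, map_mul, map_inv, hxy, mul_left_inj, inv_inj] at h3
    -- so `τ` fixes `r⁻¹ (z' ^ q)`
    have h4 : τ (r⁻¹ (z' ^ q)) = r⁻¹ (z' ^ q) := by
      apply r.injective
      rw [MulAut.apply_inv_self]
      exact h3
    have h5 : r⁻¹ z' = z' * z ^ (q * b) * (e ^ b)⁻¹ := by
      rw [MulAut.inv_apply, MulEquiv.symm_apply_eq, map_mul, map_mul, map_inv, map_zpow, map_zpow,
        hrz, hre, ← hc, hc', mul_zpow, ← zpow_mul, mul_inv_rev]
      calc z' = ((e ^ b) * (e ^ b)⁻¹) * z' * (z ^ (q * b) * (z ^ (q * b))⁻¹) := by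
            rw [mul_inv_cancel, mul_inv_cancel, one_mul, mul_one]
        _ = _ := by ac_rfl
    have h6 : disp τ (r⁻¹ (z' ^ q)) = 1 := disp_eq_one h4
    rw [map_zpow r⁻¹, h5, map_zpow, map_mul, map_mul, map_inv, map_zpow, map_zpow,
      P.disp_right_z', P.right_apply, disp_eq_one hτe, one_zpow, one_mul, inv_one, mul_one,
      ← zpow_mul] at h6
    have hdvd := orderOf_dvd_iff_zpow_eq_one.2 h6
    rw [orderOf_eq_prime P.z'_pow P.z'_ne] at hdvd
    have hno : ∀ {w : X} {i : ℤ}, w ^ i ≠ 1 → ¬ (p : ℤ) ∣ i := by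
      rintro w i hwi ⟨t, rfl⟩
      exact hwi (by rw [zpow_mul, zpow_natCast, hexp, one_zpow])
    rcases (Nat.prime_iff_prime_int.1 hp).dvd_or_dvd hdvd with h | h
    · rcases (Nat.prime_iff_prime_int.1 hp).dvd_or_dvd h with h | h
      · exact hno hq1 h
      · exact hno hb1 h
    · exact hno hq1 h
  have hcard : p < Nat.card U := by
    have hxU : Subgroup.zpowers x < U := by
      refine lt_of_le_of_ne (Subgroup.zpowers_le.2 (Subgroup.subset_closure (Or.inl rfl))) fun h => ?_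
      exact hx'not (h.symm ▸ Subgroup.subset_closure (Or.inr rfl))
    have : Finite (MulAut X) := Finite.of_injective (fun α => (α : X → X)) DFunLike.coe_injective
    have h := Set.Finite.card_lt_card (Set.toFinite (U : Set (MulAut X))) hxU
    rw [show Nat.card ((Subgroup.zpowers x : Subgroup (MulAut X)) : Set (MulAut X)) = p from
      (Nat.card_zpowers x).trans hxt.order] at h
    exact h
  have hc1 : c ≠ 1 := fun h => P.z'_ne (r.injective (by rw [← hc, h, map_one]))
  exact hY.false_of_centre hUA hUp hcard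
    (by rw [Nat.card_zpowers]; exact orderOf_eq_prime (hexp c) hc1)
    (fun u hu => (hmem u hu).1) (fun u hu => (hmem u hu).2)

set_option maxHeartbeats 800000 in
/-- A `p`-group of automorphisms has order at most `p`. -/
theorem card_le_of_emb (hX3 : Nat.card X = p ^ 3) (hexp : ∀ x : X, x ^ p = 1) (hY : Emb p A Y)
    {R : Subgroup (MulAut X)} (hRA : R ≤ A) (hR : IsPGroup p R) : Nat.card R ≤ p := by
  have hp := (Fact.out : p.Prime)
  have hX : IsPGroup p X := IsPGroup.of_card hX3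
  have : Finite (MulAut X) := Finite.of_injective (fun α => (α : X → X)) DFunLike.coe_injective
  by_contra hcard
  push Not at hcard
  -- move `R` into `Y`
  obtain ⟨g₀, hg₀⟩ := hY.exists_conj _ (hR.comap_of_injective _ A.subtype_injective)
  set R₀ := R.map (MulAut.conj (g₀ : MulAut X)).toMonoidHom with hR₀
  have hR₀A : R₀ ≤ A := by
    rintro _ ⟨u, hu, rfl⟩
    exact mul_mem (mul_mem g₀.2 (hRA hu)) (inv_mem g₀.2)
  have hR₀Y : ∀ u (hu : u ∈ R₀), (⟨u, hR₀A hu⟩ : A) ∈ Y := by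
    rintro _ ⟨u, hu, rfl⟩
    exact hg₀ ⟨u, hRA hu⟩ hu
  have hR₀p : IsPGroup p R₀ := hR.map _
  replace hcard : p < Nat.card R₀ := by
    rwa [hR₀, Subgroup.card_map_of_injective (MulEquiv.injective _)]
  clear_value R₀
  clear hR₀
  -- an invariant flag
  have hbot : (⊥ : Subgroup X) ≠ ⊤ := fun h => by
    have h1 : Nat.card (⊤ : Subgroup X) = 1 := by rw [← h, Subgroup.card_bot]
    rw [Subgroup.card_top, hX3] at h1
    rcases Nat.pow_eq_one.1 h1 with h2 | h2
    · exact hp.one_lt.ne' h2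
    · omega
  obtain ⟨w, hw1, hw⟩ := exists_fixed_mod hX hR₀p (D := ⊥)
    (fun r _ y hy => by rw [Subgroup.mem_bot] at hy ⊢; rw [hy, map_one]) hbot
  simp only [Subgroup.mem_bot] at hw1 hw
  set A₁ := Subgroup.zpowers w with hA₁
  have hA₁c : Nat.card A₁ = p := by rw [Nat.card_zpowers]; exact orderOf_eq_prime (hexp w) hw1
  have hfix₁ : ∀ r ∈ R₀, ∀ y ∈ A₁, r y = y := by
    rintro r hr _ ⟨j, rfl⟩
    rw [map_zpow, mul_inv_eq_one.1 (hw r hr)]
  have hA₁top : A₁ ≠ ⊤ := fun h => by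
    rw [h, Subgroup.card_top, hX3] at hA₁c
    have := Nat.pow_right_injective hp.two_le (hA₁c.trans (pow_one p).symm)
    omega
  obtain ⟨y, hy, hyd⟩ := exists_fixed_mod hX hR₀p (D := A₁)
    (fun r hr v hv => by rw [hfix₁ r hr v hv]; exact hv) hA₁top
  set A₂ := A₁ ⊔ Subgroup.zpowers y with hA₂
  have hA₂inv : ∀ r ∈ R₀, ∀ v ∈ A₂, disp r v ∈ A₁ := by
    intro r hr
    suffices A₂ ≤ A₁.comap (disp r) from fun v hv => this hv
    refine sup_le (fun v hv => ?_) (Subgroup.zpowers_le.2 (hyd r hr))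
    show disp r v ∈ A₁
    rw [disp_eq_one (hfix₁ r hr v hv)]
    exact one_mem _
  have hA₂c : Nat.card A₂ = p ^ 2 := by
    have hyn : Subgroup.zpowers y ≤ Subgroup.normalizer (A₁ : Set X) := by
      rw [Subgroup.normalizer_eq_top]; exact le_top
    have hyc : Nat.card (Subgroup.zpowers y) = p := by
      rw [Nat.card_zpowers]
      exact orderOf_eq_prime (hexp y) fun h => hy (h ▸ one_mem _)
    have hlt : A₁ < A₂ := lt_of_le_of_ne le_sup_left fun h =>
      hy (h ▸ Subgroup.mem_sup_right (Subgroup.mem_zpowers y))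
    have hle : Nat.card A₂ ≤ p * p := by
      have h1 : (A₂ : Set X) ⊆ (A₁ : Set X) * (Subgroup.zpowers y : Set X) := by
        rw [hA₂, Subgroup.coe_mul_of_right_le_normalizer_left _ _ hyn]
      calc Nat.card A₂ = Nat.card (A₂ : Set X) := rfl
        _ ≤ Nat.card ((A₁ : Set X) * (Subgroup.zpowers y : Set X) : Set X) :=
          Nat.card_mono (Set.toFinite _) h1
        _ ≤ Nat.card (A₁ : Set X) * Nat.card (Subgroup.zpowers y : Set X) := Set.natCard_mul_le
        _ = p * p := by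
          rw [show Nat.card (A₁ : Set X) = p from hA₁c,
            show Nat.card (Subgroup.zpowers y : Set X) = p from hyc]
    obtain ⟨k, hk⟩ := IsPGroup.iff_card.1 (hX.to_subgroup A₂)
    have h2 := Set.Finite.card_lt_card (Set.toFinite (A₂ : Set X)) hlt
    rw [show Nat.card (A₁ : Set X) = p ^ 1 by rw [pow_one]; exact hA₁c,
      show Nat.card (A₂ : Set X) = p ^ k from hk] at h2
    rw [← pow_two, hk] at hle
    rw [hk]
    have h3 := (Nat.pow_lt_pow_iff_right hp.one_lt).1 h2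
    have h4 := (Nat.pow_le_pow_iff_right hp.one_lt).1 hle
    congr 1
    omega
  have hA₂i : A₂.index = p := by
    have h := Subgroup.card_mul_index A₂
    rw [hA₂c, hX3] at h
    refine Nat.eq_of_mul_eq_mul_left (pow_pos hp.pos 2) (h.trans (by ring))
  have hA₂top : A₂ ≠ ⊤ := fun h => by
    rw [h, Subgroup.index_top] at hA₂i
    exact hp.one_lt.ne hA₂i
  obtain ⟨y₃, hy₃, hy₃d⟩ := exists_fixed_mod hX hR₀p (D := A₂)
    (fun r hr v hv => by
      rw [apply_eq_disp r v]
      exact mul_mem (Subgroup.mem_sup_left (hA₂inv r hr v hv)) hv) hA₂top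
  have hX₂ : ∀ r ∈ R₀, ∀ v, disp r v ∈ A₂ := by
    intro r hr v
    have hle : A₂ ⊔ Subgroup.zpowers y₃ ≤ A₂.comap (disp r) :=
      sup_le (fun u hu => Subgroup.mem_sup_left (hA₂inv r hr u hu))
        (Subgroup.zpowers_le.2 (hy₃d r hr))
    rw [sup_zpowers_eq_top hA₂i hy₃] at hle
    exact hle (Subgroup.mem_top v)
  -- action on `A₂`
  let f : R₀ →* A₁ :=
    { toFun := fun r => ⟨disp (r : MulAut X) y, hyd r r.2⟩
      map_one' := Subtype.ext (by simp [disp])
      map_mul' := fun a b => Subtype.ext (by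
        show disp ((a : MulAut X) * (b : MulAut X)) y = disp (a : MulAut X) y * disp (b : MulAut X) y
        rw [mul_apply_disp _ _ _ (hfix₁ (a : MulAut X) a.2 _ (hyd (b : MulAut X) b.2)), mul_comm]) }
  set K := f.ker.map R₀.subtype with hK
  have hKR : K ≤ R₀ := Subgroup.map_subtype_le _
  have hKfix : ∀ u ∈ K, ∀ v ∈ A₂, u v = v := by
    rintro _ ⟨u, hu, rfl⟩ v hv
    have hle : A₂ ≤ fixSub (u : MulAut X) := sup_le
      (fun s hs => mem_fixSub.2 (hfix₁ u u.2 s hs))
      (Subgroup.zpowers_le.2 (congrArg Subtype.val hu : disp (u : MulAut X) y = 1))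
    exact mem_fixSub.1 (hle hv)
  have hKp : Nat.card K ≤ p := by
    by_contra h
    exact hY.false_of_axis (hKR.trans hR₀A) (hR₀p.to_le hKR) (not_le.1 h) hA₂i hKfix
      fun u hu v => hX₂ u (hKR hu) v
  have hmul : Nat.card f.ker * f.ker.index = Nat.card R₀ := Subgroup.card_mul_index _
  have hidx : f.ker.index ≤ p := by
    rw [Subgroup.index_ker, ← hA₁c]
    exact Nat.le_of_dvd (Nat.card_pos) (Subgroup.card_subgroup_dvd_card _)
  have hKc : Nat.card K = Nat.card f.ker := Subgroup.card_map_of_injective R₀.subtype_injective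
  obtain ⟨σ, hσK, hσ1⟩ : ∃ σ ∈ K, σ ≠ 1 := by
    by_contra h
    push Not at h
    rw [← hKc, Subgroup.eq_bot_iff_forall _ |>.2 h, Subgroup.card_bot, one_mul] at hmul
    omega
  obtain ⟨r, hrR, hrK⟩ : ∃ r ∈ R₀, r ∉ K := by
    by_contra h
    push Not at h
    have := Subgroup.card_le_of_le (show R₀ ≤ K from h)
    omega
  have hcardR : Nat.card R₀ = p ^ 2 := by
    obtain ⟨k, hk⟩ := IsPGroup.iff_card.1 hR₀p
    have h1 : Nat.card R₀ ≤ p ^ 2 := by
      rw [← hmul, pow_two]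
      exact Nat.mul_le_mul (hKc ▸ hKp) hidx
    rw [hk] at h1 hcard ⊢
    rw [← pow_one p] at hcard
    have h3 := (Nat.pow_lt_pow_iff_right hp.one_lt).1 (by simpa using hcard : p ^ 1 < p ^ k)
    have h4 := (Nat.pow_le_pow_iff_right hp.one_lt).1 h1
    congr 1
    omega
  have hcomm : ∀ a ∈ R₀, ∀ b ∈ R₀, a * b = b * a := fun a ha b hb =>
    congrArg Subtype.val ((IsPGroup.isMulCommutative_of_card_eq_prime_sq hcardR).is_comm.comm
      (⟨a, ha⟩ : R₀) ⟨b, hb⟩)
  have hord : orderOf σ = p := by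
    have h1 : orderOf σ ∣ Nat.card K := Subgroup.orderOf_dvd_natCard K hσK
    obtain ⟨k, hk⟩ := IsPGroup.iff_card.1 (hR₀p.to_le hKR)
    rw [hk] at h1
    obtain ⟨j, hj, hjσ⟩ := (Nat.dvd_prime_pow hp).1 h1
    rw [hk] at hKp
    have h5 : k ≤ 1 := (Nat.pow_le_pow_iff_right hp.one_lt).1 (by simpa using hKp)
    rcases (show j = 0 ∨ j = 1 by omega) with rfl | rfl
    · exact absurd (orderOf_eq_one_iff.1 (by simpa using hjσ)) hσ1
    · simpa using hjσ
  have hσA : σ ∈ A := hR₀A (hKR hσK)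
  have hσfix : fixSub σ = A₂ := by
    refine le_antisymm (fun v hv => ?_) fun v hv => mem_fixSub.2 (hKfix σ hσK v hv)
    by_contra hv'
    refine hσ1 (MulEquiv.ext fun u => mem_fixSub.1 ?_)
    have hle : A₂ ⊔ Subgroup.zpowers v ≤ fixSub σ :=
      sup_le (fun s hs => mem_fixSub.2 (hKfix σ hσK s hs)) (Subgroup.zpowers_le.2 hv)
    rw [sup_zpowers_eq_top hA₂i hv'] at hle
    exact hle (Subgroup.mem_top u)
  have hσt : IsTransvection p σ := ⟨hord, hσfix ▸ hA₂i,
    fun v => hKfix σ hσK _ (hX₂ σ (hKR hσK) v)⟩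
  -- a conjugate outside `Y`
  obtain ⟨g, hg⟩ : ∃ g : A, g * ⟨σ, hσA⟩ * g⁻¹ ∉ Y := by
    by_contra h
    push Not at h
    refine hY.ne_top (eq_top_iff.2 fun g _ => hY.conj_mem _ (hR₀Y σ (hKR hσK))
      (fun e => hσ1 (congrArg Subtype.val e)) (isPGroup_zpowers_of_pow (Subtype.ext ?_)) g (h g))
    simpa using IsTransvection.pow_p hσt
  have hτA : (g : MulAut X) * σ * (g : MulAut X)⁻¹ ∈ A := mul_mem (mul_mem g.2 hσA) (inv_mem g.2)
  have hτt := hσt.conj (g : MulAut X)
  obtain ⟨h₁, h₂⟩ := hY.not_range_le hσA hτA (hR₀Y σ (hKR hσK)) hg hσt hτt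
  obtain ⟨j, z, z', P⟩ := exists_pair_of_not_le hσt hτt h₁ h₂
  have hzA₂ : z ∈ A₂ := by
    rw [← hσfix, fixSub]
    exact MonoidHom.mem_ker.2 P.disp_left_z
  have hz' : z' ∉ A₂ := by
    rw [← hσfix, fixSub, MonoidHom.mem_ker, P.left_apply]
    exact P.z_ne
  -- `z` generates `A₁`
  have hry : disp r y ≠ 1 := fun h =>
    hrK ⟨⟨r, hrR⟩, Subtype.ext h, rfl⟩
  have hrz : r z = z := by
    have h1 : r z = σ (r z') * (r z')⁻¹ := by
      have h2 : σ (r z') = r (σ z') := by
        have := DFunLike.congr_fun (hcomm σ (hKR hσK) r hrR) z'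
        simpa only [MulAut.mul_apply] using this
      rw [h2, ← map_inv, ← map_mul]
      show r z = r (disp σ z')
      rw [P.left_apply]
    have h3 : disp σ (r z') = disp σ z' := by
      rw [apply_eq_disp r z', map_mul, disp_eq_one (hKfix σ hσK _ (hX₂ r hrR z')), one_mul]
    rw [h1]
    show disp σ (r z') = z
    rw [h3, P.left_apply]
  have hzA₁ : z ∈ A₁ := by
    obtain ⟨a, ha, b', ⟨i, rfl⟩, he⟩ := Subgroup.mem_sup.1 hzA₂
    simp only at he
    by_contra hz
    have h1 : disp r z = disp r y ^ i := by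
      rw [← he, map_mul, disp_eq_one (hfix₁ r hrR a ha), one_mul, map_zpow]
    rw [disp_eq_one hrz] at h1
    have hdvd := orderOf_dvd_iff_zpow_eq_one.2 h1.symm
    rw [orderOf_eq_prime (hexp _) hry] at hdvd
    obtain ⟨t, rfl⟩ := hdvd
    refine hz ?_
    rw [← he, show y ^ ((p : ℤ) * t) = 1 by rw [zpow_mul, zpow_natCast, hexp, one_zpow], mul_one]
    exact ha
  have hA₁z : A₁ = Subgroup.zpowers z := by
    refine (Subgroup.eq_of_le_of_card_ge (Subgroup.zpowers_le.2 hzA₁) ?_).symm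
    rw [hA₁c, Nat.card_zpowers, orderOf_eq_prime (hexp z) P.z_ne]
  -- `fix σ = ⟨z⟩ C`
  set C := fixSub σ ⊓ fixSub ((↑g * σ * (↑g : MulAut X)⁻¹) ^ j) with hCdef
  obtain ⟨e, heC, hye⟩ : ∃ e ∈ C, ∃ i : ℤ, y = z ^ i * e := by
    obtain ⟨a, c, hc, he⟩ := P.fix_left (mem_fixSub.1
      (hσfix.ge (Subgroup.mem_sup_right (Subgroup.mem_zpowers y))))
    exact ⟨c, hc, a, he⟩
  obtain ⟨i, hyi⟩ := hye
  have he1 : e ≠ 1 := fun h => hy (by rw [hyi, h, mul_one, hA₁z]; exact ⟨i, rfl⟩)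
  have hde : ∀ u ∈ R₀, disp u e = disp u y := fun u hu => by
    rw [hyi, map_mul, disp_eq_one (hfix₁ u hu (z ^ i) (hA₁z ▸ ⟨i, rfl⟩)), one_mul]
  have hCe : C ≤ Subgroup.zpowers e := by
    intro c hc
    obtain ⟨u, hu, v, ⟨k, rfl⟩, huv⟩ := Subgroup.mem_sup.1 (hσfix.le (Subgroup.mem_inf.1 hc).1)
    rw [hA₁z] at hu
    obtain ⟨l, rfl⟩ := hu
    refine ⟨k, ?_⟩
    have h1 : c * (e ^ k)⁻¹ = z ^ (l + i * k) := by
      rw [← huv]
      show z ^ l * y ^ k * (e ^ k)⁻¹ = _
      rw [hyi, mul_zpow, ← zpow_mul, ← mul_assoc, mul_inv_cancel_right, zpow_add]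
    have h2 : z ^ (l + i * k) * z' ^ (0 : ℤ) ∈ C := by
      rw [zpow_zero, mul_one, ← h1]
      exact mul_mem hc (inv_mem (zpow_mem heC k))
    have h3 := P.zpow_mul_mem_fix h2
    rw [zpow_zero, mul_one, ← h1, mul_inv_eq_one] at h3
    exact h3.symm
  -- normalise `r`
  obtain ⟨a, b', c, hc, hac, hσd, -⟩ := P.decomp (disp r z')
  have hb' : z' ^ b' = 1 := by
    rw [disp_eq_one (hKfix σ hσK _ (hX₂ r hrR z'))] at hσd
    have hdvd := orderOf_dvd_iff_zpow_eq_one.2 hσd.symm
    rw [orderOf_eq_prime P.z_pow P.z_ne] at hdvd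
    obtain ⟨t, rfl⟩ := hdvd
    rw [zpow_mul, zpow_natCast, P.z'_pow, one_zpow]
  rw [hb', mul_one] at hac
  obtain ⟨b, rfl⟩ := hCe hc
  simp only at hac
  set r' := σ ^ (-a) * r with hr'
  have hr'R : r' ∈ R₀ := mul_mem (zpow_mem (hKR hσK) _) hrR
  have hσpow : ∀ t : ℤ, ∀ v ∈ A₂, (σ ^ t) v = v := fun t v hv =>
    hKfix _ (zpow_mem hσK t) v hv
  have hσz' : ∀ t : ℤ, disp (σ ^ t) z' = z ^ t := by
    intro t
    have hfun : ∀ u v : K, disp ((u : MulAut X) * (v : MulAut X)) z' =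
        disp (u : MulAut X) z' * disp (v : MulAut X) z' := fun u v => by
      rw [mul_apply_disp _ _ _ (hKfix (u : MulAut X) u.2 _ (hX₂ (v : MulAut X) (hKR v.2) z')),
        mul_comm]
    let φ : K →* X :=
      { toFun := fun u => disp (u : MulAut X) z'
        map_one' := by simp [disp]
        map_mul' := hfun }
    have := map_zpow φ ⟨σ, hσK⟩ t
    show disp (σ ^ t) z' = z ^ t
    rw [← P.left_apply]
    simpa [φ] using this
  have hr'z' : disp r' z' = e ^ b := by
    rw [hr', mul_apply_disp _ _ _ (hσpow _ _ (hX₂ r hrR z')), hσz', hac, zpow_neg]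
    calc z ^ a * e ^ b * (z ^ a)⁻¹ = e ^ b * (z ^ a * (z ^ a)⁻¹) := by ac_rfl
      _ = e ^ b := by rw [mul_inv_cancel, mul_one]
  have hr'e : disp r' e = disp r y := by
    rw [hr', mul_apply_disp _ _ _ (hσpow _ _ (hX₂ r hrR e)),
      disp_eq_one (hσpow _ _ (hσfix.le (Subgroup.mem_inf.1 heC).1)), mul_one, hde r hrR]
  by_cases hb1 : e ^ b = 1
  · -- every element of `R₀` displaces into `A₁`
    have hall : ∀ v, disp r' v ∈ A₁ := by
      intro v
      have hle : A₂ ⊔ Subgroup.zpowers z' ≤ A₁.comap (disp r') :=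
        sup_le (fun u hu => hA₂inv r' hr'R u hu)
          (Subgroup.zpowers_le.2 (show disp r' z' ∈ A₁ by rw [hr'z', hb1]; exact one_mem _))
      rw [sup_zpowers_eq_top hA₂i hz'] at hle
      exact hle (Subgroup.mem_top v)
    have hσall : ∀ v, disp σ v ∈ A₁ := fun v => hA₁z ▸ (P.z_range ▸ ⟨v, rfl⟩)
    have hr'K : r' ∉ K := fun h => hry (by
      rw [← hr'e]
      exact disp_eq_one (hKfix r' h e (hσfix.le (Subgroup.mem_inf.1 heC).1)))
    set U := Subgroup.closure ({σ, r'} : Set (MulAut X)) with hUdef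
    have hUR : U ≤ R₀ := (Subgroup.closure_le _).2 (by
      rintro v (rfl | rfl)
      exacts [hKR hσK, hr'R])
    have hUfix : ∀ u ∈ U, ∀ v, disp u v ∈ A₁ := by
      intro u hu
      induction hu using Subgroup.closure_induction with
      | mem u hu =>
        rcases hu with rfl | rfl
        · exact hσall
        · exact hall
      | one => intro v; simp [disp]
      | mul s t hs ht hs' ht' =>
        intro v
        rw [mul_apply_disp _ _ _ (hfix₁ s (hUR hs) _ (ht' v))]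
        exact mul_mem (ht' v) (hs' v)
      | inv s hs hs' =>
        intro v
        have h1 := hs' (s⁻¹ v)
        have h2 : disp s⁻¹ v = (disp s (s⁻¹ v))⁻¹ := by
          show s⁻¹ v * v⁻¹ = (s (s⁻¹ v) * (s⁻¹ v)⁻¹)⁻¹
          rw [MulAut.apply_inv_self, mul_inv, inv_inv, mul_comm]
        rw [h2]
        exact inv_mem h1
    refine hY.false_of_centre (hUR.trans hR₀A) (hR₀p.to_le hUR) ?_
      (by rw [← hA₁z]; exact hA₁c) (fun u hu v hv => hfix₁ u (hUR hu) v (hA₁z ▸ hv))
      (fun u hu v => hA₁z ▸ hUfix u hu v)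
    have hlt : Subgroup.zpowers σ < U := lt_of_le_of_ne
      (Subgroup.zpowers_le.2 (Subgroup.subset_closure (Or.inl rfl))) fun h =>
      hr'K ((Subgroup.zpowers_le.2 hσK) (h.symm ▸ Subgroup.subset_closure (Or.inr rfl)))
    have h := Set.Finite.card_lt_card (Set.toFinite (U : Set (MulAut X))) hlt
    rwa [show Nat.card ((Subgroup.zpowers σ : Subgroup (MulAut X)) : Set (MulAut X)) = p from
      (Nat.card_zpowers σ).trans hord] at h
  · obtain ⟨q, hq⟩ : disp r y ∈ Subgroup.zpowers z := hA₁z ▸ hyd r hrR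
    simp only at hq
    exact hY.false_of_regular hexp P (pow_mem hτA j) (hR₀A hr'R) heC he1 hCe
      ⟨b, hr'z', hb1⟩ ⟨q, hr'e.trans hq.symm, by rw [hq]; exact hry⟩ (hfix₁ r' hr'R z hzA₁)

end CfsgLib.FusionPearl
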