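import Cfsg.Agent.PMaxClass.Ambient
import Mathlib.Data.Nat.Choose.Dvd

/-!
# Uniform elements and elements of order `p` in high terms

In a `p`-group of maximal class with an element shifting every layer `2 ≤ j ≤ n - 2` whose `p`-th
power is central, a term `Z k`, `p ≤ k ≤ n - p`, has no element of order `p` in its top layer.
-/

set_option autoImplicit false

namespace CfsgLib.PMaxClass

open Subgroup
open scoped commutatorElement

variable {Ω : Type*} [Group Ω] {S : Subgroup Ω} {p n : ℕ}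

/-- Iterated commutators with a fixed element. -/
def iterComm (g x : Ω) : ℕ → Ω
  | 0 => x
  | i + 1 => ⁅g, iterComm g x i⁆

theorem iterComm_layer {k : ℕ} {g x : Ω} (hg : g ∈ S)
    (hsh : ∀ j, 2 ≤ j → j ≤ k → ∀ w ∈ zTerm S j, w ∉ zTerm S (j - 1) → ⁅w, g⁆ ∉ zTerm S (j - 2))
    (hx : x ∈ zTerm S k) (hx' : x ∉ zTerm S (k - 1)) {i : ℕ} (hi : i + 1 ≤ k) :
    iterComm g x i ∈ zTerm S (k - i) ∧ iterComm g x i ∉ zTerm S (k - i - 1) := by
  induction i with
  | zero => exact ⟨hx, hx'⟩
  | succ i ih =>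
    obtain ⟨h1, h2⟩ := ih (by omega)
    refine ⟨?_, fun h => hsh (k - i) (by omega) (by omega) _ h1 h2 ?_⟩
    · rw [show k - (i + 1) = k - i - 1 by omega]
      exact (commutator_pred h1 hg).2
    · rw [show k - i - 2 = k - (i + 1) - 1 by omega, ← commutatorElement_inv]
      exact inv_mem h

theorem iterComm_mem {k : ℕ} {g x : Ω} (hg : g ∈ S) (hx : x ∈ zTerm S k) (i : ℕ) :
    iterComm g x i ∈ zTerm S k := by
  induction i with
  | zero => exact hx
  | succ i ih => exact zTerm_mono (Nat.sub_le k 1) (commutator_pred ih hg).2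

namespace MaxClass

theorem false_of_uniform (h : MaxClass S p n) (hp : 5 ≤ p) {k : ℕ} (hpk : p ≤ k) (hkp : k + p ≤ n)
    {c : Ω} (hc : c ∈ zTerm S k) (hc' : c ∉ zTerm S (k - 1)) (hcp : c ^ p = 1) {g : Ω} (hg : g ∈ S)
    (hgp : g ^ p ∈ zTerm S 1)
    (hsh : ∀ j, 2 ≤ j → j ≤ n - 2 → ∀ w ∈ zTerm S j, w ∉ zTerm S (j - 1) →
      ⁅w, g⁆ ∉ zTerm S (j - 2)) : False := by
  have hn : 3 ≤ n := by omega
  set N := Subgroup.upperCentralSeries S (k - p) with hN
  set q := QuotientGroup.mk' N with hqdef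
  set V := (Subgroup.upperCentralSeries S k).map q with hV
  have hVn : V.Normal := (inferInstance : (Subgroup.upperCentralSeries S k).Normal).map q
    (QuotientGroup.mk'_surjective N)
  have hq1 : ∀ x : S, q x = 1 ↔ (x : Ω) ∈ zTerm S (k - p) := fun x => by
    rw [hqdef, QuotientGroup.mk'_apply, QuotientGroup.eq_one_iff, coe_mem_zTerm]
  have hcommV : ∀ a b : V, a * b = b * a := by
    rintro ⟨_, a, ha, rfl⟩ ⟨_, b, hb, rfl⟩
    refine Subtype.ext ?_
    show q a * q b = q b * q a
    rw [← commutatorElement_eq_one_iff_mul_comm, ← map_commutatorElement, hq1]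
    exact h.commutator_zTerm hn (by omega) (by omega) (coe_mem_zTerm.2 ha) (coe_mem_zTerm.2 hb)
  let _ : CommGroup V := { (inferInstance : Group V) with mul_comm := hcommV }
  let G : S := ⟨g, hg⟩
  let mk : ∀ x : Ω, x ∈ zTerm S k → V := fun x hx =>
    ⟨q ⟨x, zTerm_le S k hx⟩, ⟨x, zTerm_le S k hx⟩, coe_mem_zTerm.1 hx, rfl⟩
  have mk_one : ∀ x hx, mk x hx = 1 ↔ x ∈ zTerm S (k - p) := fun x hx =>
    ⟨fun e => (hq1 _).1 (congrArg Subtype.val e), fun e => Subtype.ext ((hq1 _).2 e)⟩
  let C : V →* V :=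
    { toFun := fun v => ⟨q G * (v : S ⧸ N) * (q G)⁻¹, hVn.conj_mem _ v.2 _⟩
      map_one' := Subtype.ext (by simp)
      map_mul' := fun a b => Subtype.ext (by
        show q G * ((a : S ⧸ N) * b) * (q G)⁻¹ = q G * a * (q G)⁻¹ * (q G * b * (q G)⁻¹)
        group) }
  have hC : ∀ x hx, C (mk x hx) = mk ⁅g, x⁆ (zTerm_mono (Nat.sub_le k 1) (commutator_pred hx hg).2) *
      mk x hx := by
    intro x hx
    refine Subtype.ext ?_
    show q G * q ⟨x, _⟩ * (q G)⁻¹ = q ⟨⁅g, x⁆, _⟩ * q ⟨x, _⟩
    rw [← map_inv, ← map_mul, ← map_mul, ← map_mul]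
    refine congrArg q (Subtype.ext ?_)
    show g * x * g⁻¹ = ⁅g, x⁆ * x
    simp only [commutatorElement_def]
    group
  have hlay := fun {x : Ω} (hx : x ∈ zTerm S k) (hx' : x ∉ zTerm S (k - 1)) {i : ℕ}
    (hi : i + 1 ≤ k) => iterComm_layer hg (fun j hj hjk => hsh j hj (by omega)) hx hx' hi
  -- `V` has exponent `p`
  have hVp : ∀ x hx, mk x hx ^ p = 1 := by
    have hci : ∀ i, mk (iterComm g c i) (iterComm_mem hg hc i) ^ p = 1 := by
      intro i
      induction i with
      | zero =>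
        refine Subtype.ext ?_
        show q ⟨c, _⟩ ^ p = 1
        rw [← map_pow, hq1]
        show c ^ p ∈ _
        rw [hcp]
        exact one_mem _
      | succ i ih =>
        have h1 := congrArg (· ^ p) (hC _ (iterComm_mem hg hc i))
        simp only [← map_pow, ih, map_one, mul_pow, mul_one] at h1
        exact h1.symm
    let M : Subgroup Ω :=
      { carrier := {x | ∃ hx : x ∈ zTerm S k, mk x hx ^ p = 1}
        one_mem' := ⟨one_mem _, by rw [(mk_one 1 (one_mem _)).2 (one_mem _), one_pow]⟩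
        mul_mem' := by
          rintro a b ⟨ha, ha'⟩ ⟨hb, hb'⟩
          refine ⟨mul_mem ha hb, ?_⟩
          rw [show mk (a * b) (mul_mem ha hb) = mk a ha * mk b hb from
            Subtype.ext (map_mul q ⟨a, _⟩ ⟨b, _⟩), mul_pow, ha', hb', one_mul]
        inv_mem' := by
          rintro a ⟨ha, ha'⟩
          refine ⟨inv_mem ha, ?_⟩
          rw [show mk a⁻¹ (inv_mem ha) = (mk a ha)⁻¹ from Subtype.ext (map_inv q ⟨a, _⟩), inv_pow,
            ha', inv_one] }
    have key : ∀ m, m ≤ p → zTerm S (k - p + m) ≤ M := by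
      intro m
      induction m with
      | zero =>
        intro _ x hx
        refine ⟨zTerm_mono (by omega) hx, ?_⟩
        rw [(mk_one x (zTerm_mono (by omega) hx)).2 (by simpa using hx), one_pow]
      | succ m ih =>
        intro hm
        obtain ⟨h1, h2⟩ := hlay hc hc' (i := p - m - 1) (by omega)
        rw [show k - (p - m - 1) = k - p + (m + 1) by omega] at h1 h2
        exact h.le_of_mem_layer (by omega) (by omega) (ih (by omega)) h1 h2
          ⟨iterComm_mem hg hc _, hci _⟩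
    intro x hx
    obtain ⟨_, hx'⟩ := key p le_rfl (by rwa [show k - p + p = k by omega])
    exact hx'
  -- the expansion of `⁅g ^ m, c'⁆`
  obtain ⟨c', hc'1, hc'2⟩ := h.exists_layer (i := k + 1) (by omega) (by omega)
  set d := ⁅g, c'⁆ with hd
  have hdk : d ∈ zTerm S k := (commutator_pred hc'1 hg).2
  have hd' : d ∉ zTerm S (k - 1) := fun e =>
    hsh (k + 1) (by omega) (by omega) c' hc'1 hc'2 (by
      rw [show k + 1 - 2 = k - 1 by omega, ← commutatorElement_inv]
      exact inv_mem e)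
  let D : ℕ → V := fun i => mk (iterComm g d i) (iterComm_mem hg hdk i)
  have hf : ∀ m : ℕ, ∀ hm : ⁅g ^ m, c'⁆ ∈ zTerm S k,
      mk _ hm = ∏ i ∈ Finset.range m, D i ^ (m.choose (i + 1)) := by
    intro m
    induction m with
    | zero =>
      intro hm
      rw [Finset.range_zero, Finset.prod_empty]
      exact (mk_one _ hm).2 (by simp)
    | succ m ih =>
      intro hm
      have hm0 : ⁅g ^ m, c'⁆ ∈ zTerm S k := (commutator_pred hc'1 (pow_mem hg m)).2
      have hrec : mk _ hm = C (mk _ hm0) * D 0 := by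
        refine Subtype.ext ?_
        show q ⟨_, _⟩ = q G * q ⟨_, _⟩ * (q G)⁻¹ * q ⟨d, _⟩
        rw [← map_inv, ← map_mul, ← map_mul, ← map_mul]
        refine congrArg q (Subtype.ext ?_)
        show ⁅g ^ (m + 1), c'⁆ = g * ⁅g ^ m, c'⁆ * g⁻¹ * ⁅g, c'⁆
        rw [pow_succ']
        simp only [commutatorElement_def]
        group
      rw [hrec, ih hm0, map_prod]
      simp only [map_pow]
      have hCD : ∀ i, C (D i) = D (i + 1) * D i := fun i => hC (iterComm g d i) (iterComm_mem hg hdk i)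
      simp only [hCD, mul_pow, Finset.prod_mul_distrib, Nat.choose_succ_succ, pow_add]
      rw [Finset.prod_range_succ' (fun i => D i ^ m.choose i),
        Finset.prod_range_succ (fun i => D i ^ m.choose i.succ), Nat.choose_succ_self]
      simp only [pow_zero, mul_one, Nat.choose_zero_right, pow_one]
      exact mul_right_comm _ _ _
  have hfp := hf p ((commutator_pred hc'1 (pow_mem hg p)).2)
  rw [Finset.prod_eq_single (p - 1) (fun i hi hne => ?_)
    (fun hni => absurd (Finset.mem_range.2 (by omega)) hni), Nat.sub_add_cancel (by omega),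
    Nat.choose_self, pow_one] at hfp
  · have h1 : ⁅g ^ p, c'⁆ = 1 :=
      commutatorElement_eq_one_iff_mul_comm.2 (zTerm_one_comm hgp (zTerm_le S _ hc'1)).symm
    have h2 : D (p - 1) = 1 := hfp.symm.trans
      ((mk_one ⁅g ^ p, c'⁆ ((commutator_pred hc'1 (pow_mem hg p)).2)).2
        (by rw [h1]; exact one_mem _))
    obtain ⟨-, h4⟩ := hlay hdk hd' (i := p - 1) (by omega)
    exact h4 (zTerm_mono (by omega)
      ((mk_one (iterComm g d (p - 1)) (iterComm_mem hg hdk (p - 1))).1 h2))
  · rw [Finset.mem_range] at hi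
    obtain ⟨t, ht⟩ := h.prime.dvd_choose_self (Nat.succ_ne_zero i) (by omega : i + 1 < p)
    show D i ^ p.choose (i + 1) = 1
    rw [ht, pow_mul, hVp _ (iterComm_mem hg hdk i), one_pow]

end MaxClass

end CfsgLib.PMaxClass
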