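import Cfsg.Agent.FusionPearl.Weights
import Cfsg.Agent.FusionPearl.Uniform

/-!
# No target whose displacement is central

`Data.false_of_central`: with `k` minimal and `u` central there is no target.
-/

set_option autoImplicit false

namespace CfsgLib.FusionPearl

open Cfsg Cfsg.FusionSystem CfsgLib.Fusion CfsgLib.PMaxClass Subgroup
open scoped commutatorElement Pointwise

variable {Ω : Type*} [Group Ω] {S : Subgroup Ω} {p n : ℕ} {F : FusionSystem S}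

namespace Data

variable [Fact p.Prime] [Finite S] {E : Subgroup Ω} {k : ℕ} {y u e c : Ω}
  (T : Data p n F E k y u e c)
include T

theorem pred_inv_of_central (hk : MinIdx p n F k) (hu : u ∈ zTerm S 1) {l l' : ℤ}
    {α : MulAut (Uof S E k k)} (hα : Tw p n F E k u e c l l' k α) :
    ∀ x : Uof S E k k, (x : Ω) ∈ zTerm S (k - 1) → (α x : Ω) ∈ zTerm S (k - 1) := by
  rcases Nat.lt_or_ge k 3 with h | h
  · have h2 : k = 2 := by have := T.k2; omega
    subst h2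
    have hn := T.n5
    refine layer_inv α T.st.mc (j := 1) le_rfl (by omega)
      ((T.Z_le_D (le_ix 2 1)).trans ((T.D_mono (by omega : 1 ≤ 2)).trans (T.D_le_U 2)))
      (fun x hx => ?_) hu (by simpa using T.fr.u_ne) ?_
    · rw [show 1 - 1 = 0 from rfl, zTerm_zero, Subgroup.mem_bot] at hx
      rw [show x = 1 from Subtype.ext hx, map_one]
      exact one_mem _
    · rw [hα.hu _ rfl]
      exact zpow_mem hu l
  · exact T.Z_pred_inv hk h hα

theorem false_of_central (hk : MinIdx p n F k) (hu : u ∈ zTerm S 1) : False := by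
  classical
  have hn := T.n5
  have hkn := T.kn3
  have hk2 := T.k2
  have hp := T.st.mc.prime
  have hp5 := T.st.p5
  have hS := T.st.isP
  obtain ⟨g, l, l', hg, hgl, hgl', hll⟩ := exists_primitive p
  obtain ⟨α, hα⟩ := T.exists_tw hk hll (by omega) le_rfl
  have hpred := T.pred_inv_of_central hk hu hα
  obtain ⟨β, hβ⟩ := T.exists_beta hα hpred
  have hDk : Dof S n E k k = zTerm S (k + 1) := T.D_top hkn
  have hQU : zTerm S (k + 1) ≤ Uof S E k k := hDk ▸ T.D_le_U k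
  have hcZ : c ∈ zTerm S k := T.Yle T.fr.c_mem_Y
  have hc' : c ∉ zTerm S (k - 1) := T.c_not (zTerm_mono (by omega) hu)
  have hβx : ∀ (x : S) (hx : (x : Ω) ∈ zTerm S (k + 1)), (β x : Ω) = α ⟨x, hQU hx⟩ :=
    fun x hx => hβ x ⟨x, hQU hx⟩ rfl hx
  set C : S := ⟨c, T.cS⟩
  have hβc : (β C : Ω) = c := by
    rw [hβx C (zTerm_mono (by omega) hcZ)]
    exact hα.hc _ rfl
  -- the weights of the extension
  choose! A hA using fun j (h : 1 ≤ j ∧ j ≤ n - 2) => T.st.exists_scal β h.1 h.2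
  have hscal : ∀ j, 1 ≤ j → j ≤ n - 2 → ∀ x : S, (x : Ω) ∈ zTerm S j →
      (x : Ω) ∉ zTerm S (j - 1) → ∀ b : ℤ, (β x : Ω) * ((x : Ω) ^ b)⁻¹ ∈ zTerm S (j - 1) →
      (A j : ZMod p) = b := fun j h1 hj x hx hx' b hb =>
    zeq (dvd_sub_of_mem hS x.2 hx' (hA j ⟨h1, hj⟩ x hx) hb)
  have hlow : ∀ j, 1 ≤ j → j + 1 ≤ k → (A j : ZMod p) = (g : ZMod p) ^ j := by
    intro j h1 hjk
    obtain ⟨x, hx, hx'⟩ := T.st.mc.exists_layer (i := j) h1 (by omega)
    have hxQ : x ∈ zTerm S (k + 1) := zTerm_mono (by omega) hx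
    rw [← hgl, ← Int.cast_pow]
    refine hscal j h1 (by omega) ⟨x, zTerm_le S _ hx⟩ hx hx' _ ?_
    rw [hβx ⟨x, zTerm_le S _ hx⟩ hxQ]
    rcases Nat.lt_or_ge j 2 with h | h
    · obtain rfl : j = 1 := by omega
      rw [show 1 - 1 = 0 from rfl, zTerm_zero, Subgroup.mem_bot, mul_inv_eq_one, pow_one]
      obtain ⟨m, v, hv, hxm⟩ := T.st.mc.exists_eq_pow_mul le_rfl (by omega) hu
        (by simpa using T.fr.u_ne) hx
      rw [show 1 - 1 = 0 from rfl, zTerm_zero, Subgroup.mem_bot] at hv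
      rw [hv, mul_one] at hxm
      subst hxm
      rw [app_zpow α (T.E_le_U k T.fr.hu), hα.hu _ rfl, ← zpow_mul, ← zpow_mul, mul_comm]
    · have h3 := hα.hs j h (by omega) ⟨x, hQU hxQ⟩ (T.Z_le_D (le_ix k j) hx)
      have hαx : (α ⟨x, hQU hxQ⟩ : Ω) ∈ zTerm S j := by
        rcases Nat.lt_or_ge j (k - 1) with h4 | h4
        · exact hα.hZ j (by omega) (by omega) _ hx
        · obtain rfl : j = k - 1 := by omega
          exact hpred _ hx
      obtain ⟨a, ha, b, hb, hab⟩ := T.mem_D h3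
      rw [ix_of_lt (by omega)] at hb
      have ha' : a ∈ zTerm S j := by
        rw [show a = (α ⟨x, hQU hxQ⟩ : Ω) * (x ^ (l ^ j))⁻¹ * b⁻¹ by
          rw [hab, mul_inv_cancel_right]]
        exact mul_mem (mul_mem hαx (inv_mem (zpow_mem hx _)))
          (inv_mem (zTerm_mono (Nat.sub_le j 1) hb))
      rw [hab]
      exact mul_mem (zTerm_mono (by omega) (T.Y_inf (by omega) ha ha')) hb
  have hmid : (A k : ZMod p) = 1 := by
    rw [← Int.cast_one]
    refine hscal k (by omega) (by omega) C hcZ hc' 1 ?_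
    rw [hβc, zpow_one, mul_inv_cancel]
    exact one_mem _
  have htop : (A (k + 1) : ZMod p) = (g : ZMod p) ^ k := by
    obtain ⟨x, hx, hx'⟩ := T.st.mc.exists_layer (i := k + 1) (by omega) (by omega)
    rw [← hgl, ← Int.cast_pow]
    refine hscal (k + 1) (by omega) (by omega) ⟨x, zTerm_le S _ hx⟩ hx hx' _ ?_
    rw [hβx _ hx]
    have h3 := hα.hs k hk2 le_rfl ⟨x, hQU hx⟩ (hDk.ge hx)
    rwa [T.D_pred] at h3
  have hwt : ∀ j, 2 ≤ j → j ≤ n - 2 → ∀ x t : S, (x : Ω) ∈ zTerm S j →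
      ⁅(x : Ω), (t : Ω)⁆ ∉ zTerm S (j - 2) → ∀ (b : ℤ) (r : Ω), r ∈ S →
      ⁅r, (x : Ω)⁆ ∈ zTerm S (j - 2) → (β t : Ω) = (t : Ω) ^ b * r →
      (A j : ZMod p) * b = A (j - 1) := by
    intro j h2 hj x t hx hxt b r hr hrx hβt
    have hw : ((⁅x, t⁆ : S) : Ω) ∈ zTerm S (j - 1) := (commutator_pred hx t.2).1
    have h := hA (j - 1) ⟨by omega, by omega⟩ ⁅x, t⁆ hw
    rw [show j - 1 - 1 = j - 2 by omega] at h
    rw [← Int.cast_mul]
    exact zeq (weight hS β h2 hx hxt hr hrx hβt (hA j ⟨by omega, hj⟩ x hx) h)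
  -- the line of `e` is invariant
  set Ee : S := ⟨e, T.eS⟩
  have hce : ⁅c, e⁆ = 1 :=
    commutatorElement_eq_one_iff_mul_comm.2 (T.tgt.comm' T.fr.hc T.fr.he)
  have hceZ : ⁅c, e⁆ ∈ zTerm S (k - 2) := by rw [hce]; exact one_mem _
  have hβe0 : (β Ee : Ω) ∈ zpowers e ⊔ zTerm S (n - 2) := by
    refine T.split_mem hk2 (by omega) hcZ hc' hceZ (β Ee).2 ?_
    have h1 : β ⁅C, Ee⁆ = ⁅β C, β Ee⁆ := map_commutatorElement _ _ _
    rw [show ⁅C, Ee⁆ = 1 from Subtype.ext hce, map_one] at h1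
    have h2 : (1 : Ω) = ⁅(β C : Ω), (β Ee : Ω)⁆ := congrArg Subtype.val h1
    rw [hβc] at h2
    rw [← h2]
    exact one_mem _
  obtain ⟨ζ, v₀, hv₀, hβe⟩ := T.exists_split_e hβe0
  obtain ⟨s, hs, hcs⟩ : ∃ s ∈ S, ⁅c, s⁆ ∉ zTerm S (k - 2) := by
    by_contra h
    push Not at h
    refine hc' ?_
    rw [show k - 1 = k - 2 + 1 by omega]
    exact mem_zTerm_succ T.cS h
  have hsline : s ∉ zpowers e ⊔ zTerm S (n - 2) := fun h =>
    hcs (comm_symm (T.split_comm hk2 (by omega) hcZ hceZ h))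
  set Ss : S := ⟨s, hs⟩
  obtain ⟨μ, r₀, hr₀, hβs⟩ := T.exists_split hs hsline (β Ss).2
  have hr₀S : r₀ ∈ S := (sup_le (zpowers_le.2 T.eS) (zTerm_le S _)) hr₀
  -- the weight of `s`
  have hμ : (μ : ZMod p) = (g : ZMod p) ^ (k - 1) := by
    have h := hwt k hk2 (by omega) C Ss hcZ hcs μ r₀ hr₀S
      (T.split_comm hk2 (by omega) hcZ hceZ hr₀) hβs
    rwa [hmid, one_mul, hlow (k - 1) (by omega) (by omega)] at h
  obtain ⟨x, hx, hx'⟩ := T.st.mc.exists_layer (i := k + 1) (by omega) (by omega)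
  rw [Nat.add_sub_cancel] at hx'
  have hpow : ∀ m : ℕ, (g : ZMod p) ^ m = 1 → p - 1 ∣ m := fun m hm => by
    rw [← hg]
    exact orderOf_dvd_of_pow_eq_one (Units.ext (by rw [Units.val_pow_eq_pow_val, hm, Units.val_one]))
  have hxe : ⁅x, e⁆ ∉ zTerm S (k - 1) := by
    intro hxe
    have hxs : ⁅x, s⁆ ∉ zTerm S (k + 1 - 2) := fun h => hsline
      (T.split_mem (j := k + 1) (by omega) (by omega) hx (by simpa using hx')
        (by simpa using hxe) hs h)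
    have h := hwt (k + 1) (by omega) (by omega) ⟨x, zTerm_le S _ hx⟩ Ss hx hxs μ r₀ hr₀S
      (T.split_comm (by omega) (by omega) hx (by simpa using hxe) hr₀) hβs
    rw [Nat.add_sub_cancel, htop, hμ, hmid, ← pow_add] at h
    obtain ⟨t, ht⟩ := hpow _ h
    obtain ⟨a, ha⟩ := (hp.odd_of_ne_two (by omega))
    rw [show p - 1 = 2 * a by omega, mul_assoc] at ht
    omega
  have hk3 : 3 ≤ k := by
    by_contra hlt
    have hk' : k = 2 := by omega
    subst hk'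
    have hxN : x ∈ normalizerIn S E := by
      have hN := T.normalizer_U le_rfl (by omega : 1 < 2) (T.ok 1)
      rw [T.U_one] at hN
      rw [hN]
      exact hQU hx
    obtain ⟨m, hm⟩ := T.fr.disp_mem T.st T.tgt hxN T.fr.he
    apply hxe
    rw [show ⁅x, e⁆ = u ^ m from hm.symm]
    exact zpow_mem hu m
  have hζe : ∀ {j : ℕ}, 2 ≤ j → j ≤ n - 2 → ∀ w : S, (w : Ω) ∈ zTerm S j →
      ⁅(w : Ω), e⁆ ∉ zTerm S (j - 2) → (A j : ZMod p) * ζ = A (j - 1) := fun h2 hj w hw hwe =>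
    hwt _ h2 hj w Ee hw hwe ζ v₀ (zTerm_le S _ hv₀)
      (T.st.comm_Z (by omega) (by omega) hv₀ hw) hβe
  have hζ : (ζ : ZMod p) = (g⁻¹ : (ZMod p)ˣ) := by
    obtain ⟨w, hw, hw'⟩ := T.st.mc.exists_layer (i := 2) (by omega) (by omega)
    have hwe : ⁅w, e⁆ ∉ zTerm S (2 - 2) := by
      rw [show 2 - 2 = 0 from rfl, zTerm_zero, Subgroup.mem_bot]
      refine T.not_comm_one (T.ok 1) (T.Z_le_D (le_ix k 2) hw) fun h => hw' ?_
      rw [T.D_one] at h
      exact T.Y_inf (j := 2) (by omega) h hw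
    have h := hζe le_rfl (by omega) ⟨w, zTerm_le S _ hw⟩ hw hwe
    rw [hlow 2 (by omega) (by omega), show 2 - 1 = 1 from rfl, hlow 1 le_rfl (by omega), pow_one,
      pow_two, mul_assoc] at h
    rw [← mul_right_inj' (Units.ne_zero g),
      mul_left_cancel₀ (Units.ne_zero g) (h.trans (mul_one _).symm), Units.mul_inv]
  have hgk : (g : ZMod p) ^ (k - 1) = 1 := by
    have h := hζe (j := k + 1) (by omega) (by omega) ⟨x, zTerm_le S _ hx⟩ hx (by simpa using hxe)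
    rw [Nat.add_sub_cancel, htop, hmid, hζ, show k = k - 1 + 1 by omega, pow_succ, mul_assoc,
      Units.mul_inv, mul_one] at h
    exact h
  rw [hgk] at hμ
  have hpk : p ≤ k := by
    have := Nat.le_of_dvd (by omega) (hpow _ hgk)
    omega
  have hgne : ((g⁻¹ : (ZMod p)ˣ) : ZMod p) ≠ 1 := fun h => by
    rw [Units.val_eq_one, inv_eq_one] at h
    rw [h, orderOf_one] at hg
    omega
  -- normalise `s`
  obtain ⟨r, v₁, hv₁, hr⟩ := T.exists_split_e hr₀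
  obtain ⟨m, hm⟩ : ∃ m : ℤ, (p : ℤ) ∣ r + ζ * m - m := by
    refine ⟨(((r : ZMod p) / (1 - (ζ : ZMod p))).val : ℤ), ?_⟩
    rw [← ZMod.intCast_zmod_eq_zero_iff_dvd]
    push_cast
    rw [ZMod.natCast_zmod_val]
    have hne : (1 : ZMod p) - ζ ≠ 0 := sub_ne_zero.2 fun h => hgne (hζ ▸ h.symm)
    field_simp
    ring
  set Sm : S := Ss * Ee ^ m
  have hSm : (β Sm : Ω) * (Sm : Ω)⁻¹ ∈ zTerm S (n - 2) := by
    refine zQuot_eq.1 ?_
    have hV : ∀ z : S, (z : Ω) ∈ zTerm S (n - 2) → zQuot S (n - 2) z = 1 := fun z => zQuot_eq_one.2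
    have hSμ : zQuot S (n - 2) Ss ^ μ = zQuot S (n - 2) Ss := by
      have h1 : s ^ μ * (s ^ (1 : ℤ))⁻¹ ∈ zTerm S (n - 2) :=
        zpow_mul_inv_mem (T.st.mc.pow_p_mem_top hn hs) (zdvd (by rw [hμ, Int.cast_one]))
      rw [zpow_one] at h1
      rw [← map_zpow, zQuot_eq]
      exact h1
    have hEm : zQuot S (n - 2) Ee ^ (r + ζ * m) = zQuot S (n - 2) Ee ^ m := by
      rw [← map_zpow, ← map_zpow, zQuot_eq]
      exact zpow_mul_inv_mem (by rw [T.tgt.soft.exp e T.fr.he]; exact one_mem _) hm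
    rw [map_mul, map_zpow,
      show β Ss = Ss ^ μ * (Ee ^ r * ⟨v₁, zTerm_le S _ hv₁⟩) from Subtype.ext (by
        simp only [Subgroup.coe_mul, Subgroup.coe_zpow]; rw [hβs, hr]),
      show β Ee = Ee ^ ζ * ⟨v₀, zTerm_le S _ hv₀⟩ from Subtype.ext hβe, map_mul, map_mul, map_mul,
      map_zpow, map_zpow, map_zpow, map_mul, map_zpow, hV ⟨v₁, zTerm_le S _ hv₁⟩ hv₁, hV ⟨v₀, zTerm_le S _ hv₀⟩ hv₀, mul_one, mul_one, hSμ,
      map_mul, map_zpow, mul_assoc, ← zpow_mul, ← zpow_add, hEm]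
  have hSmline : (Sm : Ω) ∉ zpowers e ⊔ zTerm S (n - 2) := fun h => hsline (by
    have h2 := mul_mem h (inv_mem (mem_sup_left (zpow_mem (mem_zpowers e) m) :
      e ^ m ∈ zpowers e ⊔ zTerm S (n - 2)))
    simpa [Sm, Ss, Ee] using h2)
  set v₂ := (Sm : Ω)⁻¹ * (β Sm : Ω)
  have hv₂ : v₂ ∈ zTerm S (n - 2) := by
    have := conj_mem_zTerm hSm (inv_mem Sm.2)
    simpa [v₂, mul_assoc] using this
  have hβSm : (β Sm : Ω) = (Sm : Ω) ^ (1 : ℤ) * v₂ := by simp [v₂]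
  have hor : ∀ j, 2 ≤ j → j ≤ n - 2 → ∀ w ∈ zTerm S j, w ∉ zTerm S (j - 1) →
      ⁅w, e⁆ ∉ zTerm S (j - 2) ∨ ⁅w, (Sm : Ω)⁆ ∉ zTerm S (j - 2) := by
    intro j h2 hj w hw hw'
    by_contra h
    push Not at h
    exact hSmline (T.split_mem h2 hj hw hw' h.1 Sm.2 h.2)
  have hSw : ∀ {j : ℕ}, 2 ≤ j → j ≤ n - 2 → ∀ w : S, (w : Ω) ∈ zTerm S j →
      ⁅(w : Ω), (Sm : Ω)⁆ ∉ zTerm S (j - 2) → (A j : ZMod p) = A (j - 1) := fun h2 hj w hw hws => by
    have h := hwt _ h2 hj w Sm hw hws 1 v₂ (zTerm_le S _ hv₂)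
      (T.st.comm_Z (by omega) (by omega) hv₂ hw) hβSm
    rwa [Int.cast_one, mul_one] at h
  have hTS : S ≤ (zpowers e ⊔ zpowers (Sm : Ω)) ⊔ zTerm S (n - 2) :=
    T.st.le_sup_pair T.eS Sm.2 T.fr.eZ hSmline
  -- the highest weight
  have hA2 : (A (n - 2) : ZMod p) = (g⁻¹ : (ZMod p)ˣ) := by
    have hwn : ⁅(Sm : Ω), e⁆ ∉ zTerm S (n - 3) := by
      intro h
      refine hSmline (mem_sup_right ?_)
      have hle : S ≤ commSub S (n - 3) Sm.2 := hTS.trans (sup_le (sup_le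
        (zpowers_le.2 ⟨T.eS, h⟩) (zpowers_le.2 ⟨Sm.2, by simp⟩))
        fun w hw => ⟨zTerm_le S _ hw, zTerm_mono (by omega) (commutator_pred hw Sm.2).2⟩)
      rw [show n - 2 = n - 3 + 1 by omega]
      exact mem_zTerm_succ Sm.2 fun w hw => (hle hw).2
    have hSZ : (Sm : Ω) ∈ zTerm S (n - 1) := (T.st.Z_top le_rfl).symm ▸ Sm.2
    have hw : ((⁅Sm, Ee⁆ : S) : Ω) ∈ zTerm S (n - 2) := T.comm_mem_top Sm.2 T.eS
    have h := hA (n - 2) ⟨by omega, le_rfl⟩ _ hw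
    rw [show n - 2 - 1 = n - 1 - 2 by omega] at h
    have h2 := zeq (weight (a := 1) hS β (by omega) hSZ
      (by rwa [show n - 1 - 2 = n - 3 by omega]) (zTerm_le S _ hv₀)
      (zTerm_mono (by omega) (commutator_pred hv₀ Sm.2).1) hβe
      (by rwa [zpow_one, show n - 1 - 1 = n - 2 by omega]) h)
    rw [one_mul] at h2
    rw [← h2, hζ]
  have hdesc : ∀ d, d + 3 ≤ n → ∃ t, 1 ≤ t ∧ t ≤ d + 1 ∧
      (A (n - 2 - d) : ZMod p) = ((g⁻¹ : (ZMod p)ˣ) : ZMod p) ^ t := by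
    intro d
    induction d with
    | zero => exact fun _ => ⟨1, le_rfl, le_rfl, by rw [pow_one, Nat.sub_zero, hA2]⟩
    | succ d ih =>
      intro hd
      obtain ⟨t, ht1, ht2, ht⟩ := ih (by omega)
      obtain ⟨w, hw, hw'⟩ := T.st.mc.exists_layer (i := n - 2 - d) (by omega) (by omega)
      rw [show n - 2 - (d + 1) = n - 2 - d - 1 by omega]
      rcases hor _ (by omega) (by omega) w hw hw' with h | h
      · refine ⟨t + 1, by omega, by omega, ?_⟩
        rw [← hζe (by omega) (by omega) ⟨w, zTerm_le S _ hw⟩ hw h, ht, hζ, pow_succ]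
      · refine ⟨t, ht1, by omega, ?_⟩
        rw [← hSw (by omega) (by omega) ⟨w, zTerm_le S _ hw⟩ hw h, ht]
  have hkp : k + p ≤ n := by
    obtain ⟨t, ht1, ht2, ht⟩ := hdesc (n - 3 - k) (by omega)
    rw [show n - 2 - (n - 3 - k) = k + 1 by omega, htop, show k = k - 1 + 1 by omega, pow_succ, hgk,
      one_mul] at ht
    have h1 : (g : ZMod p) ^ (t + 1) = 1 := by
      calc (g : ZMod p) ^ (t + 1) = (g : ZMod p) ^ t * g := pow_succ _ _
        _ = (g : ZMod p) ^ t * ((g⁻¹ : (ZMod p)ˣ) : ZMod p) ^ t := by rw [← ht]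
        _ = 1 := by rw [← mul_pow, Units.mul_inv, one_pow]
    have := Nat.le_of_dvd (by omega) (hpow _ h1)
    omega
  -- a uniform element
  set G : Ω := e * (Sm : Ω)
  have hGS : G ∈ S := mul_mem T.eS Sm.2
  have hsh : ∀ j, 2 ≤ j → j ≤ n - 2 → ∀ w ∈ zTerm S j, w ∉ zTerm S (j - 1) →
      ⁅w, G⁆ ∉ zTerm S (j - 2) := by
    intro j h2 hj w hw hw' hwG
    rw [commutator_mul_right'] at hwG
    by_cases he : ⁅w, e⁆ ∈ zTerm S (j - 2)
    · have hS' := (hor j h2 hj w hw hw').resolve_left (not_not.2 he)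
      have h3 := conj_mem_zTerm (mul_mem (inv_mem he) hwG) (inv_mem T.eS)
      rw [show e⁻¹ * (⁅w, e⁆⁻¹ * (⁅w, e⁆ * (e * ⁅w, (Sm : Ω)⁆ * e⁻¹))) * e⁻¹⁻¹ =
        ⁅w, (Sm : Ω)⁆ by group] at h3
      exact hS' h3
    · by_cases hs' : ⁅w, (Sm : Ω)⁆ ∈ zTerm S (j - 2)
      · have h3 := mul_mem hwG (inv_mem (conj_mem_zTerm hs' T.eS))
        exact he (by rwa [mul_inv_cancel_right] at h3)
      · have h4 := hζe h2 hj ⟨w, zTerm_le S _ hw⟩ hw he
        have h5 := hSw h2 hj ⟨w, zTerm_le S _ hw⟩ hw hs'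
        obtain ⟨t, -, -, ht⟩ := hdesc (n - 2 - j) (by omega)
        rw [show n - 2 - (n - 2 - j) = j by omega] at ht
        have hne : (A j : ZMod p) ≠ 0 := ht ▸ pow_ne_zero _ (Units.ne_zero _)
        rw [← h5, hζ] at h4
        exact hgne (mul_left_cancel₀ hne (h4.trans (mul_one _).symm))
  have hGp : G ^ p ∈ zTerm S 1 := by
    have key : ∀ d, d + 3 ≤ n → G ^ p ∈ zTerm S (n - 2 - d) := by
      intro d
      induction d with
      | zero => exact fun _ => T.st.mc.pow_p_mem_top hn hGS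
      | succ d ih =>
        intro hd
        by_contra hno
        rw [show n - 2 - (d + 1) = n - 2 - d - 1 by omega] at hno
        refine hsh _ (by omega) (by omega) _ (ih (by omega)) hno ?_
        rw [commutatorElement_eq_one_iff_mul_comm.2 ((Commute.refl G).pow_left p).eq]
        exact one_mem _
    have h := key (n - 3) (by omega)
    rwa [show n - 2 - (n - 3) = 1 by omega] at h
  exact T.st.mc.false_of_uniform hp5 hpk hkp hcZ hc' (T.tgt.soft.exp c T.fr.hc) hGS hGp hsh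

end Data

end CfsgLib.FusionPearl
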