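import Cfsg.Agent.FusionPearl.CaseA

/-!
# No targets at all

`Data.false_of_two`: the case `k = 2`; `Setting.false_of_target`: in a `p`-group of maximal class,
`p ≥ 5`, order at least `p ^ 5`, there is no soft centric subgroup.
-/

set_option autoImplicit false

namespace CfsgLib.FusionPearl

open Cfsg Cfsg.FusionSystem CfsgLib.Fusion CfsgLib.PMaxClass Subgroup
open scoped commutatorElement Pointwise

variable {Ω : Type*} [Group Ω] {S : Subgroup Ω} {p n : ℕ} {F : FusionSystem S}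

namespace Data

variable [Fact p.Prime] [Finite S] {E : Subgroup Ω} {y u e c : Ω}
  (T : Data p n F E 2 y u e c)
include T

theorem normalizer_E : normalizerIn S E = Uof S E 2 2 := by
  have := T.normalizer_U le_rfl (by omega : 1 < 2) (T.ok 1)
  rwa [T.U_one] at this

theorem disp_zTerm_three (hu : u ∉ zTerm S 1) {x : Ω} (hx : x ∈ zTerm S 3)
    (hx' : x ∉ zTerm S 2) : ∃ m : ℤ, ⁅x, e⁆ = u ^ m ∧ ¬ (p : ℤ) ∣ m ∧ ⁅x, e⁆ ∉ zTerm S 1 := by
  have hkn := T.kn3
  have hD : x ∈ Dof S n E 2 2 := (T.D_top hkn).ge hx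
  have hD' : x ∉ Dof S n E 2 1 := fun h => hx' (T.D_pred.le h)
  have hne := T.not_comm_one (T.ok 1) hD hD'
  have hxN : x ∈ normalizerIn S E := T.normalizer_E.ge (T.D_le_U 2 hD)
  obtain ⟨m, hm⟩ := T.fr.disp_mem T.st T.tgt hxN T.fr.he
  have hm' : u ^ m = ⁅x, e⁆ := hm
  have hmp : ¬ (p : ℤ) ∣ m := by
    rintro ⟨t, rfl⟩
    rw [zpow_mul, zpow_natCast, T.tgt.soft.exp u T.fr.hu, one_zpow] at hm'
    exact hne hm'.symm
  exact ⟨m, hm'.symm, hmp, fun h => hu (mem_of_zpow_mem T.st.isP (T.ES T.fr.hu) hmp (hm'.symm ▸ h))⟩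

/-- The weights when the fixed point `c` is central: `n` is odd. -/
theorem odd_of_noncentral (hk : MinIdx p n F 2) (hu : u ∉ zTerm S 1) (hc : c ∈ zTerm S 1) :
    Odd n := by
  classical
  have hn := T.n5
  have hkn := T.kn3
  have hp := T.st.mc.prime
  have hp5 := T.st.p5
  have hS := T.st.isP
  have hY : Yof S n E = zTerm S 2 := T.fr.dich.resolve_left hu
  obtain ⟨g, l, l', hg, hgl, hgl', hll⟩ := exists_primitive p
  obtain ⟨α, hα⟩ := T.exists_tw hk hll (by omega) le_rfl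
  have hc1 : c ∉ zTerm S 0 := by
    rw [zTerm_zero, Subgroup.mem_bot]
    intro h
    exact T.fr.c_not (h ▸ one_mem _)
  have hpred : ∀ x : Uof S E 2 2, (x : Ω) ∈ zTerm S 1 → (α x : Ω) ∈ zTerm S 1 := by
    refine layer_inv α T.st.mc (j := 1) le_rfl (by omega)
      ((T.Z_le_D (le_ix 2 1)).trans ((T.D_mono (by omega : 1 ≤ 2)).trans (T.D_le_U 2)))
      (fun x hx => ?_) hc hc1 ?_
    · rw [show 1 - 1 = 0 from rfl, zTerm_zero, Subgroup.mem_bot] at hx
      rw [show x = 1 from Subtype.ext hx, map_one]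
      exact one_mem _
    · rw [hα.hc _ rfl]
      exact hc
  obtain ⟨β, hβ⟩ := T.exists_beta hα hpred
  have hDk : Dof S n E 2 2 = zTerm S 3 := T.D_top hkn
  have hQU : zTerm S 3 ≤ Uof S E 2 2 := hDk ▸ T.D_le_U 2
  have hβx : ∀ (x : S) (hx : (x : Ω) ∈ zTerm S 3), (β x : Ω) = α ⟨x, hQU hx⟩ :=
    fun x hx => hβ x ⟨x, hQU hx⟩ rfl hx
  have huZ : u ∈ zTerm S 2 := hY ▸ T.fr.u_mem_Y
  set U : S := ⟨u, T.ES T.fr.hu⟩
  set C : S := ⟨c, T.cS⟩
  have hβu : (β U : Ω) = u ^ l := by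
    rw [hβx U (zTerm_mono (by omega) huZ)]
    exact hα.hu _ rfl
  choose! A hA using fun j (h : 1 ≤ j ∧ j ≤ n - 2) => T.st.exists_scal β h.1 h.2
  have hscal : ∀ j, 1 ≤ j → j ≤ n - 2 → ∀ x : S, (x : Ω) ∈ zTerm S j →
      (x : Ω) ∉ zTerm S (j - 1) → ∀ b : ℤ, (β x : Ω) * ((x : Ω) ^ b)⁻¹ ∈ zTerm S (j - 1) →
      (A j : ZMod p) = b := fun j h1 hj x hx hx' b hb =>
    zeq (dvd_sub_of_mem hS x.2 hx' (hA j ⟨h1, hj⟩ x hx) hb)
  have hA1 : (A 1 : ZMod p) = 1 := by
    rw [← Int.cast_one]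
    refine hscal 1 le_rfl (by omega) C hc hc1 1 ?_
    rw [hβx C (zTerm_mono (by omega) hc), hα.hc _ rfl, zpow_one, mul_inv_cancel]
    exact one_mem _
  have hA2 : (A 2 : ZMod p) = g := by
    rw [← hgl]
    refine hscal 2 (by omega) (by omega) U huZ hu l ?_
    rw [hβu, mul_inv_cancel]
    exact one_mem _
  obtain ⟨x, hx, hx'⟩ := T.st.mc.exists_layer (i := 3) (by omega) (by omega)
  have hA3 : (A 3 : ZMod p) = (g : ZMod p) ^ 2 := by
    rw [← hgl, ← Int.cast_pow]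
    refine hscal 3 (by omega) (by omega) ⟨x, zTerm_le S _ hx⟩ hx hx' _ ?_
    rw [hβx _ hx]
    have h3 := hα.hs 2 le_rfl le_rfl ⟨x, hQU hx⟩ (hDk.ge hx)
    rwa [T.D_pred] at h3
  have hwt : ∀ j, 2 ≤ j → j ≤ n - 2 → ∀ x t : S, (x : Ω) ∈ zTerm S j →
      ⁅(x : Ω), (t : Ω)⁆ ∉ zTerm S (j - 2) → ∀ (b : ℤ) (r : Ω), r ∈ S →
      ⁅r, (x : Ω)⁆ ∈ zTerm S (j - 2) → (β t : Ω) = (t : Ω) ^ b * r →
      (A j : ZMod p) * b = A (j - 1) := by
    intro j h2 hj x t hx hxt b r hr hrx hβt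
    have hw : ((⁅x, t⁆ : S) : Ω) ∈ zTerm S (j - 1) := (commutator_pred hx t.2).1
    have h := hA (j - 1) ⟨by omega, by omega⟩ ⁅x, t⁆ hw
    rw [show j - 1 - 1 = j - 2 by omega] at h
    rw [← Int.cast_mul]
    exact zeq (weight hS β h2 hx hxt hr hrx hβt (hA j ⟨by omega, hj⟩ x hx) h)
  set Ee : S := ⟨e, T.eS⟩
  have hue : ⁅u, e⁆ = 1 :=
    commutatorElement_eq_one_iff_mul_comm.2 (T.tgt.comm' T.fr.hu T.fr.he)
  have hueZ : ⁅u, e⁆ ∈ zTerm S (2 - 2) := by rw [hue]; exact one_mem _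
  have hβe0 : (β Ee : Ω) ∈ zpowers e ⊔ zTerm S (n - 2) := by
    refine T.split_mem le_rfl (by omega) huZ hu hueZ (β Ee).2 ?_
    have h1 : β ⁅U, Ee⁆ = ⁅β U, β Ee⁆ := map_commutatorElement _ _ _
    rw [show ⁅U, Ee⁆ = 1 from Subtype.ext hue, map_one] at h1
    have h2 : (1 : Ω) = ⁅(β U : Ω), (β Ee : Ω)⁆ := congrArg Subtype.val h1
    rw [hβu, eq_comm, commutatorElement_eq_one_iff_commute] at h2
    have h3 := h2.zpow_left l'
    have h4 : (u ^ l) ^ l' = u := by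
      have h5 := zpow_mul_inv_mem (H := (⊥ : Subgroup Ω))
        (Subgroup.mem_bot.2 (T.tgt.soft.exp u T.fr.hu)) hll
      rw [Subgroup.mem_bot, mul_inv_eq_one, zpow_one] at h5
      rw [← zpow_mul, h5]
    rw [h4] at h3
    rw [commutatorElement_eq_one_iff_commute.2 h3]
    exact one_mem _
  obtain ⟨ζ, v₀, hv₀, hβe⟩ := T.exists_split_e hβe0
  obtain ⟨s, hs, hus⟩ : ∃ s ∈ S, ⁅u, s⁆ ∉ zTerm S 0 := by
    by_contra h
    push Not at h
    exact hu (mem_zTerm_succ (T.ES T.fr.hu) h)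
  have hsline : s ∉ zpowers e ⊔ zTerm S (n - 2) := fun h =>
    hus (comm_symm (T.split_comm le_rfl (by omega) huZ hueZ h))
  set Ss : S := ⟨s, hs⟩
  obtain ⟨μ, r₀, hr₀, hβs⟩ := T.exists_split hs hsline (β Ss).2
  have hline : zpowers e ⊔ zTerm S (n - 2) ≤ S := sup_le (zpowers_le.2 T.eS) (zTerm_le S _)
  have hr₀S : r₀ ∈ S := hline hr₀
  have hμ : (μ : ZMod p) = (g⁻¹ : (ZMod p)ˣ) := by
    have h := hwt 2 le_rfl (by omega) U Ss huZ hus μ r₀ hr₀S
      (T.split_comm le_rfl (by omega) huZ hueZ hr₀) hβs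
    rw [hA2, hA1] at h
    rw [← mul_right_inj' (Units.ne_zero g), h, Units.mul_inv]
  have hζe : ∀ {j : ℕ}, 2 ≤ j → j ≤ n - 2 → ∀ w : S, (w : Ω) ∈ zTerm S j →
      ⁅(w : Ω), e⁆ ∉ zTerm S (j - 2) → (A j : ZMod p) * ζ = A (j - 1) := fun h2 hj w hw hwe =>
    hwt _ h2 hj w Ee hw hwe ζ v₀ (zTerm_le S _ hv₀)
      (T.st.comm_Z (by omega) (by omega) hv₀ hw) hβe
  have hζ : (ζ : ZMod p) = (g⁻¹ : (ZMod p)ˣ) := by
    obtain ⟨-, -, -, hwe⟩ := T.disp_zTerm_three hu hx hx'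
    have h := hζe (by omega : 2 ≤ 3) (by omega) ⟨x, zTerm_le S _ hx⟩ hx hwe
    rw [hA3, show 3 - 1 = 2 from rfl, hA2, pow_two, mul_assoc] at h
    rw [← mul_right_inj' (Units.ne_zero g),
      mul_left_cancel₀ (Units.ne_zero g) (h.trans (mul_one _).symm), Units.mul_inv]
  -- the highest weight
  have htopw : (A (n - 2) : ZMod p) = ((g⁻¹ : (ZMod p)ˣ) : ZMod p) ^ 2 := by
    have hw : ((⁅Ss, Ee⁆ : S) : Ω) ∈ zTerm S (n - 2) := T.comm_mem_top hs T.eS
    have hwn : ⁅s, e⁆ ∉ zTerm S (n - 3) := by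
      intro h
      refine hsline (mem_sup_right ?_)
      have hle : S ≤ commSub S (n - 3) hs := (T.st.le_sup_pair T.eS hs T.fr.eZ hsline).trans
        (sup_le (sup_le (zpowers_le.2 ⟨T.eS, h⟩) (zpowers_le.2 ⟨hs, by simp⟩))
        fun w hw => ⟨zTerm_le S _ hw, zTerm_mono (by omega) (commutator_pred hw hs).2⟩)
      rw [show n - 2 = n - 3 + 1 by omega]
      exact mem_zTerm_succ hs fun w hw => (hle hw).2
    have h23 : n - 2 - 1 ≤ n - 3 := by omega
    have hrle : zpowers e ⊔ zTerm S (n - 2) ≤ commSub S (n - 3) T.eS :=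
      sup_le (zpowers_le.2 ⟨T.eS, by simp⟩)
        fun w hw => ⟨zTerm_le S _ hw, zTerm_mono h23 (commutator_pred hw T.eS).2⟩
    have h := comm_calc_mem (j := n - 3) hs T.eS hr₀S (zTerm_le S _ hv₀) (comm_symm (hrle hr₀).2)
      (zTerm_mono h23 (commutator_pred hv₀ hr₀S).2) (zTerm_mono h23 (commutator_pred hv₀ hs).1)
      (zTerm_mono h23 (commutator_pred (T.comm_mem_top hs T.eS) hs).1)
      (zTerm_mono h23 (commutator_pred (T.comm_mem_top hs T.eS) T.eS).1) μ ζ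
    have h2 := hA (n - 2) ⟨by omega, le_rfl⟩ _ hw
    rw [show n - 2 - 1 = n - 3 by omega] at h2
    have h3 : (A (n - 2) : ZMod p) = ((μ * ζ : ℤ) : ZMod p) := by
      refine zeq (dvd_sub_of_mem hS (zTerm_le S _ hw) hwn h2 ?_)
      rw [map_commutatorElement]
      show ⁅(β Ss : Ω), (β Ee : Ω)⁆ * (⁅s, e⁆ ^ (μ * ζ))⁻¹ ∈ zTerm S (n - 3)
      rw [hβs, hβe]
      exact h
    rw [h3, Int.cast_mul, hμ, hζ, pow_two]
  have hdesc : ∀ d, d + 3 ≤ n →
      (A (n - 2 - d) : ZMod p) = ((g⁻¹ : (ZMod p)ˣ) : ZMod p) ^ (d + 2) := by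
    intro d
    induction d with
    | zero => exact fun _ => by rw [Nat.sub_zero]; exact htopw
    | succ d ih =>
      intro hd
      obtain ⟨w, hw, hw'⟩ := T.st.mc.exists_layer (i := n - 2 - d) (by omega) (by omega)
      rw [show n - 2 - (d + 1) = n - 2 - d - 1 by omega, show d + 1 + 2 = d + 2 + 1 by omega,
        pow_succ, ← ih (by omega)]
      by_cases he : ⁅w, e⁆ ∈ zTerm S (n - 2 - d - 2)
      · rw [← hμ]
        refine (hwt _ (by omega) (by omega) ⟨w, zTerm_le S _ hw⟩ Ss hw ?_ μ r₀ hr₀S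
          (T.split_comm (by omega) (by omega) hw he hr₀) hβs).symm
        exact fun h => hsline (T.split_mem (by omega) (by omega) hw hw' he hs h)
      · rw [← hζ]
        exact (hζe (by omega) (by omega) ⟨w, zTerm_le S _ hw⟩ hw he).symm
  have h1 := hdesc (n - 3) (by omega)
  rw [show n - 2 - (n - 3) = 1 by omega, hA1, show n - 3 + 2 = n - 1 by omega,
    ← Units.val_pow_eq_pow_val, eq_comm, Units.val_eq_one, inv_pow, inv_eq_one,
    ← orderOf_dvd_iff_pow_eq_one, hg] at h1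
  obtain ⟨t, ht⟩ := h1
  obtain ⟨a, ha⟩ := hp.odd_of_ne_two (by omega)
  rw [show p - 1 = 2 * a by omega, mul_assoc] at ht
  exact ⟨a * t, by omega⟩

/-- The shift property up to the top. -/
theorem shift_two (hu : u ∉ zTerm S 1) (hc : c ∈ zTerm S 1) {i : ℕ} (h3 : 3 ≤ i) (hi : i ≤ n - 2)
    {x : Ω} (hx : x ∈ zTerm S i) (hx' : x ∉ zTerm S (i - 1)) : ⁅x, e⁆ ∉ zTerm S (i - 2) := by
  induction i using Nat.strong_induction_on generalizing x with
  | _ i ih =>
  have hn := T.n5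
  rcases Nat.lt_or_ge i 4 with h4 | h4
  · obtain rfl : i = 3 := by omega
    exact (T.disp_zTerm_three hu hx hx').choose_spec.2.2
  intro hxe
  have hY : Yof S n E = zTerm S 2 := T.fr.dich.resolve_left hu
  have key : ∀ d, d + 4 ≤ i → ∃ x', x' ∈ zTerm S i ∧ x' ∉ zTerm S (i - 1) ∧
      ⁅x', e⁆ ∈ zTerm S (i - 2 - d) := by
    intro d
    induction d with
    | zero => exact fun _ => ⟨x, hx, hx', hxe⟩
    | succ d ihd =>
      intro hd
      obtain ⟨x', h1, h2, h3'⟩ := ihd (by omega)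
      obtain ⟨y₀, hy, hy'⟩ := T.st.mc.exists_layer (i := i - 2 - d + 1) (by omega) (by omega)
      have hw0 : ⁅y₀, e⁆ ∉ zTerm S (i - 2 - d + 1 - 2) :=
        ih (i - 2 - d + 1) (by omega) (by omega) (by omega) hy hy'
      have hw0' : ⁅y₀, e⁆ ∈ zTerm S (i - 2 - d) := commutator_step hy T.eS
      obtain ⟨t, v, hv, hwt⟩ := T.st.mc.exists_eq_pow_mul (by omega) (by omega) hw0'
        (by rwa [show i - 2 - d - 1 = i - 2 - d + 1 - 2 by omega]) h3'
      set m := i - 2 - d with hm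
      set R := ⁅y₀ ^ (-t), e⁆ with hR
      have hy₀S := zTerm_le S _ hy
      have hRZ : R ∈ zTerm S m := commutator_step (zpow_mem hy _) T.eS
      have hRw : R * ⁅y₀, e⁆ ^ t ∈ zTerm S (m - 1) := by
        have := comm_zpow_mem (j := m - 1) hy₀S T.eS (commutator_pred hw0' hy₀S).1
          (commutator_pred hw0' T.eS).1 (-t)
        rwa [zpow_neg ⁅y₀, e⁆, inv_inv] at this
      refine ⟨x' * y₀ ^ (-t), mul_mem h1 (zTerm_mono (by omega) (zpow_mem hy _)), fun h => h2 ?_, ?_⟩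
      · have h' := mul_mem h (inv_mem (zTerm_mono (by omega) (zpow_mem hy (-t)) :
          y₀ ^ (-t) ∈ zTerm S (i - 1)))
        rwa [mul_inv_cancel_right] at h'
      · rw [show i - 2 - (d + 1) = m - 1 by omega,
          show ⁅x' * y₀ ^ (-t), e⁆ = x' * R * x'⁻¹ * ⁅x', e⁆ by
            simp only [hR, commutatorElement_def]; group,
          show x' * R * x'⁻¹ * ⁅x', e⁆ = ⁅x', R⁆ * (R * ⁅x', e⁆) by
            simp only [commutatorElement_def]; group, hwt, ← mul_assoc R]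
        exact mul_mem (commutator_pred hRZ (zTerm_le S _ h1)).2 (mul_mem hRw hv)
  obtain ⟨x', h1, h2, h3'⟩ := key (i - 4) (by omega)
  rw [show i - 2 - (i - 4) = 2 by omega] at h3'
  have hxS := zTerm_le S _ h1
  have := finite_of_le T.ES
  have hxN : x' ∈ normalizerIn S E := by
    refine ⟨hxS, mem_normalizer_iff_map_conj_eq.2 (Subgroup.eq_of_le_of_card_ge ?_
      (by rw [Subgroup.card_map_of_injective (MulEquiv.injective _)]))⟩
    rintro _ ⟨a, ha, rfl⟩
    obtain ⟨a₁, b, m, rfl⟩ := T.fr.span a ha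
    have hfix : ∀ z ∈ zTerm S 2, x' * z * x'⁻¹ = z := fun z hz => by
      rw [T.st.commute_Z (i := i) (j := 2) (by omega) (by omega) h1 hz, mul_inv_cancel_right]
    show MulAut.conj x' (u ^ a₁ * e ^ b * c ^ m) ∈ E
    rw [map_mul, map_mul, map_zpow, map_zpow, map_zpow]
    simp only [MulAut.conj_apply]
    rw [hfix u (hY ▸ T.fr.u_mem_Y), hfix c (zTerm_mono (by omega) hc),
      conj_eq_commutator_mul x' e]
    exact mul_mem (mul_mem (zpow_mem T.fr.hu a₁)
      (zpow_mem (mul_mem (Subgroup.mem_inf.1 (hY.ge h3')).1 T.fr.he) b)) (zpow_mem T.fr.hc m)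
  rw [T.normalizer_E] at hxN
  have hD := T.U_inf le_rfl (T.ok' 2) hxN (zTerm_mono hi h1)
  rw [T.D_top T.kn3] at hD
  exact h2 (zTerm_mono (by omega) hD)

/-- Opposite terms commute. -/
theorem pairing (hu : u ∉ zTerm S 1) (hc : c ∈ zTerm S 1) {r : ℕ} (hr : n = 2 * r + 1) (d : ℕ)
    (hd : r + 1 + d ≤ n - 2) :
    ∀ x ∈ zTerm S (r + 1 + d), ∀ w ∈ zTerm S (r + 1 - d), x * w = w * x := by
  have hn := T.n5
  induction d with
  | zero =>
    intro x hx w hw
    rw [Nat.sub_zero] at hw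
    rw [Nat.add_zero] at hx
    obtain ⟨x₀, h0, h0'⟩ := T.st.mc.exists_layer (i := r + 1) (by omega) (by omega)
    obtain ⟨a, v, hv, rfl⟩ := T.st.mc.exists_eq_pow_mul (by omega) (by omega) h0 h0' hx
    obtain ⟨b, v', hv', rfl⟩ := T.st.mc.exists_eq_pow_mul (by omega) (by omega) h0 h0' hw
    rw [Nat.add_sub_cancel] at hv hv'
    have h1 : Commute v v' := T.st.commute_Z (i := r) (j := r) (by omega) (by omega) hv hv'
    have h2 : Commute (x₀ ^ a) v' :=
      T.st.commute_Z (i := r + 1) (j := r) (by omega) (by omega) (zpow_mem h0 a) hv'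
    have h3 : Commute v (x₀ ^ b) :=
      T.st.commute_Z (i := r) (j := r + 1) (by omega) (by omega) hv (zpow_mem h0 b)
    exact (((Commute.refl x₀).zpow_zpow a b).mul_right h2).mul_left (h3.mul_right h1)
  | succ d ih =>
    intro x hx w hw
    have hih := ih (by omega)
    have hY : Yof S n E = zTerm S 2 := T.fr.dich.resolve_left hu
    set a := r + 1 + d with ha
    set b := r + 1 - d with hb
    have hab : a + b = n + 1 := by omega
    obtain ⟨y₀, hy, hy'⟩ := T.st.mc.exists_layer (i := b) (by omega) (by omega)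
    rw [show r + 1 + (d + 1) = a + 1 by omega] at hx
    rw [show r + 1 - (d + 1) = b - 1 by omega] at hw
    set z := ⁅x, y₀⁆ with hz
    have hzY : z ∈ Yof S n E :=
      hY.ge (T.st.comm_Z (by omega) (show a + 1 + b ≤ n + 2 by omega) hx hy)
    have hxS := zTerm_le S _ hx
    have hyS := zTerm_le S _ hy
    set v₀ := ⁅x⁻¹, e⁆ with hv₀
    set v₁ := ⁅y₀⁻¹, e⁆ with hv₁
    have hv₀Z : v₀ ∈ zTerm S a := commutator_step (inv_mem hx) T.eS
    have hv₁Z : v₁ ∈ zTerm S (b - 1) := (commutator_pred (inv_mem hy) T.eS).1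
    have hv₁' : v₁ ∉ zTerm S (b - 1 - 1) := by
      rw [show b - 1 - 1 = b - 2 by omega]
      exact T.shift_two hu hc (by omega) (by omega) (inv_mem hy) fun h => hy' (by simpa using inv_mem h)
    have hzfix : e * z * e⁻¹ = z := by
      rw [← T.Y_comm hzY T.fr.he, mul_inv_cancel_right]
    have hzconj : z = ⁅x * v₀, y₀ * v₁⁆ := by
      rw [← hzfix, hz, hv₀, hv₁]
      simp only [commutatorElement_def]
      group
    have hc0 : Commute v₀ (y₀ * v₁) :=
      (show Commute v₀ y₀ from hih v₀ hv₀Z y₀ hy).mul_right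
        (T.st.commute_Z (i := a) (j := b - 1) (by omega) (by omega) hv₀Z hv₁Z)
    have hxv : ⁅x, v₁⁆ = 1 := by
      have h1 : z = z * (y₀ * ⁅x, v₁⁆ * y₀⁻¹) := by
        conv_lhs => rw [hzconj, show ⁅x * v₀, y₀ * v₁⁆ =
          x * ⁅v₀, y₀ * v₁⁆ * x⁻¹ * ⁅x, y₀ * v₁⁆ by simp only [commutatorElement_def]; group,
          commutatorElement_eq_one_iff_commute.2 hc0, mul_one, mul_inv_cancel, one_mul,
          commutator_mul_right']
      rw [left_eq_mul] at h1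
      simpa using h1
    obtain ⟨j, v, hv, rfl⟩ := T.st.mc.exists_eq_pow_mul (by omega) (by omega) hv₁Z hv₁' hw
    exact ((commutatorElement_eq_one_iff_commute.1 hxv).zpow_right j).mul_right
      (T.st.commute_Z (i := a + 1) (j := b - 1 - 1) (by omega) (by omega) hx hv)

theorem false_of_two (hk : MinIdx p n F 2) : False := by
  have hn := T.n5
  have hp5 := T.st.p5
  by_cases hu : u ∈ zTerm S 1
  · exact T.false_of_central hk hu
  by_cases hc : c ∈ zTerm S 1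
  swap
  · obtain ⟨g, l, l', hg, hgl, -, hll⟩ := exists_primitive p
    obtain ⟨α, hα⟩ := T.exists_tw hk hll (by omega) le_rfl
    have hl : ¬ (p : ℤ) ∣ l - 1 := fun h => by
      have h1 := zeq h
      rw [hgl, Int.cast_one, Units.val_eq_one] at h1
      rw [h1, orderOf_one] at hg
      omega
    obtain ⟨E', y', u', e', c', T', hu'⟩ := T.exists_central rfl hu hc hl hα
    exact T'.false_of_central hk hu'
  obtain ⟨r, hr⟩ := T.odd_of_noncentral hk hu hc
  have hY : Yof S n E = zTerm S 2 := T.fr.dich.resolve_left hu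
  obtain ⟨x, hx, hx'⟩ := T.st.mc.exists_layer (i := 3) (by omega) (by omega)
  obtain ⟨m, hm, -, hw⟩ := T.disp_zTerm_three hu hx hx'
  set w := ⁅x, e⁆ with hwdef
  have hwY : w ∈ Yof S n E := hm ▸ zpow_mem T.fr.u_mem_Y m
  have hpair : ∀ a ∈ zTerm S 3, ∀ b ∈ zTerm S (n - 2), a * b = b * a := by
    intro a ha b hb
    have h := T.pairing hu hc hr (r - 2) (by omega)
    rw [show r + 1 + (r - 2) = n - 2 by omega, show r + 1 - (r - 2) = 3 by omega] at h
    exact (h b hb a ha).symm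
  refine hw (mem_zTerm_succ (zTerm_le S _ (hY.le hwY)) fun s hs => ?_)
  rw [zTerm_zero, Subgroup.mem_bot, commutatorElement_eq_one_iff_mul_comm]
  set y₁ := ⁅s, e⁆
  set z₂ := ⁅s, x⁆
  have hy₁ : y₁ ∈ zTerm S (n - 2) := T.comm_top hs
  have hz₂ : z₂ ∈ zTerm S 2 := (commutator_pred hx hs).2
  have hc1 : Commute z₂ (y₁ * e) :=
    (show Commute z₂ y₁ from T.st.commute_Z (i := 2) (j := n - 2) (by omega) (by omega) hz₂ hy₁).mul_right
      (T.Y_comm (hY.ge hz₂) T.fr.he)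
  have hxy : ⁅x, y₁⁆ = 1 := commutatorElement_eq_one_iff_mul_comm.2 (hpair x hx y₁ hy₁)
  have hy₁w : y₁ * w * y₁⁻¹ = w := by
    rw [T.st.commute_Z (i := n - 2) (j := 2) (by omega) (by omega) hy₁ (hY.le hwY),
      mul_inv_cancel_right]
  have hzw : z₂ * w * z₂⁻¹ = w := by
    rw [T.st.commute_Z (i := 2) (j := 2) (by omega) (by omega) hz₂ (hY.le hwY),
      mul_inv_cancel_right]
  have hsw : s * w * s⁻¹ = w := by
    rw [hwdef, show s * ⁅x, e⁆ * s⁻¹ = ⁅s * x * s⁻¹, s * e * s⁻¹⁆ by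
      simp only [commutatorElement_def]; group, conj_eq_commutator_mul s x,
      conj_eq_commutator_mul s e]
    show ⁅z₂ * x, y₁ * e⁆ = _
    rw [show ⁅z₂ * x, y₁ * e⁆ = z₂ * ⁅x, y₁ * e⁆ * z₂⁻¹ * ⁅z₂, y₁ * e⁆ by
      simp only [commutatorElement_def]; group, commutatorElement_eq_one_iff_commute.2 hc1,
      mul_one, commutator_mul_right', hxy, one_mul]
    show z₂ * (y₁ * w * y₁⁻¹) * z₂⁻¹ = w
    rw [hy₁w, hzw]
  exact (mul_inv_eq_iff_eq_mul.1 hsw).symm

end Data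

namespace Setting

variable [Fact p.Prime] [Finite S] (σ : Setting p n F)
include σ

/-- There is no soft centric subgroup. -/
theorem false_of_target {E : Subgroup Ω} (hE : Target p F E) : False := by
  classical
  have hex : ∃ j, ∃ E', Target p F E' ∧ Yof S n E' ≤ zTerm S j := ⟨n - 2, E, hE, inf_le_right⟩
  have hk : MinIdx p n F (Nat.find hex) := fun E' hE' j hj h => Nat.find_min hex hj ⟨E', hE', h⟩
  obtain ⟨E', hE', hY⟩ := Nat.find_spec hex
  obtain ⟨k, y, u, e, c, T, -, hge⟩ := σ.exists_data_ge hk hE'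
  have heq : Nat.find hex = k := le_antisymm hge (not_lt.1 fun hlt =>
    T.Ynle (hY.trans (zTerm_mono (by omega))))
  rw [heq] at hk
  rcases Nat.lt_or_ge k 3 with h | h
  · obtain rfl : k = 2 := by have := T.k2; omega
    exact T.false_of_two hk
  · exact T.false_of_central hk (T.u_mem_one h)

end Setting

end CfsgLib.FusionPearl
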