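import Cfsg.Agent.FusionPearl.Basics

/-!
# Calculations modulo a term of the upper series

`comm_calc_mem`: bilinearity of the commutator modulo `zTerm S j`; coprime powers.
-/

set_option autoImplicit false

namespace CfsgLib.FusionPearl

open Cfsg Cfsg.FusionSystem CfsgLib.PMaxClass Subgroup
open scoped commutatorElement

variable {Ω : Type*} [Group Ω] {S : Subgroup Ω} {p : ℕ}

/-- The quotient map by a term of the upper series. -/
def zQuot (S : Subgroup Ω) (j : ℕ) : S →* S ⧸ Subgroup.upperCentralSeries S j :=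
  QuotientGroup.mk' _

theorem zQuot_eq_one {j : ℕ} {x : S} : zQuot S j x = 1 ↔ (x : Ω) ∈ zTerm S j := by
  rw [zQuot, QuotientGroup.mk'_apply, QuotientGroup.eq_one_iff, coe_mem_zTerm]

theorem zQuot_eq {j : ℕ} {x y : S} : zQuot S j x = zQuot S j y ↔ (x : Ω) * (y : Ω)⁻¹ ∈ zTerm S j := by
  rw [← mul_inv_eq_one, ← map_inv, ← map_mul, zQuot_eq_one]
  rfl

theorem zQuot_commute {j : ℕ} {x y : S} :
    Commute (zQuot S j x) (zQuot S j y) ↔ ⁅(x : Ω), (y : Ω)⁆ ∈ zTerm S j := by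
  rw [← commutatorElement_eq_one_iff_commute, ← map_commutatorElement, zQuot_eq_one]
  rfl

/-- Bilinearity modulo `Z j`. -/
theorem comm_calc_mem {j : ℕ} {x s d g : Ω} (hx : x ∈ S) (hs : s ∈ S) (hd : d ∈ S) (hg : g ∈ S)
    (hds : ⁅d, s⁆ ∈ zTerm S j) (hdg : ⁅d, g⁆ ∈ zTerm S j) (hgx : ⁅g, x⁆ ∈ zTerm S j)
    (hwx : ⁅⁅x, s⁆, x⁆ ∈ zTerm S j) (hws : ⁅⁅x, s⁆, s⁆ ∈ zTerm S j) (a b : ℤ) :
    ⁅x ^ a * d, s ^ b * g⁆ * (⁅x, s⁆ ^ (a * b))⁻¹ ∈ zTerm S j := by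
  let X : S := ⟨x, hx⟩
  let Y : S := ⟨s, hs⟩
  let D : S := ⟨d, hd⟩
  let G : S := ⟨g, hg⟩
  have h1 : Commute (⁅zQuot S j X, zQuot S j Y⁆) (zQuot S j X) := by
    rw [← map_commutatorElement, zQuot_commute]; exact hwx
  have h2 : Commute (⁅zQuot S j X, zQuot S j Y⁆) (zQuot S j Y) := by
    rw [← map_commutatorElement, zQuot_commute]; exact hws
  have h := commutator_calc (zQuot_commute.2 (show ⁅(D : Ω), (Y : Ω)⁆ ∈ _ from hds))
    (zQuot_commute.2 (show ⁅(D : Ω), (G : Ω)⁆ ∈ _ from hdg))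
    (zQuot_commute.2 (show ⁅(G : Ω), (X : Ω)⁆ ∈ _ from hgx)) h1 h2 a b
  rw [← map_commutatorElement, ← map_zpow, ← map_zpow, ← map_zpow, ← map_mul, ← map_mul,
    ← map_commutatorElement, zQuot_eq] at h
  simpa [commutatorElement_def] using h

/-- The power rule for commutators modulo `Z j`. -/
theorem comm_zpow_mem {j : ℕ} {x s : Ω} (hx : x ∈ S) (hs : s ∈ S)
    (hwx : ⁅⁅x, s⁆, x⁆ ∈ zTerm S j) (hws : ⁅⁅x, s⁆, s⁆ ∈ zTerm S j) (a : ℤ) :
    ⁅x ^ a, s⁆ * (⁅x, s⁆ ^ a)⁻¹ ∈ zTerm S j := by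
  have := comm_calc_mem hx hs (one_mem S) (one_mem S) (d := 1) (g := 1)
    (by simp) (by simp) (by simp) hwx hws a 1
  simpa using this

/-- A coprime power in a subgroup. -/
theorem mem_of_zpow_mem [Fact p.Prime] (hS : IsPGroup p S) {x : Ω} (hx : x ∈ S) {H : Subgroup Ω}
    {m : ℤ} (hm : ¬ (p : ℤ) ∣ m) (h : x ^ m ∈ H) : x ∈ H := by
  obtain ⟨k, hk⟩ := hS ⟨x, hx⟩
  have hk' : x ^ (p ^ k) = 1 := by simpa using congrArg Subtype.val hk
  have hcop : IsCoprime ((p ^ k : ℕ) : ℤ) m := by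
    push_cast
    exact (((Nat.prime_iff_prime_int.1 (Fact.out : p.Prime)).coprime_iff_not_dvd.2 hm)).pow_left
  obtain ⟨a, b, hab⟩ := hcop
  have : x = (x ^ m) ^ b := by
    conv_lhs => rw [← zpow_one x, ← hab]
    rw [zpow_add, mul_comm a, zpow_mul, zpow_natCast, hk', one_zpow, one_mul, mul_comm b, zpow_mul]
  rw [this]
  exact zpow_mem h b

theorem dvd_of_zpow_mem [Fact p.Prime] (hS : IsPGroup p S) {x : Ω} (hx : x ∈ S) {H : Subgroup Ω}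
    (hxH : x ∉ H) {m : ℤ} (h : x ^ m ∈ H) : (p : ℤ) ∣ m :=
  Classical.not_not.1 fun hm => hxH (mem_of_zpow_mem hS hx hm h)

/-- Congruent exponents give congruent powers. -/
theorem zpow_mul_inv_mem {x : Ω} {H : Subgroup Ω} (hp : x ^ p ∈ H) {a b : ℤ}
    (h : (p : ℤ) ∣ a - b) : x ^ a * (x ^ b)⁻¹ ∈ H := by
  obtain ⟨t, ht⟩ := h
  rw [← zpow_neg, ← zpow_add, ← sub_eq_add_neg, ht, zpow_mul, zpow_natCast]
  exact zpow_mem hp t

/-- Comparing two exponents of an element outside a subgroup. -/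
theorem dvd_sub_of_mem [Fact p.Prime] (hS : IsPGroup p S) {w z : Ω} (hw : w ∈ S) {H : Subgroup Ω}
    (hwH : w ∉ H) {a b : ℤ} (h1 : z * (w ^ a)⁻¹ ∈ H) (h2 : z * (w ^ b)⁻¹ ∈ H) :
    (p : ℤ) ∣ a - b := by
  refine dvd_of_zpow_mem hS hw hwH ?_
  have h3 := mul_mem (inv_mem h1) h2
  rw [show w ^ (a - b) = (z * (w ^ a)⁻¹)⁻¹ * (z * (w ^ b)⁻¹) by group]
  exact h3

end CfsgLib.FusionPearl
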