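import Cfsg.Agent.FusionPearl.Tower
import Cfsg.Agent.FusionPearl.ModCalc

/-!
# Tower data of all targets, and images of the tower

`Data.kn3`: the trace index `k` is at most `n - 3`; `exists_data`; `Data.fullyNormalized_U`: for
minimal `k` the terms `Uof i`, `i < k`, are fully normalized.
-/

set_option autoImplicit false

namespace CfsgLib.FusionPearl

open Cfsg Cfsg.FusionSystem CfsgLib.Fusion CfsgLib.PMaxClass Subgroup
open scoped commutatorElement Pointwise

variable {Ω : Type*} [Group Ω] {S : Subgroup Ω} {p n : ℕ} {F : FusionSystem S}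

/-- No target has its trace in a term below `k`. -/
def MinIdx (p n : ℕ) (F : FusionSystem S) (k : ℕ) : Prop :=
  ∀ E', Target p F E' → ∀ j < k, ¬ Yof S n E' ≤ zTerm S j

namespace Data

variable {E : Subgroup Ω} {k : ℕ} {y u e c : Ω} (T : Data p n F E k y u e c)
include T

theorem c_not (hu : u ∈ zTerm S (k - 1)) [Fact p.Prime] : c ∉ zTerm S (k - 1) := fun hc =>
  T.Ynle fun x hx => by
    obtain ⟨i, l, rfl⟩ := T.fr.mem_Yof T.st T.tgt hx
    exact mul_mem (zpow_mem hu i) (zpow_mem hc l)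

variable [Fact p.Prime] [Finite S]

theorem c_not_of_three (hk : 3 ≤ k) : c ∉ zTerm S (k - 1) :=
  T.c_not (zTerm_mono (by omega) (T.u_mem_one hk))

theorem kn3 : k + 3 ≤ n := by
  by_contra hlt
  have hkn := T.kn
  have hn := T.n5
  have hk : k = n - 2 := by omega
  have hk3 : 3 ≤ k := by omega
  have hc := T.c_not_of_three hk3
  have hcZ : c ∈ zTerm S k := T.Yle T.fr.c_mem_Y
  obtain ⟨s, hs, hy1⟩ : ∃ s ∈ S, ⁅c, s⁆ ∉ zTerm S (k - 2) := by
    by_contra h
    push Not at h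
    refine hc ?_
    rw [show k - 1 = k - 2 + 1 by omega]
    exact mem_zTerm_succ T.cS h
  set w := ⁅s, c⁆ with hw
  have hwZ : w ∈ zTerm S (k - 1) := (commutator_pred hcZ hs).2
  have hwn : w ∉ zTerm S (k - 2) := fun h => hy1 (comm_symm h)
  set x := ⁅s, e⁆ with hx
  have hxZ : x ∈ zTerm S k := hk ▸ T.comm_top hs
  obtain ⟨m, v, hv, hxm⟩ := T.st.mc.exists_eq_pow_mul (by omega) (by omega) hcZ hc hxZ
  have hce : c * e = e * c := T.tgt.comm' T.fr.hc T.fr.he
  -- `x` commutes with `w` and `c` modulo `Z (k - 3)`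
  have hxw : ⁅x, w⁆ ∈ zTerm S (k - 3) := T.st.comm_Z (by omega) (by omega) hxZ hwZ
  have hxc : ⁅x, c⁆ ∈ zTerm S (k - 3) := by
    have h1 : x ∈ commSub S (k - 3) T.cS := by
      rw [hxm]
      refine mul_mem (zpow_mem (show c ∈ commSub S (k - 3) T.cS from ⟨T.cS, by simp⟩) m)
        ⟨zTerm_le S _ hv, T.st.comm_Z (by omega) (by omega) hcZ hv⟩
    exact comm_symm h1.2
  have hconj : ⁅x * e, w * c⁆ = 1 := by
    rw [hw, hx, ← conj_eq_commutator_mul, ← conj_eq_commutator_mul, ← conjugate_commutatorElement,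
      commutatorElement_eq_one_iff_mul_comm.2 hce.symm, mul_one, mul_inv_cancel]
  have hxwc : ⁅x, w * c⁆ ∈ zTerm S (k - 3) := by
    rw [commutator_mul_right']
    exact mul_mem hxw (conj_mem_zTerm hxc (zTerm_le S _ hwZ))
  have hew : ⁅e, w⁆ ∈ zTerm S (k - 3) := by
    have h1 : ⁅x * e, w * c⁆ = x * ⁅e, w⁆ * x⁻¹ * ⁅x, w * c⁆ := by
      rw [show ⁅x * e, w * c⁆ = x * ⁅e, w * c⁆ * x⁻¹ * ⁅x, w * c⁆ by
        simp only [commutatorElement_def]; group, commutator_mul_right' e w c,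
        commutatorElement_eq_one_iff_mul_comm.2 hce.symm, mul_one, mul_inv_cancel, mul_one]
    rw [hconj] at h1
    have h2 : ⁅e, w⁆ = x⁻¹ * (⁅x, w * c⁆)⁻¹ * x := by
      rw [show ⁅x, w * c⁆ = (x * ⁅e, w⁆ * x⁻¹)⁻¹ from eq_inv_of_mul_eq_one_right h1.symm]
      group
    rw [h2]
    have := conj_mem_zTerm (inv_mem hxwc) (inv_mem (zTerm_le S _ hxZ))
    simpa using this
  have hwD : w ∈ Dof S n E k (k - 2 + 1) := by
    rw [show k - 2 + 1 = k - 1 by omega, T.D_pred]
    exact zTerm_mono (by omega) hwZ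
  have hwD' : w ∉ Dof S n E k (k - 2) := fun h => by
    obtain ⟨a, ha, b, hb, hab⟩ := T.mem_D h
    rw [ix_of_lt (by omega)] at hb
    have ha' : a ∈ zTerm S (k - 1) := by
      rw [show a = w * b⁻¹ by rw [hab, mul_inv_cancel_right]]
      exact mul_mem hwZ (inv_mem (zTerm_mono (by omega) hb))
    exact hwn (hab ▸ mul_mem (zTerm_mono (by omega) (T.Y_inf (by omega) ha ha')) hb)
  rcases Nat.lt_or_ge k 4 with h4 | h4
  · refine T.not_comm_one (Or.inl (by omega)) (x := w) ?_ ?_ ?_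
    · rwa [show k - 2 + 1 = 2 by omega] at hwD
    · rwa [show k - 2 = 1 by omega] at hwD'
    · have := comm_symm hew
      rwa [show k - 3 = 0 by omega, zTerm_zero, Subgroup.mem_bot] at this
  · refine T.not_comm_mem (i := k - 2) (by omega) (by omega) (Or.inl (by omega)) hwD hwD' ?_
    exact T.Z_le_D ((show k - 3 ≤ k - 2 - 1 by omega).trans (le_ix k _)) (comm_symm hew)

end Data

namespace Setting

variable (σ : Setting p n F)
include σ

/-- Every target carries tower data. -/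
theorem exists_data [Fact p.Prime] [Finite S] {E : Subgroup Ω} (hE : Target p F E) :
    ∃ (k : ℕ) (y u e c : Ω), Data p n F E k y u e c ∧ k + 3 ≤ n := by
  classical
  have hn := σ.n5
  obtain ⟨y, u, e, c, fr⟩ := σ.exists_goodFrame hE
  have hex : ∃ j, Yof S n E ≤ zTerm S j := ⟨n - 2, inf_le_right⟩
  have hle : Nat.find hex ≤ n - 2 := Nat.find_le inf_le_right
  have h2 : 2 ≤ Nat.find hex := by
    by_contra hlt
    have := finite_of_le (zTerm_le S 1)
    have h := Subgroup.card_le_of_le ((Nat.find_spec hex).trans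
      (zTerm_mono (show Nat.find hex ≤ 1 by omega)))
    rw [fr.card_Yof σ hE, σ.mc.card_zTerm (by omega)] at h
    have := (Nat.pow_le_pow_iff_right σ.mc.prime.one_lt).1 h
    omega
  have T : Data p n F E (Nat.find hex) y u e c :=
    ⟨σ, hE, fr, h2, by omega, Nat.find_spec hex, Nat.find_min hex (by omega)⟩
  exact ⟨_, y, u, e, c, T, T.kn3⟩

/-- The data of a target have index at least `k`. -/
theorem exists_data_ge [Fact p.Prime] [Finite S] {k : ℕ} (hk : MinIdx p n F k) {E : Subgroup Ω}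
    (hE : Target p F E) :
    ∃ (k' : ℕ) (y u e c : Ω), Data p n F E k' y u e c ∧ k' + 3 ≤ n ∧ k ≤ k' := by
  obtain ⟨k', y, u, e, c, T, h⟩ := σ.exists_data hE
  exact ⟨k', y, u, e, c, T, h, not_lt.1 fun hlt => hk E hE k' hlt T.Yle⟩

end Setting

namespace Data

variable [Fact p.Prime] [Finite S] {E : Subgroup Ω} {k : ℕ} {y u e c : Ω}
  (T : Data p n F E k y u e c)
include T

theorem E_le_U (i : ℕ) : E ≤ Uof S E k i := le_sup_left

theorem ok (i : ℕ) : i + 1 < k ∨ k + 3 ≤ n := Or.inr T.kn3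

theorem ok' (i : ℕ) : i < k ∨ k + 3 ≤ n := Or.inr T.kn3

/-- The image of the tower is the tower of the image. -/
theorem image_U (hk : MinIdx p n F k) {i : ℕ} (h1 : 1 ≤ i) (hi : i < k)
    {φ : Uof S E k i →* Ω} (hφ : φ ∈ F.Hom (Uof S E k i)) :
    ∃ (k' : ℕ) (y' u' e' c' : Ω), Data p n F (imgHom φ E) k' y' u' e' c' ∧ k ≤ k' ∧
      ∀ j, 1 ≤ j → j ≤ i → imgHom φ (Uof S E k j) = Uof S (imgHom φ E) k' j := by
  obtain ⟨k', y', u', e', c', T', -, hkk⟩ := T.st.exists_data_ge hk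
    (T.st.isConj_target T.tgt (isConj_restrict hφ (T.E_le_U i)))
  refine ⟨k', y', u', e', c', T', hkk, fun j hj1 hji => ?_⟩
  induction j with
  | zero => omega
  | succ j ih =>
    rcases Nat.eq_zero_or_pos j with rfl | hj0
    · rw [T.U_one, T'.U_one]
    have ihj := ih hj0 (by omega)
    have := finite_of_le (T'.U_le_S (j + 1))
    refine Subgroup.eq_of_le_of_card_ge ?_ ?_
    · rw [← T'.normalizer_U hj0 (by omega) (T'.ok j), ← ihj]
      rintro w hw
      obtain ⟨x, hx, rfl⟩ := mem_imgHom.1 hw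
      refine ⟨apply_mem hφ x, ?_⟩
      have hxN : (x : Ω) ∈ normalizerIn S (Uof S E k j) := T.U_step_le hj0 (by omega) (T.ok j) hx
      have := finite_of_le (imgHom_le hφ (Uof S E k j))
      refine mem_normalizer_iff_map_conj_eq.2 (Subgroup.eq_of_le_of_card_ge ?_
        (by rw [Subgroup.card_map_of_injective (MulEquiv.injective _)]))
      rintro _ ⟨_, hz, rfl⟩
      obtain ⟨z, hzU, rfl⟩ := mem_imgHom.1 hz
      show φ x * φ z * (φ x)⁻¹ ∈ _
      rw [← map_inv, ← map_mul, ← map_mul]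
      exact apply_mem_imgHom φ ((Subgroup.mem_normalizer_iff.1 hxN.2 _).1 hzU)
    · rw [card_imgHom (F.injective_of_mem hφ) (T.U_mono hji),
        T.card_U (by omega) (by omega) (T.ok' _), T'.card_U (by omega) (by omega) (T'.ok' _)]

theorem fullyNormalized_U (hk : MinIdx p n F k) {i : ℕ} (h1 : 1 ≤ i) (hi : i < k) :
    F.IsFullyNormalized (Uof S E k i) := by
  refine ⟨T.U_le_S i, ?_⟩
  rintro Q ⟨φ, hφ, rfl⟩
  obtain ⟨k', y', u', e', c', T', hkk, himg⟩ := T.image_U hk h1 hi hφ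
  rw [← imgHom_self φ, himg i h1 le_rfl, T'.normalizer_U h1 (by omega) (T'.ok i),
    T'.card_U (by omega) (by omega) (T'.ok' _), T.normalizer_U h1 hi (T.ok i),
    T.card_U (by omega) hi (T.ok' _)]

end Data

end CfsgLib.FusionPearl
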