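import Cfsg.Agent.FusionPearl.Basics

/-!
# The normalizer tower of a soft subgroup

For a target `E` whose trace on the term `n - 2` lies in the term `k` and not in `k - 1`:
`Dof i = (E ∩ Z (n-2)) Z (ix i)`, `Uof i = E Z (ix i)` with `ix i = i` below `k` and `ix k = k + 1`.
`normalizer_U`: `N_S(Uof i) = Uof (i + 1)`; `not_comm_mem`: the commutator with `e` shifts by one
layer; `orbit`: the normalizer of `Uof i` moves `e` over the whole layer `Dof i`.
-/

set_option autoImplicit false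

namespace CfsgLib.FusionPearl

open Cfsg Cfsg.FusionSystem CfsgLib.Fusion CfsgLib.PMaxClass Subgroup
open scoped commutatorElement Pointwise

variable {Ω : Type*} [Group Ω] {S : Subgroup Ω} {p n : ℕ}

/-- The index shift skipping the layer `k`. -/
def ix (k i : ℕ) : ℕ := if i < k then i else i + 1

theorem ix_of_lt {k i : ℕ} (h : i < k) : ix k i = i := if_pos h

theorem ix_of_ge {k i : ℕ} (h : k ≤ i) : ix k i = i + 1 := if_neg (by omega)

theorem le_ix (k i : ℕ) : i ≤ ix k i := by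
  unfold ix; split <;> omega

theorem ix_mono {k i j : ℕ} (h : i ≤ j) : ix k i ≤ ix k j := by
  unfold ix; split <;> split <;> omega

/-- The part of the tower inside the term `n - 2`. -/
def Dof (S : Subgroup Ω) (n : ℕ) (E : Subgroup Ω) (k i : ℕ) : Subgroup Ω :=
  Yof S n E ⊔ zTerm S (ix k i)

/-- The tower. -/
def Uof (S : Subgroup Ω) (E : Subgroup Ω) (k i : ℕ) : Subgroup Ω := E ⊔ zTerm S (ix k i)

/-- The data of the tower. -/
structure Data (p n : ℕ) (F : FusionSystem S) (E : Subgroup Ω) (k : ℕ) (y u e c : Ω) : Prop where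
  st : Setting p n F
  tgt : Target p F E
  fr : GoodFrame p n F E y u e c
  k2 : 2 ≤ k
  kn : k + 2 ≤ n
  Yle : Yof S n E ≤ zTerm S k
  Ynle : ¬ Yof S n E ≤ zTerm S (k - 1)

namespace Data

variable {F : FusionSystem S} {E : Subgroup Ω} {k : ℕ} {y u e c : Ω}
  (T : Data p n F E k y u e c)
include T

theorem n5 : 5 ≤ n := T.st.n5

theorem ES : E ≤ S := T.tgt.le

theorem eS : e ∈ S := T.ES T.fr.he

theorem cS : c ∈ S := T.ES T.fr.hc

theorem YS : Yof S n E ≤ S := inf_le_left.trans T.ES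

theorem Y_comm {a x : Ω} (ha : a ∈ Yof S n E) (hx : x ∈ E) : a * x = x * a :=
  T.tgt.comm' (Subgroup.mem_inf.1 ha).1 hx

theorem Y_le_top : Yof S n E ≤ zTerm S (n - 2) := inf_le_right

variable [Fact p.Prime]

theorem u_mem_one (hk : 3 ≤ k) : u ∈ zTerm S 1 :=
  T.fr.dich.resolve_right fun h => T.Ynle (h.le.trans (zTerm_mono (by omega)))

theorem Y_inf {j : ℕ} (hj : j < k) {x : Ω} (hx : x ∈ Yof S n E) (hxj : x ∈ zTerm S j) :
    x ∈ zTerm S 1 := by
  rcases Nat.lt_or_ge j 2 with h | h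
  · exact zTerm_mono (by omega) hxj
  have hk3 : 3 ≤ k := by omega
  have hu := T.u_mem_one hk3
  obtain ⟨i, l, rfl⟩ := T.fr.mem_Yof T.st T.tgt hx
  by_cases hl : (p : ℤ) ∣ l
  · obtain ⟨m, rfl⟩ := hl
    rw [zpow_mul c, zpow_natCast, T.tgt.soft.exp c T.fr.hc, one_zpow, mul_one]
    exact zpow_mem hu i
  · exfalso
    have h1 : c ^ l ∈ zTerm S j := by
      have := mul_mem (inv_mem (zpow_mem (zTerm_mono (show 1 ≤ j by omega) hu) i)) hxj
      simpa using this
    obtain ⟨a, b, hab⟩ : IsCoprime l (p : ℤ) :=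
      ((Nat.prime_iff_prime_int.1 T.st.mc.prime).coprime_iff_not_dvd.2 hl).symm
    have h2 : (c ^ l) ^ a = c := by
      calc (c ^ l) ^ a = c ^ (a * l + b * p) := by
            rw [zpow_add, zpow_mul _ b, zpow_natCast, mul_comm a l, zpow_mul,
              show (c ^ b) ^ p = 1 from T.tgt.soft.exp _ (zpow_mem T.fr.hc b), mul_one]
        _ = c := by rw [hab, zpow_one]
    refine T.Ynle fun x hx => ?_
    obtain ⟨i', l', rfl⟩ := T.fr.mem_Yof T.st T.tgt hx
    exact mul_mem (zpow_mem (zTerm_mono (by omega) hu) i')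
      (zpow_mem (zTerm_mono (by omega) (h2 ▸ zpow_mem h1 a)) l')

theorem ix_le {i : ℕ} (hi : i ≤ k) (h : i < k ∨ k + 3 ≤ n) : ix k i ≤ n - 2 := by
  have := T.kn
  unfold ix; split <;> omega

theorem Y_le_D (i : ℕ) : Yof S n E ≤ Dof S n E k i := le_sup_left

theorem Z_le_D {i j : ℕ} (h : j ≤ ix k i) : zTerm S j ≤ Dof S n E k i :=
  (zTerm_mono h).trans le_sup_right

theorem D_mono {i j : ℕ} (h : i ≤ j) : Dof S n E k i ≤ Dof S n E k j :=
  sup_le_sup_left (zTerm_mono (ix_mono h)) _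

theorem D_le_top {i : ℕ} (hi : i ≤ k) (h : i < k ∨ k + 3 ≤ n) :
    Dof S n E k i ≤ zTerm S (n - 2) :=
  sup_le T.Y_le_top (zTerm_mono (T.ix_le hi h))

theorem D_le_S (i : ℕ) : Dof S n E k i ≤ S := sup_le T.YS (zTerm_le S _)

theorem U_le_S (i : ℕ) : Uof S E k i ≤ S := sup_le T.ES (zTerm_le S _)

theorem D_le_U (i : ℕ) : Dof S n E k i ≤ Uof S E k i := sup_le_sup_right inf_le_left _

theorem e_mem_U (i : ℕ) : e ∈ Uof S E k i := mem_sup_left T.fr.he

theorem U_mono {i j : ℕ} (h : i ≤ j) : Uof S E k i ≤ Uof S E k j :=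
  sup_le_sup_left (zTerm_mono (ix_mono h)) _

theorem Z_one_le_Y : zTerm S 1 ≤ Yof S n E := fun z hz => Subgroup.mem_inf.2
  ⟨T.tgt.soft.cent (mem_centralizerIn'.2 ⟨zTerm_le S 1 hz, fun x hx => by
    rw [← zTerm_one_comm hz (T.ES hx), mul_inv_cancel_right]⟩),
    zTerm_mono (by have := T.n5; omega) hz⟩

theorem D_one : Dof S n E k 1 = Yof S n E := by
  rw [Dof, ix_of_lt (by have := T.k2; omega)]
  exact sup_eq_left.2 T.Z_one_le_Y

theorem D_zero : Dof S n E k 0 = Yof S n E := by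
  rw [Dof, ix_of_lt (by have := T.k2; omega), zTerm_zero, sup_bot_eq]

theorem U_zero : Uof S E k 0 = E := by
  rw [Uof, ix_of_lt (by have := T.k2; omega), zTerm_zero, sup_bot_eq]

theorem U_one : Uof S E k 1 = E := by
  rw [Uof, ix_of_lt (by have := T.k2; omega)]
  exact sup_eq_left.2 (T.Z_one_le_Y.trans inf_le_left)

theorem mem_D {i : ℕ} {x : Ω} (hx : x ∈ Dof S n E k i) :
    ∃ a ∈ Yof S n E, ∃ b ∈ zTerm S (ix k i), x = a * b := by
  rw [← SetLike.mem_coe, Dof, Subgroup.coe_mul_of_left_le_normalizer_right _ _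
    (T.YS.trans (le_normalizer_zTerm _))] at hx
  obtain ⟨a, ha, b, hb, rfl⟩ := hx
  exact ⟨a, ha, b, hb, rfl⟩

theorem mem_U {i : ℕ} {x : Ω} (hx : x ∈ Uof S E k i) :
    ∃ (j : ℤ) (d : Ω), d ∈ Dof S n E k i ∧ x = e ^ j * d := by
  rw [← SetLike.mem_coe, Uof, Subgroup.coe_mul_of_left_le_normalizer_right _ _
    (T.ES.trans (le_normalizer_zTerm _))] at hx
  obtain ⟨a, ha, b, hb, rfl⟩ := hx
  obtain ⟨i', j, l, rfl⟩ := T.fr.span a ha
  refine ⟨j, u ^ i' * c ^ l * b, mul_mem (mem_sup_left (mul_mem (zpow_mem T.fr.u_mem_Y i')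
    (zpow_mem T.fr.c_mem_Y l))) (mem_sup_right hb), ?_⟩
  rw [(show Commute (u ^ i') (e ^ j) from
    T.tgt.comm' (zpow_mem T.fr.hu i') (zpow_mem T.fr.he j)).eq]
  simp only [mul_assoc]

theorem U_inf {i : ℕ} (hi : i ≤ k) (h : i < k ∨ k + 3 ≤ n) {x : Ω} (hx : x ∈ Uof S E k i)
    (hxZ : x ∈ zTerm S (n - 2)) : x ∈ Dof S n E k i := by
  rw [← SetLike.mem_coe, Uof, Subgroup.coe_mul_of_left_le_normalizer_right _ _
    (T.ES.trans (le_normalizer_zTerm _))] at hx
  obtain ⟨a, ha, b, hb, rfl⟩ := hx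
  exact mul_mem (mem_sup_left (Subgroup.mem_inf.2 ⟨ha, by
    simpa using mul_mem hxZ (inv_mem (zTerm_mono (T.ix_le hi h) hb))⟩)) (mem_sup_right hb)

theorem D_pred : Dof S n E k (k - 1) = zTerm S k := by
  have := T.k2
  have hix : ix k (k - 1) = k - 1 := ix_of_lt (by omega)
  refine le_antisymm (sup_le T.Yle (by rw [hix]; exact zTerm_mono (by omega))) ?_
  obtain ⟨x, hx, hx'⟩ := SetLike.not_le_iff_exists.1 T.Ynle
  exact T.st.mc.le_of_mem_layer (by omega) (by have := T.kn; omega)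
    (T.Z_le_D (by rw [hix])) (T.Yle hx) hx' (mem_sup_left hx)

theorem D_top (h : k + 3 ≤ n) : Dof S n E k k = zTerm S (k + 1) := by
  rw [Dof, ix_of_ge le_rfl]
  exact sup_eq_right.2 (T.Yle.trans (zTerm_mono (by omega)))

/-- A new element in each layer. -/
theorem exists_new {i : ℕ} (h1 : 1 ≤ i) (hi : i < k) (hok : i + 1 < k ∨ k + 3 ≤ n) :
    ∃ x, x ∈ zTerm S (ix k (i + 1)) ∧ x ∈ Dof S n E k (i + 1) ∧ x ∉ Dof S n E k i := by
  have := T.kn
  obtain ⟨x, hx, hx'⟩ := T.st.mc.exists_layer (i := ix k (i + 1))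
    (by have := le_ix k (i + 1); omega) (T.ix_le hi (by omega))
  refine ⟨x, hx, mem_sup_right hx, fun hxD => hx' ?_⟩
  rcases Nat.lt_or_ge (i + 1) k with h | h
  · rw [ix_of_lt h] at hx ⊢
    obtain ⟨a, ha, b, hb, rfl⟩ := T.mem_D hxD
    rw [ix_of_lt hi] at hb
    have h2 : a ∈ zTerm S (i + 1) := by
      simpa using mul_mem hx (inv_mem (zTerm_mono (Nat.le_succ i) hb))
    exact mul_mem (zTerm_mono (show 1 ≤ i + 1 - 1 by omega) (T.Y_inf h ha h2))
      (zTerm_mono (show i ≤ i + 1 - 1 by omega) hb)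
  · rw [ix_of_ge h] at hx ⊢
    rw [show i = k - 1 by omega, T.D_pred] at hxD
    exact zTerm_mono (by omega) hxD

variable [Finite S]

theorem finite_D (i : ℕ) : Finite (Dof S n E k i) := finite_of_le (T.D_le_S i)

theorem finite_U (i : ℕ) : Finite (Uof S E k i) := finite_of_le (T.U_le_S i)

theorem card_step {i : ℕ} (h1 : 1 ≤ i) (hi : i < k) (hok : i + 1 < k ∨ k + 3 ≤ n) :
    Nat.card (Dof S n E k i) * p ≤ Nat.card (Dof S n E k (i + 1)) := by
  obtain ⟨x, -, hx, hx'⟩ := T.exists_new h1 hi hok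
  have h := card_mul_le_of_lt T.st.isP (A := (Dof S n E k i).subgroupOf S)
    (B := (Dof S n E k (i + 1)).subgroupOf S)
    (lt_of_le_of_ne (fun w hw => T.D_mono (Nat.le_succ i) hw) fun h => hx' (by
      have h2 : (⟨x, T.D_le_S _ hx⟩ : S) ∈ (Dof S n E k (i + 1)).subgroupOf S := hx
      rw [← h] at h2
      exact h2))
  rwa [Nat.card_congr (Subgroup.subgroupOfEquivOfLe (T.D_le_S i)).toEquiv,
    Nat.card_congr (Subgroup.subgroupOfEquivOfLe (T.D_le_S (i + 1))).toEquiv] at h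

theorem card_D {i : ℕ} (h1 : 1 ≤ i) (hi : i ≤ k) (hok : i < k ∨ k + 3 ≤ n) :
    Nat.card (Dof S n E k i) = p ^ (i + 1) := by
  have hp := T.st.mc.prime
  rcases hi.eq_or_lt with rfl | hlt
  · have h : i + 3 ≤ n := by omega
    rw [T.D_top h, T.st.mc.card_zTerm (by omega)]
  have low : ∀ j, 1 ≤ j → j < k → p ^ (j + 1) ≤ Nat.card (Dof S n E k j) := by
    intro j
    induction j with
    | zero => omega
    | succ j ih =>
      intro _ hj
      rcases Nat.eq_zero_or_pos j with rfl | hj0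
      · rw [T.D_one, T.fr.card_Yof T.st T.tgt]
      · rw [pow_succ]
        exact (Nat.mul_le_mul_right p (ih hj0 (by omega))).trans
          (T.card_step hj0 (by omega) (Or.inl hj))
  have up : ∀ d j, 1 ≤ j → j + d + 1 = k → Nat.card (Dof S n E k j) * p ^ d ≤ p ^ k := by
    intro d
    induction d with
    | zero =>
      intro j _ hj
      rw [show j = k - 1 by omega, T.D_pred, pow_zero, mul_one,
        T.st.mc.card_zTerm (by have := T.kn; omega)]
    | succ d ih =>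
      intro j hj1 hj
      refine le_trans ?_ (ih (j + 1) (by omega) (by omega))
      rw [pow_succ', ← mul_assoc]
      exact Nat.mul_le_mul_right _ (T.card_step hj1 (by omega) (Or.inl (by omega)))
  refine le_antisymm ?_ (low i h1 hlt)
  obtain ⟨d, hd⟩ : ∃ d, i + d + 1 = k := ⟨k - i - 1, by omega⟩
  have h3 := up d i h1 hd
  have h4 : p ^ k = p ^ (i + 1) * p ^ d := by
    rw [← pow_add]; congr 1; omega
  rw [h4] at h3
  exact Nat.le_of_mul_le_mul_right h3 (pow_pos hp.pos d)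

theorem card_U {i : ℕ} (h1 : 1 ≤ i) (hi : i ≤ k) (hok : i < k ∨ k + 3 ≤ n) :
    Nat.card (Uof S E k i) = p ^ (i + 2) := by
  have := T.finite_D i
  have := T.finite_U i
  have heord : orderOf e = p := T.st.orderOf_E T.tgt T.fr.he fun h => T.fr.eZ (h ▸ one_mem _)
  refine le_antisymm ?_ ?_
  · have hsub : (Uof S E k i : Set Ω) ⊆ (zpowers e : Set Ω) * (Dof S n E k i : Set Ω) := by
      intro x hx
      obtain ⟨j, d, hd, rfl⟩ := T.mem_U hx
      exact ⟨e ^ j, ⟨j, rfl⟩, d, hd, rfl⟩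
    have hfz : (zpowers e : Set Ω).Finite := Set.Finite.subset (Set.toFinite (S : Set Ω))
      (zpowers_le.2 T.eS)
    calc Nat.card (Uof S E k i) = Nat.card (Uof S E k i : Set Ω) := rfl
      _ ≤ Nat.card ((zpowers e : Set Ω) * (Dof S n E k i : Set Ω) : Set Ω) :=
        Nat.card_mono (hfz.mul (Set.toFinite _)) hsub
      _ ≤ Nat.card (zpowers e : Set Ω) * Nat.card (Dof S n E k i : Set Ω) := Set.natCard_mul_le
      _ = p * p ^ (i + 1) := by
        rw [show Nat.card (zpowers e : Set Ω) = p from (Nat.card_zpowers e).trans heord,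
          show Nat.card (Dof S n E k i : Set Ω) = p ^ (i + 1) from T.card_D h1 hi hok]
      _ = p ^ (i + 2) := (pow_succ' p (i + 1)).symm
  · have h := card_mul_le_of_lt T.st.isP (A := (Dof S n E k i).subgroupOf S)
      (B := (Uof S E k i).subgroupOf S) (lt_of_le_of_ne (fun w hw => T.D_le_U i hw) fun h => by
        have h2 : (⟨e, T.eS⟩ : S) ∈ (Uof S E k i).subgroupOf S := T.e_mem_U i
        rw [← h] at h2
        exact T.fr.eZ (T.D_le_top hi hok h2))
    rwa [Nat.card_congr (Subgroup.subgroupOfEquivOfLe (T.D_le_S i)).toEquiv,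
      Nat.card_congr (Subgroup.subgroupOfEquivOfLe (T.U_le_S i)).toEquiv, T.card_D h1 hi hok,
      ← pow_succ] at h

theorem D_rep {i : ℕ} (h1 : 1 ≤ i) (hi : i < k) (hok : i + 1 < k ∨ k + 3 ≤ n) {x w : Ω}
    (hx : x ∈ Dof S n E k (i + 1)) (hx' : x ∉ Dof S n E k i) (hw : w ∈ Dof S n E k (i + 1)) :
    ∃ (j : ℤ) (v : Ω), v ∈ Dof S n E k i ∧ w = x ^ j * v := by
  obtain ⟨j, v, hv, hwv⟩ := exists_pow_mul_of_index T.st.isP
    (A := (Dof S n E k i).subgroupOf S) (B := (Dof S n E k (i + 1)).subgroupOf S)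
    (fun z hz => T.D_mono (Nat.le_succ i) hz) (by
      rw [Nat.card_congr (Subgroup.subgroupOfEquivOfLe (T.D_le_S i)).toEquiv,
        Nat.card_congr (Subgroup.subgroupOfEquivOfLe (T.D_le_S (i + 1))).toEquiv,
        T.card_D h1 hi.le (Or.inl hi), T.card_D (by omega) hi hok, pow_succ p (i + 1)])
    (x := ⟨x, T.D_le_S _ hx⟩) hx hx' (w := ⟨w, T.D_le_S _ hw⟩) hw
  exact ⟨j, v, hv, by simpa using congrArg Subtype.val hwv⟩

omit [Finite S] in
theorem comm_DD {i : ℕ} (h1 : 1 ≤ i) (hi : i < k) (hok : i + 1 < k ∨ k + 3 ≤ n) {x w : Ω}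
    (hx : x ∈ Dof S n E k (i + 1)) (hw : w ∈ Dof S n E k i) : ⁅x, w⁆ ∈ zTerm S (i - 1) := by
  have hkn := T.kn
  have hn := T.n5
  have hmn : ix k (i + 1) + 2 ≤ n := by
    have := T.ix_le (i := i + 1) hi hok; omega
  have hYY : ∀ a ∈ Yof S n E, ∀ b ∈ Yof S n E, ⁅a, b⁆ ∈ zTerm S (i - 1) := fun a ha b hb => by
    rw [commutatorElement_eq_one_iff_mul_comm.2 (T.Y_comm ha (Subgroup.mem_inf.1 hb).1)]
    exact one_mem _
  have hZY : ∀ a ∈ zTerm S (ix k (i + 1)), ∀ b ∈ Yof S n E, ⁅a, b⁆ ∈ zTerm S (i - 1) := by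
    intro a ha b hb
    rcases Nat.lt_or_ge (i + 1) k with h | h
    · rw [ix_of_lt h] at ha
      exact T.st.comm_Z (by omega) (show i + 1 + (n - 2) ≤ n + (i - 1) by omega) ha (T.Y_le_top hb)
    · rw [ix_of_ge h] at ha
      exact T.st.comm_Z (by omega) (show i + 1 + 1 + k ≤ n + (i - 1) by omega) ha (T.Yle hb)
  have hright : ∀ a ∈ Yof S n E ⊔ zTerm S (ix k (i + 1)), ∀ b ∈ zTerm S (ix k i),
      ⁅a, b⁆ ∈ zTerm S (i - 1) := by
    intro a ha b hb
    rw [ix_of_lt hi] at hb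
    refine comm_mem_sup T.YS (zTerm_le S _) (zTerm_le S i) (fun a ha b hb => ?_)
      (fun a ha b hb => ?_) ha hb
    · exact comm_symm (T.st.comm_Z (by omega) (show i + (n - 2) ≤ n + (i - 1) by omega) hb
        (T.Y_le_top ha))
    · exact T.st.comm_Z hmn (show ix k (i + 1) + i ≤ n + (i - 1) by omega) ha hb
  exact comm_symm (comm_mem_sup T.YS (zTerm_le S _) (T.D_le_S (i + 1))
    (fun b hb a ha => comm_symm (comm_mem_sup T.YS (zTerm_le S _) T.YS hYY hZY ha hb))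
    (fun b hb a ha => comm_symm (hright a ha b hb)) hw hx)

omit [Finite S] in
theorem comm_De {i : ℕ} (hi : i < k) {d : Ω} (hd : d ∈ Dof S n E k i) :
    ⁅d, e⁆ ∈ zTerm S (i - 1) := by
  refine comm_mem_sup T.YS (zTerm_le S _) T.ES (fun a ha b hb => ?_) (fun a ha b hb => ?_) hd T.fr.he
  · rw [commutatorElement_eq_one_iff_mul_comm.2 (T.Y_comm ha hb)]
    exact one_mem _
  · rw [ix_of_lt hi] at ha
    exact (commutator_pred ha (T.ES hb)).1

omit [Finite S] in
theorem comm_De' {i : ℕ} (hi : i < k) {x : Ω} (hx : x ∈ Dof S n E k (i + 1)) :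
    ⁅x, e⁆ ∈ Dof S n E k i := by
  have h : ⁅x, e⁆ ∈ zTerm S (ix k (i + 1) - 1) :=
    comm_mem_sup T.YS (zTerm_le S _) T.ES
      (fun a ha b hb => by
        rw [commutatorElement_eq_one_iff_mul_comm.2 (T.Y_comm ha hb)]; exact one_mem _)
      (fun a ha b hb => (commutator_pred ha (T.ES hb)).1) hx T.fr.he
  rcases Nat.lt_or_ge (i + 1) k with h' | h'
  · rw [ix_of_lt h', Nat.add_sub_cancel] at h
    exact T.Z_le_D (le_ix k i) h
  · rw [ix_of_ge h', Nat.add_sub_cancel, show i + 1 = k by omega, ← T.D_pred,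
      show k - 1 = i by omega] at h
    exact h

theorem conj_U {i : ℕ} {g : Ω} (hg : g ∈ S) (he : ⁅g, e⁆ ∈ Dof S n E k i)
    (hd : ∀ d ∈ Dof S n E k i, ⁅g, d⁆ ∈ Dof S n E k i) :
    g ∈ normalizerIn S (Uof S E k i) := by
  have := T.finite_U i
  refine ⟨hg, mem_normalizer_iff_map_conj_eq.2 (Subgroup.eq_of_le_of_card_ge ?_
    (by rw [Subgroup.card_map_of_injective (MulEquiv.injective _)]))⟩
  rintro _ ⟨x, hx, rfl⟩
  obtain ⟨j, d, hd', rfl⟩ := T.mem_U hx
  show MulAut.conj g (e ^ j * d) ∈ Uof S E k i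
  rw [map_mul, map_zpow, MulAut.conj_apply, MulAut.conj_apply, conj_eq_commutator_mul g e,
    conj_eq_commutator_mul g d]
  exact mul_mem (zpow_mem (mul_mem (T.D_le_U i he) (T.e_mem_U i)) j)
    (T.D_le_U i (mul_mem (hd d hd') hd'))

omit [Finite S] in
theorem comm_top {g : Ω} (hg : g ∈ S) : ⁅g, e⁆ ∈ zTerm S (n - 2) := by
  have hn := T.n5
  have h := (commutator_pred (i := n - 1) ((T.st.Z_top le_rfl).symm ▸ T.eS) hg).2
  rwa [show n - 1 - 1 = n - 2 by omega] at h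

/-- The shift property at level `i`. -/
def Shift (i : ℕ) : Prop :=
  ∀ x ∈ Dof S n E k (i + 1), x ∉ Dof S n E k i →
    (i = 1 → ⁅x, e⁆ ≠ 1) ∧ (2 ≤ i → ⁅x, e⁆ ∉ Dof S n E k (i - 1))

omit [Finite S] in
theorem conj_D_mem {i : ℕ} (hi : i ≤ k) (hok : i < k ∨ k + 3 ≤ n) {g : Ω}
    (hg : g ∈ normalizerIn S (Uof S E k i)) {x : Ω} (hx : x ∈ Dof S n E k i) :
    g * x * g⁻¹ ∈ Dof S n E k i :=
  T.U_inf hi hok ((Subgroup.mem_normalizer_iff.1 hg.2 x).1 (T.D_le_U i hx))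
    (conj_mem_zTerm (T.D_le_top hi hok hx) hg.1)

omit [Finite S] in
theorem W_inv {i : ℕ} (h2 : 2 ≤ i) (hi : i ≤ k) (hok : i < k ∨ k + 3 ≤ n)
    (hsh : Shift (S := S) (n := n) (E := E) (k := k) (e := e) (i - 1)) {g : Ω}
    (hg : g ∈ normalizerIn S (Uof S E k i)) {x : Ω} (hx : x ∈ Dof S n E k (i - 1)) :
    g * x * g⁻¹ ∈ Dof S n E k (i - 1) := by
  by_contra hno
  have hx' := T.conj_D_mem hi hok hg (T.D_mono (Nat.sub_le i 1) hx)
  obtain ⟨hs1, hs2⟩ := hsh _ (by rwa [Nat.sub_add_cancel (show 1 ≤ i by omega)]) hno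
  have hgi : g⁻¹ ∈ normalizerIn S (Uof S E k i) := inv_mem hg
  have hxS := T.D_le_S _ hx
  have hU : Uof S E k i ≤ commSub S (i - 2) hxS := by
    intro w hw
    obtain ⟨j, d, hd, rfl⟩ := T.mem_U hw
    refine mul_mem (zpow_mem (show e ∈ commSub S (i - 2) hxS from ⟨T.eS, ?_⟩) j)
      (show d ∈ commSub S (i - 2) hxS from ⟨T.D_le_S _ hd, ?_⟩)
    · exact zTerm_mono (by omega) (T.comm_De (by omega) hx)
    · rw [show i = i - 1 + 1 by omega] at hd
      exact zTerm_mono (by omega) (comm_symm (T.comm_DD (i := i - 1) (by omega) (by omega)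
        (by omega) hd hx))
  have h1 : ⁅g * x * g⁻¹, e⁆ ∈ zTerm S (i - 2) := by
    have hm : g⁻¹ * e * g ∈ Uof S E k i := by
      have := (Subgroup.mem_normalizer_iff.1 hgi.2 e).1 (T.e_mem_U i)
      rwa [inv_inv] at this
    have := conj_mem_zTerm (hU hm).2 hg.1
    rwa [show g * ⁅x, g⁻¹ * e * g⁆ * g⁻¹ = ⁅g * x * g⁻¹, e⁆ by
      simp only [commutatorElement_def]; group] at this
  rcases Nat.lt_or_ge i 3 with h | h
  · rw [show i - 2 = 0 by omega, zTerm_zero, Subgroup.mem_bot] at h1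
    exact hs1 (by omega) h1
  · exact hs2 (by omega) (T.Z_le_D ((show i - 2 ≤ i - 1 - 1 by omega).trans (le_ix k _)) h1)

/-- Counting the conjugates of `e` modulo `Dof (i - 1)`. -/
theorem count {i : ℕ} (h2 : 2 ≤ i) (hi : i ≤ k) (hok : i < k ∨ k + 3 ≤ n)
    (hsh : Shift (S := S) (n := n) (E := E) (k := k) (e := e) (i - 1))
    (hN : normalizerIn S (Uof S E k (i - 1)) = Uof S E k i) :
    Nat.card (normalizerIn S (Uof S E k i)) ≤ p * Nat.card (Uof S E k i) ∧
      (Uof S E k i ≠ S → ∀ x ∈ Dof S n E k i, ∃ g ∈ normalizerIn S (Uof S E k i),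
        ⁅g, e⁆ * x⁻¹ ∈ Dof S n E k (i - 1)) := by
  have hp := T.st.mc.prime
  set U := Uof S E k i with hU
  set D := Dof S n E k i with hD
  set W := Dof S n E k (i - 1) with hW
  set N := normalizerIn S U with hNdef
  have := finite_of_le (normalizerIn_le S U)
  have : Finite D := T.finite_D i
  have hUN : U ≤ N := le_normalizerIn (T.U_le_S i)
  have hmem : ∀ g ∈ N, ⁅g, e⁆ ∈ D := fun g hg =>
    T.U_inf hi hok (mul_mem ((Subgroup.mem_normalizer_iff.1 hg.2 e).1 (T.e_mem_U i))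
      (inv_mem (T.e_mem_U i))) (T.comm_top hg.1)
  let φ : N ⧸ U.subgroupOf N → D ⧸ W.subgroupOf D := fun q =>
    QuotientGroup.mk (⟨⁅(q.out : Ω), e⁆⁻¹, inv_mem (hmem _ q.out.2)⟩ : D)
  have hinj : Function.Injective φ := by
    intro q q' h
    rw [← QuotientGroup.out_eq' q, ← QuotientGroup.out_eq' q', QuotientGroup.eq,
      Subgroup.mem_subgroupOf]
    set g : Ω := (q'.out : Ω)
    set g' : Ω := (q.out : Ω)
    have hgN : g ∈ N := q'.out.2
    have hg'N : g' ∈ N := q.out.2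
    have h1 : ⁅g', e⁆ * ⁅g, e⁆⁻¹ ∈ W := by
      have := Subgroup.mem_subgroupOf.1 (QuotientGroup.eq.1 h)
      simpa using this
    show g'⁻¹ * g ∈ U
    have hh : g⁻¹ * g' ∈ N := mul_mem (inv_mem hgN) hg'N
    suffices g⁻¹ * g' ∈ U by simpa using inv_mem this
    rw [← hN]
    refine T.conj_U hh.1 ?_ fun d hd => ?_
    · have h3 := T.W_inv h2 hi hok hsh (inv_mem hgN) h1
      rwa [show g⁻¹ * (⁅g', e⁆ * ⁅g, e⁆⁻¹) * g⁻¹⁻¹ = ⁅g⁻¹ * g', e⁆ by
        simp only [commutatorElement_def]; group] at h3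
    · exact mul_mem (T.W_inv h2 hi hok hsh hh hd) (inv_mem hd)
  have hcardD : Nat.card (D ⧸ W.subgroupOf D) = p := by
    have h1 := Subgroup.card_mul_index (W.subgroupOf D)
    rw [Nat.card_congr (Subgroup.subgroupOfEquivOfLe (T.D_mono (Nat.sub_le i 1))).toEquiv,
      T.card_D (by omega) (by omega) (Or.inl (by omega)), hD, T.card_D (by omega) hi hok,
      Subgroup.index_eq_card] at h1
    refine Nat.eq_of_mul_eq_mul_left (pow_pos hp.pos (i - 1 + 1)) (h1.trans ?_)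
    rw [← pow_succ]; congr 1; omega
  have hle := Nat.card_le_card_of_injective φ hinj
  rw [hcardD] at hle
  have hmul := Subgroup.card_mul_index (U.subgroupOf N)
  rw [Nat.card_congr (Subgroup.subgroupOfEquivOfLe hUN).toEquiv, Subgroup.index_eq_card] at hmul
  refine ⟨hmul ▸ by rw [mul_comm p]; exact Nat.mul_le_mul_left _ hle, fun hne x hx => ?_⟩
  have hge : p ≤ Nat.card (N ⧸ U.subgroupOf N) := by
    have hlt : U < N := lt_normalizerIn T.st.isP (lt_of_le_of_ne (T.U_le_S i) hne)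
    rw [← Subgroup.index_eq_card]
    obtain ⟨m, hm⟩ := (T.st.isP.to_le (normalizerIn_le S U)).index (U.subgroupOf N)
    rw [hm]
    refine Nat.le_self_pow (fun h => ?_) p
    rw [h, pow_zero, Subgroup.index_eq_one, Subgroup.subgroupOf_eq_top] at hm
    exact hlt.not_ge hm
  have hbij : Function.Bijective φ := by
    rw [Nat.bijective_iff_injective_and_card]
    exact ⟨hinj, le_antisymm (Nat.card_le_card_of_injective φ hinj) (hcardD.le.trans hge)⟩
  obtain ⟨q, hq⟩ := hbij.2 (QuotientGroup.mk (⟨x⁻¹, inv_mem hx⟩ : D))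
  refine ⟨q.out, q.out.2, ?_⟩
  have := Subgroup.mem_subgroupOf.1 (QuotientGroup.eq.1 hq)
  simpa using this

theorem U_step_le {i : ℕ} (h1 : 1 ≤ i) (hi : i < k) (hok : i + 1 < k ∨ k + 3 ≤ n) :
    Uof S E k (i + 1) ≤ normalizerIn S (Uof S E k i) := by
  refine sup_le ((le_sup_left : E ≤ Uof S E k i).trans (le_normalizerIn (T.U_le_S i)))
    fun x hx => ?_
  have hxD : x ∈ Dof S n E k (i + 1) := mem_sup_right hx
  exact T.conj_U (zTerm_le S _ hx) (T.comm_De' hi hxD) fun d hd =>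
    T.Z_le_D ((Nat.sub_le i 1).trans (le_ix k i)) (T.comm_DD h1 hi hok hxD hd)

/-- The main induction: shift and normalizers. -/
theorem shift_normalizer {i : ℕ} (h1 : 1 ≤ i) (hi : i < k) (hok : i + 1 < k ∨ k + 3 ≤ n) :
    Shift (S := S) (n := n) (E := E) (k := k) (e := e) i ∧
      normalizerIn S (Uof S E k i) = Uof S E k (i + 1) := by
  induction i using Nat.strong_induction_on with
  | _ i ih =>
  rcases Nat.lt_or_ge i 2 with h | h
  · obtain rfl : i = 1 := by omega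
    refine ⟨fun x hx hx' => ⟨fun _ he => hx' ?_, fun h' => absurd h' (by omega)⟩, ?_⟩
    · rw [T.D_one]
      have hxS := T.D_le_S _ hx
      have hxE : x ∈ E := T.tgt.soft.cent (mem_centralizerIn'.2 ⟨hxS, fun a ha => by
        obtain ⟨a₁, j, l, rfl⟩ := T.fr.span a ha
        have hY : ∀ b ∈ Yof S n E, Commute x b := fun b hb => by
          have := T.comm_DD le_rfl hi hok hx (T.D_one.symm ▸ hb : b ∈ Dof S n E k 1)
          rw [zTerm_zero, Subgroup.mem_bot, commutatorElement_eq_one_iff_commute] at this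
          exact this
        have hxc : Commute x (u ^ a₁ * e ^ j * c ^ l) :=
          (((hY u T.fr.u_mem_Y).zpow_right a₁).mul_right
            ((commutatorElement_eq_one_iff_commute.1 he).zpow_right j)).mul_right
            ((hY c T.fr.c_mem_Y).zpow_right l)
        rw [hxc.eq, mul_inv_cancel_right]⟩)
      exact Subgroup.mem_inf.2 ⟨hxE, T.D_le_top hi hok hx⟩
    · rw [T.U_one]
      have := finite_of_le (normalizerIn_le S E)
      refine (Subgroup.eq_of_le_of_card_ge (by simpa [T.U_one] using T.U_step_le le_rfl hi hok) ?_).symm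
      rw [T.st.card_N T.tgt, T.card_U (by omega) hi hok]
  · obtain ⟨hsh, hN⟩ := ih (i - 1) (by omega) (by omega) (by omega) (Or.inl (by omega))
    rw [Nat.sub_add_cancel (show 1 ≤ i by omega)] at hN
    refine ⟨fun x hx hx' => ⟨fun h' => absurd h' (by omega), fun _ hcon => hx' ?_⟩, ?_⟩
    · refine T.U_inf hi.le (Or.inl hi) ?_ (T.D_le_top hi hok hx)
      rw [← hN]
      refine T.conj_U (T.D_le_S _ hx) hcon fun d hd => ?_
      exact T.Z_le_D (le_ix k _) (T.comm_DD h1 hi hok hx (T.D_mono (Nat.sub_le i 1) hd))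
    · have := finite_of_le (normalizerIn_le S (Uof S E k i))
      refine (Subgroup.eq_of_le_of_card_ge (T.U_step_le h1 hi hok) ?_).symm
      refine (T.count h hi.le (Or.inl hi) hsh hN).1.trans ?_
      rw [T.card_U h1 hi.le (Or.inl hi), T.card_U (by omega) hi hok, ← pow_succ']

theorem normalizer_U {i : ℕ} (h1 : 1 ≤ i) (hi : i < k) (hok : i + 1 < k ∨ k + 3 ≤ n) :
    normalizerIn S (Uof S E k i) = Uof S E k (i + 1) :=
  (T.shift_normalizer h1 hi hok).2

theorem not_comm_mem {i : ℕ} (h2 : 2 ≤ i) (hi : i < k) (hok : i + 1 < k ∨ k + 3 ≤ n) {x : Ω}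
    (hx : x ∈ Dof S n E k (i + 1)) (hx' : x ∉ Dof S n E k i) :
    ⁅x, e⁆ ∉ Dof S n E k (i - 1) :=
  ((T.shift_normalizer (by omega) hi hok).1 x hx hx').2 h2

theorem not_comm_one (hok : 2 < k ∨ k + 3 ≤ n) {x : Ω} (hx : x ∈ Dof S n E k 2)
    (hx' : x ∉ Dof S n E k 1) : ⁅x, e⁆ ≠ 1 :=
  ((T.shift_normalizer le_rfl T.k2 hok).1 x hx hx').1 rfl

theorem U_ne_S {i : ℕ} (h1 : 1 ≤ i) (hi : i ≤ k) (hok : i < k ∨ k + 3 ≤ n) :
    Uof S E k i ≠ S := by
  intro h
  have h1' := T.card_U h1 hi hok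
  rw [h, T.st.card_S] at h1'
  have := Nat.pow_right_injective T.st.mc.prime.two_le h1'
  have := T.kn
  omega

/-- The normalizer of `Uof i` moves `e` over the whole layer. -/
theorem orbit {i : ℕ} (h2 : 2 ≤ i) (hi : i ≤ k) (hok : i < k ∨ k + 3 ≤ n) {x : Ω}
    (hx : x ∈ Dof S n E k i) :
    ∃ g ∈ normalizerIn S (Uof S E k i), ⁅g, e⁆ * x⁻¹ ∈ Dof S n E k (i - 1) := by
  obtain ⟨hsh, hN⟩ := T.shift_normalizer (i := i - 1) (by omega) (by omega)
    (by omega)
  rw [Nat.sub_add_cancel (show 1 ≤ i by omega)] at hN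
  exact (T.count h2 hi hok hsh hN).2 (T.U_ne_S (by omega) hi hok) x hx

end Data

end CfsgLib.FusionPearl
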