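import Cfsg.Agent.FusionPearl.Twist

/-!
# The extension to `S` of the torus element and its weights on the layers

`Data.exists_beta`; `weight`: weights multiply along commutators; `exists_scal`; `split_mem`;
`exists_primitive`: an integer generating the units modulo `p`.
-/

set_option autoImplicit false

namespace CfsgLib.FusionPearl

open Cfsg Cfsg.FusionSystem CfsgLib.Fusion CfsgLib.PMaxClass Subgroup
open scoped commutatorElement Pointwise

variable {Ω : Type*} [Group Ω] {S : Subgroup Ω} {p n : ℕ} {F : FusionSystem S}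

theorem zeq {a b : ℤ} (h : (p : ℤ) ∣ a - b) : (a : ZMod p) = b :=
  ((ZMod.intCast_eq_intCast_iff_dvd_sub b a p).2 h).symm

theorem zdvd {a b : ℤ} (h : (a : ZMod p) = b) : (p : ℤ) ∣ a - b :=
  (ZMod.intCast_eq_intCast_iff_dvd_sub b a p).1 h.symm

theorem exists_primitive (p : ℕ) [Fact p.Prime] :
    ∃ (g : (ZMod p)ˣ) (l l' : ℤ), orderOf g = p - 1 ∧ (l : ZMod p) = g ∧
      (l' : ZMod p) = (g⁻¹ : (ZMod p)ˣ) ∧ (p : ℤ) ∣ l * l' - 1 := by
  obtain ⟨g, hg⟩ := IsCyclic.exists_ofOrder_eq_natCard (α := (ZMod p)ˣ)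
  rw [Nat.card_eq_fintype_card, ZMod.card_units] at hg
  refine ⟨g, ((g : ZMod p).val : ℤ), (((g⁻¹ : (ZMod p)ˣ) : ZMod p).val : ℤ), hg,
    by rw [Int.cast_natCast, ZMod.natCast_zmod_val],
    by rw [Int.cast_natCast, ZMod.natCast_zmod_val], zdvd ?_⟩
  rw [Int.cast_mul, Int.cast_natCast, Int.cast_natCast, ZMod.natCast_zmod_val,
    ZMod.natCast_zmod_val, Int.cast_one, ← Units.val_mul, mul_inv_cancel, Units.val_one]

theorem auto_inv (β : MulAut S) {j : ℕ} {x : S} (hx : (x : Ω) ∈ zTerm S j) :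
    (β x : Ω) ∈ zTerm S j := by
  rw [coe_mem_zTerm] at hx ⊢
  have h : (Subgroup.upperCentralSeries S j).comap β.toMonoidHom = Subgroup.upperCentralSeries S j :=
    (inferInstance : (Subgroup.upperCentralSeries S j).Characteristic).fixed β
  rw [← h] at hx
  exact hx

/-- Weights multiply along commutators. -/
theorem weight [Fact p.Prime] (hS : IsPGroup p S) (β : MulAut S) {j : ℕ} (h2 : 2 ≤ j) {x t : S}
    (hx : (x : Ω) ∈ zTerm S j) (hw' : ⁅(x : Ω), (t : Ω)⁆ ∉ zTerm S (j - 2)) {a b : ℤ} {g : Ω}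
    (hg : g ∈ S) (hgx : ⁅g, (x : Ω)⁆ ∈ zTerm S (j - 2)) (hβt : (β t : Ω) = (t : Ω) ^ b * g)
    (hβx : (β x : Ω) * ((x : Ω) ^ a)⁻¹ ∈ zTerm S (j - 1)) {c : ℤ}
    (hβw : (β ⁅x, t⁆ : Ω) * (⁅(x : Ω), (t : Ω)⁆ ^ c)⁻¹ ∈ zTerm S (j - 2)) :
    (p : ℤ) ∣ a * b - c := by
  have hd : ((x : Ω) ^ a)⁻¹ * (β x : Ω) ∈ zTerm S (j - 1) := by
    have := conj_mem_zTerm hβx (inv_mem (zpow_mem x.2 a))
    simpa [mul_assoc] using this
  have hxt : ⁅(x : Ω), (t : Ω)⁆ ∈ zTerm S (j - 1) := (commutator_pred hx t.2).1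
  have hj : j - 1 - 1 = j - 2 := by omega
  have h := comm_calc_mem (j := j - 2) x.2 t.2 (zTerm_le S _ hd) hg
    (hj ▸ (commutator_pred hd t.2).1) (hj ▸ (commutator_pred hd hg).1) hgx
    (hj ▸ (commutator_pred hxt x.2).1) (hj ▸ (commutator_pred hxt t.2).1) a b
  rw [mul_inv_cancel_left, ← hβt] at h
  refine dvd_sub_of_mem hS (zTerm_le S _ hxt) hw' (z := (β ⁅x, t⁆ : Ω)) ?_ hβw
  rw [map_commutatorElement]
  exact h

namespace Setting

variable [Fact p.Prime] [Finite S] (σ : Setting p n F)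
include σ

/-- Every automorphism acts on a layer by a scalar. -/
theorem exists_scal (β : MulAut S) {j : ℕ} (h1 : 1 ≤ j) (hj : j ≤ n - 2) :
    ∃ a : ℤ, ∀ x : S, (x : Ω) ∈ zTerm S j → (β x : Ω) * ((x : Ω) ^ a)⁻¹ ∈ zTerm S (j - 1) := by
  obtain ⟨x₀, hx₀, hx₀'⟩ := σ.mc.exists_layer h1 hj
  set X : S := ⟨x₀, zTerm_le S j hx₀⟩
  obtain ⟨a, v, hv, hav⟩ := σ.mc.exists_eq_pow_mul h1 hj hx₀ hx₀' (auto_inv β (x := X) hx₀)
  refine ⟨a, fun x hx => ?_⟩
  obtain ⟨m, w, hw, hmw⟩ := σ.mc.exists_eq_pow_mul h1 hj hx₀ hx₀' hx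
  set W : S := ⟨w, zTerm_le S _ hw⟩
  have hxe : x = X ^ m * W := Subtype.ext hmw
  have h0 : ∀ z : S, (z : Ω) ∈ zTerm S (j - 1) → zQuot S (j - 1) z = 1 := fun z => zQuot_eq_one.2
  have hX : zQuot S (j - 1) (β X) = zQuot S (j - 1) X ^ a := by
    rw [show β X = X ^ a * ⟨v, zTerm_le S _ hv⟩ from Subtype.ext hav, map_mul, map_zpow, h0 ⟨v, zTerm_le S _ hv⟩ hv,
      mul_one]
  have : zQuot S (j - 1) (β x) = zQuot S (j - 1) (x ^ a) := by
    rw [hxe, map_mul, map_mul, map_zpow, map_zpow, map_zpow, map_mul, map_zpow,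
      h0 W hw, h0 (β W) (auto_inv β hw), hX, mul_one, mul_one, ← zpow_mul, ← zpow_mul, mul_comm]
  simpa using zQuot_eq.1 this

end Setting

theorem conj_mem_split {e : Ω} {g b : Ω} (he : e ∈ S)
    (hZ : ∀ x ∈ S, ∀ y ∈ S, ⁅x, y⁆ ∈ zTerm S (n - 2)) (hg : g ∈ S)
    (hb : b ∈ zpowers e ⊔ zTerm S (n - 2)) : g * b * g⁻¹ ∈ zpowers e ⊔ zTerm S (n - 2) := by
  rw [conj_eq_commutator_mul]
  refine mul_mem (mem_sup_right (hZ g hg b ?_)) hb
  exact (sup_le (zpowers_le.2 he) (zTerm_le S _) : zpowers e ⊔ zTerm S (n - 2) ≤ S) hb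

namespace Data

variable [Fact p.Prime] [Finite S] {E : Subgroup Ω} {k : ℕ} {y u e c : Ω}
  (T : Data p n F E k y u e c)
include T

theorem comm_mem_top {x w : Ω} (hx : x ∈ S) (hw : w ∈ S) : ⁅x, w⁆ ∈ zTerm S (n - 2) := by
  have hn := T.n5
  have h := (commutator_pred (i := n - 1) ((T.st.Z_top le_rfl).symm ▸ hx) hw).1
  rwa [show n - 1 - 1 = n - 2 by omega] at h

/-- Elements of the centraliser of a layer generator. -/
theorem split_mem {j : ℕ} (h2 : 2 ≤ j) (hj : j ≤ n - 2) {x : Ω} (hx : x ∈ zTerm S j)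
    (hx' : x ∉ zTerm S (j - 1)) (hxe : ⁅x, e⁆ ∈ zTerm S (j - 2)) {t : Ω} (ht : t ∈ S)
    (htx : ⁅x, t⁆ ∈ zTerm S (j - 2)) : t ∈ zpowers e ⊔ zTerm S (n - 2) := by
  by_contra hno
  have hn := T.n5
  have hxS := zTerm_le S _ hx
  have hle : S ≤ commSub S (j - 2) hxS :=
    (T.st.le_sup_pair T.eS ht T.fr.eZ hno).trans (sup_le (sup_le
      (zpowers_le.2 ⟨T.eS, hxe⟩) (zpowers_le.2 ⟨ht, htx⟩))
      fun w hw => ⟨zTerm_le S _ hw, T.st.comm_Z (by omega) (by omega) hx hw⟩)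
  refine hx' ?_
  rw [show j - 1 = j - 2 + 1 by omega]
  exact mem_zTerm_succ hxS fun s hs => (hle hs).2

/-- `⁅x, -⁆` kills the line of `e` modulo `Z (j - 2)`. -/
theorem split_comm {j : ℕ} (h2 : 2 ≤ j) (hj : j ≤ n - 2) {x : Ω} (hx : x ∈ zTerm S j)
    (hxe : ⁅x, e⁆ ∈ zTerm S (j - 2)) {g : Ω} (hg : g ∈ zpowers e ⊔ zTerm S (n - 2)) :
    ⁅g, x⁆ ∈ zTerm S (j - 2) := by
  have hn := T.n5
  have hle : zpowers e ⊔ zTerm S (n - 2) ≤ commSub S (j - 2) (zTerm_le S _ hx) :=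
    sup_le (zpowers_le.2 ⟨T.eS, hxe⟩)
      fun w hw => ⟨zTerm_le S _ hw, T.st.comm_Z (by omega) (by omega) hx hw⟩
  exact comm_symm (hle hg).2

/-- Decomposition over an element outside the line of `e`. -/
theorem exists_split {s : Ω} (hs : s ∈ S) (hs' : s ∉ zpowers e ⊔ zTerm S (n - 2)) {t : Ω}
    (ht : t ∈ S) : ∃ (m : ℤ) (g : Ω), g ∈ zpowers e ⊔ zTerm S (n - 2) ∧ t = s ^ m * g := by
  have hle : S ≤ zpowers s ⊔ (zpowers e ⊔ zTerm S (n - 2)) :=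
    (T.st.le_sup_pair T.eS hs T.fr.eZ hs').trans (sup_le (sup_le (le_sup_left.trans le_sup_right)
      le_sup_left) (le_sup_right.trans le_sup_right))
  have hnorm : zpowers s ≤ normalizer ((zpowers e ⊔ zTerm S (n - 2) : Subgroup Ω) : Set Ω) := by
    refine zpowers_le.2 ?_
    rw [Subgroup.mem_normalizer_iff]
    refine fun x => ⟨conj_mem_split T.eS (fun a ha b hb => T.comm_mem_top ha hb) hs, fun hx => ?_⟩
    have := conj_mem_split T.eS (fun a ha b hb => T.comm_mem_top ha hb) (inv_mem hs) hx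
    simpa [mul_assoc] using this
  have h := hle ht
  rw [← SetLike.mem_coe, Subgroup.coe_mul_of_left_le_normalizer_right _ _ hnorm] at h
  obtain ⟨_, ⟨m, rfl⟩, g, hg, rfl⟩ := h
  exact ⟨m, g, hg, rfl⟩

theorem exists_split_e {g : Ω} (hg : g ∈ zpowers e ⊔ zTerm S (n - 2)) :
    ∃ (m : ℤ) (v : Ω), v ∈ zTerm S (n - 2) ∧ g = e ^ m * v := by
  rw [← SetLike.mem_coe, Subgroup.coe_mul_of_left_le_normalizer_right _ _
    ((zpowers_le.2 T.eS).trans (le_normalizer_zTerm _))] at hg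
  obtain ⟨_, ⟨m, rfl⟩, v, hv, rfl⟩ := hg
  exact ⟨m, v, hv, rfl⟩

/-- The torus element extends to `S`. -/
theorem exists_beta {l l' : ℤ} {α : MulAut (Uof S E k k)} (hα : Tw p n F E k u e c l l' k α)
    (hpred : ∀ x : Uof S E k k, (x : Ω) ∈ zTerm S (k - 1) → (α x : Ω) ∈ zTerm S (k - 1)) :
    ∃ β : MulAut S, ∀ (x : S) (x' : Uof S E k k), (x : Ω) = x' → (x' : Ω) ∈ zTerm S (k + 1) →
      (β x : Ω) = α x' := by
  have hk := T.kn3
  have hDk : Dof S n E k k = zTerm S (k + 1) := T.D_top hk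
  have hQU : zTerm S (k + 1) ≤ Uof S E k k := hDk ▸ T.D_le_U k
  obtain ⟨α', hα', hagree⟩ := exists_restrict_aut (T.U_le_S k) hQU hα.mem
    (by rw [← hDk]; exact hα.hD k le_rfl)
  let Dser : ℕ → Subgroup Ω := fun m => zTerm S (k + 1 - m)
  have hTN : S ≤ normalizerIn S (zTerm S (k + 1)) := le_inf le_rfl (le_normalizer_zTerm _)
  have hpres : ∀ j ≤ k + 1, ∀ z : zTerm S (k + 1), (z : Ω) ∈ zTerm S j →
      (α' z : Ω) ∈ zTerm S j := by
    intro j hj z hz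
    rw [hagree z ⟨z, hQU z.2⟩ rfl]
    rcases Nat.lt_or_ge j (k - 1) with h | h
    · exact hα.hZ j (by omega) (by omega) _ hz
    obtain rfl | rfl | rfl : j = k - 1 ∨ j = k ∨ j = k + 1 := by omega
    · exact hpred _ hz
    · rw [← T.D_pred] at hz ⊢
      exact hα.hD _ (Nat.sub_le _ 1) _ hz
    · exact hDk.le (hα.hD _ le_rfl _ (hDk.ge hz))
  obtain ⟨φ, hφ, hφx⟩ := exists_extension_of_series T.st.isP T.st.sat
    (fullyNormalized_of_normal (zTerm_le S _) (le_normalizer_zTerm _)) Dser (k + 1) rfl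
    (by simp [Dser]) (fun i => zTerm_mono (Nat.sub_le _ i))
    (fun i => (normalizerIn_le S _).trans (le_normalizer_zTerm _)) hα'
    (fun i z hz => hpres _ (Nat.sub_le _ i) z hz) hTN
    (fun g hg i hi x hx => by
      rw [show x⁻¹ * (g * x * g⁻¹) = ⁅x⁻¹, g⁆ by simp [commutatorElement_def, mul_assoc]]
      simp only [Dser] at hx ⊢
      rw [show k + 1 - (i + 1) = k + 1 - i - 1 by omega]
      exact (commutator_pred (inv_mem hx) hg).1)
  have hr : φ.range = S := Subgroup.eq_of_le_of_card_ge (range_le hφ)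
    (Nat.card_congr (MonoidHom.ofInjective (F.injective_of_mem hφ)).toEquiv).le
  obtain ⟨β, -, hβx⟩ := exists_aut_of_range hφ hr
  refine ⟨β, fun x x' hxx hx' => ?_⟩
  rw [hβx, show x = ⟨((⟨(x' : Ω), hx'⟩ : zTerm S (k + 1)) : Ω), hxx ▸ x.2⟩ from Subtype.ext hxx,
    hφx ⟨(x' : Ω), hx'⟩]
  exact hagree _ x' rfl

end Data

end CfsgLib.FusionPearl
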